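import Cfsg.Agent.ClassCountO.Classes

set_option autoImplicit false
set_option linter.style.haveILetI false

/-!
Bounds for the weighted counts: the even and odd parts of the generating function.
-/

namespace CfsgLib.ClassCountO

open scoped Classical

variable {q : ℕ} {B : Finset (Fin 4 → Bool)}

/-- The even part at `t² = 1/q`. -/
def Te (q : ℕ) (B : Finset (Fin 4 → Bool)) (r i M : ℕ) : ℚ :=
  ∑ a ∈ Finset.range M, (W q B r i (2 * a) : ℚ) / (q : ℚ) ^ a

/-- The odd part, scaled by `t`. -/
def To (q : ℕ) (B : Finset (Fin 4 → Bool)) (r i M : ℕ) : ℚ :=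
  ∑ a ∈ Finset.range M, (W q B r i (2 * a + 1) : ℚ) / (q : ℚ) ^ (a + 1)

theorem Te_nonneg (r i M : ℕ) : 0 ≤ Te q B r i M := Finset.sum_nonneg fun _ _ => by positivity

theorem To_nonneg (r i M : ℕ) : 0 ≤ To q B r i M := Finset.sum_nonneg fun _ _ => by positivity

theorem zero_level (i M : ℕ) : Te q B 0 i M ≤ 1 ∧ To q B 0 i M = 0 := by
  constructor
  · unfold Te
    refine (Finset.sum_le_sum (g := fun a => if a = 0 then (1 : ℚ) else 0) fun a _ => ?_).trans ?_
    · rcases Nat.eq_zero_or_pos a with rfl | h
      · simp [W]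
      · simp [W, show 2 * a ≠ 0 by omega, h.ne']
    · rw [Finset.sum_ite_eq']
      split_ifs <;> norm_num
  · unfold To
    exact Finset.sum_eq_zero fun a _ => by simp [W]

theorem sum_shift_le (f : ℕ → ℚ) (hf : ∀ a, 0 ≤ f a) (s M : ℕ) :
    ∑ a ∈ Finset.range M, (if s ≤ a then f (a - s) else 0) ≤ ∑ a ∈ Finset.range M, f a := by
  rw [← Finset.sum_filter]
  refine le_trans (le_of_eq ?_) (Finset.sum_le_sum_of_subset_of_nonneg
    (show (Finset.range (M - s)) ⊆ Finset.range M from Finset.range_mono (Nat.sub_le _ _)) fun a _ _ => hf a)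
  refine Finset.sum_nbij' (fun a => a - s) (fun a => a + s) ?_ ?_ ?_ ?_ ?_ <;> intro a ha <;>
    simp only [Finset.coe_filter, Finset.mem_filter, Finset.mem_range, Set.mem_setOf_eq, Finset.coe_range,
      Set.mem_Iio] at ha ⊢ <;>
    omega

/-- The weight of a bit pattern in the even part. -/
def wE (q i k : ℕ) : ℚ := if Even k then (1 / q : ℚ) ^ ((2 * i - 1) * (k / 2)) else
  (1 / q : ℚ) ^ (i - 1) * (1 / q : ℚ) ^ ((2 * i - 1) * (k / 2))

/-- The weight of a bit pattern in the odd part. -/
def wO (q i k : ℕ) : ℚ := if Even k then (1 / q : ℚ) ^ ((2 * i - 1) * (k / 2)) else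
  (1 / q : ℚ) ^ i * (1 / q : ℚ) ^ ((2 * i - 1) * (k / 2))

theorem geom_le (hq : 2 ≤ q) {i : ℕ} (hi : 2 ≤ i) (L : ℕ) :
    ∑ j ∈ Finset.range L, (1 / q : ℚ) ^ ((i - 1) * j) ≤ 1 / (1 - (1 / q : ℚ) ^ (i - 1)) := by
  have hq' : (2 : ℚ) ≤ q := by exact_mod_cast hq
  set y := (1 / q : ℚ) ^ (i - 1)
  have hy0 : 0 ≤ y := by positivity
  have hy1 : y < 1 := pow_lt_one₀ (by positivity) (by rw [div_lt_one (by positivity)]; linarith) (by omega)
  simp only [pow_mul]
  rw [le_div_iff₀ (by linarith), geom_sum_mul_neg]
  linarith [pow_nonneg hy0 L]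

theorem term_even_even (hq : 1 ≤ q) {i : ℕ} (hi : 1 ≤ i) {a j s : ℕ} (h : i * j + (2 * i - 1) * s ≤ a) (w : ℕ) :
    (q : ℚ) ^ j * w / (q : ℚ) ^ a = (1 / q : ℚ) ^ ((i - 1) * j) * (1 / q : ℚ) ^ ((2 * i - 1) * s) *
      ((w : ℚ) / (q : ℚ) ^ (a - (i * j + (2 * i - 1) * s))) := by
  have hq0 : (q : ℚ) ≠ 0 := by exact_mod_cast (by omega : q ≠ 0)
  obtain ⟨r, rfl⟩ := Nat.exists_eq_add_of_le h
  obtain ⟨i, rfl⟩ : ∃ i', i = i' + 1 := ⟨i - 1, by omega⟩
  rw [Nat.add_sub_cancel_left, Nat.add_sub_cancel, one_div, inv_pow, inv_pow]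
  field_simp
  ring

/-- One level, from the second on. -/
theorem step (hq : 2 ≤ q) {r i : ℕ} (hi : 2 ≤ i) (M : ℕ) {bE bO : ℚ} (hE : Te q B r (i + 1) M ≤ bE)
    (hO : To q B r (i + 1) M ≤ bO) :
    Te q B (r + 1) i M ≤ (∑ b ∈ B, wE q i (bitCount b) * if Even (bitCount b) then bE else bO) /
      (1 - (1 / q : ℚ) ^ (i - 1)) ∧
    To q B (r + 1) i M ≤ (∑ b ∈ B, wO q i (bitCount b) * if Even (bitCount b) then bO else bE) /
      (1 - (1 / q : ℚ) ^ (i - 1)) := by
  have hq' : (2 : ℚ) ≤ q := by exact_mod_cast hq
  have hq0 : (q : ℚ) ≠ 0 := by linarith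
  have hbE : 0 ≤ bE := le_trans (Te_nonneg _ _ _) hE
  have hbO : 0 ≤ bO := le_trans (To_nonneg _ _ _) hO
  have hw : ∀ k, 0 ≤ wE q i k ∧ 0 ≤ wO q i k := fun k => by
    unfold wE wO; constructor <;> split_ifs <;> positivity
  have hG := geom_le hq hi (2 * M + 1)
  constructor
  · unfold Te
    calc ∑ a ∈ Finset.range M, (W q B (r + 1) i (2 * a) : ℚ) / (q : ℚ) ^ a
        ≤ ∑ a ∈ Finset.range M, ∑ b ∈ B, ∑ j ∈ Finset.range (2 * M + 1),
          (1 / q : ℚ) ^ ((i - 1) * j) * wE q i (bitCount b) *
            (if Even (bitCount b) then (if i * j + (2 * i - 1) * (bitCount b / 2) ≤ a then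
              (W q B r (i + 1) (2 * (a - (i * j + (2 * i - 1) * (bitCount b / 2)))) : ℚ) /
                (q : ℚ) ^ (a - (i * j + (2 * i - 1) * (bitCount b / 2))) else 0)
            else (if i * j + (2 * i - 1) * (bitCount b / 2) + i ≤ a then
              (W q B r (i + 1) (2 * (a - (i * j + (2 * i - 1) * (bitCount b / 2) + i)) + 1) : ℚ) /
                (q : ℚ) ^ (a - (i * j + (2 * i - 1) * (bitCount b / 2) + i) + 1) else 0)) := by
          refine Finset.sum_le_sum fun a ha => ?_
          rw [Finset.mem_range] at ha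
          rw [W, Nat.cast_sum, Finset.sum_div]
          refine Finset.sum_le_sum fun b _ => ?_
          rw [Nat.cast_sum, Finset.sum_div]
          refine (Finset.sum_le_sum (g := fun j => (1 / q : ℚ) ^ ((i - 1) * j) * wE q i (bitCount b) *
            (if Even (bitCount b) then (if i * j + (2 * i - 1) * (bitCount b / 2) ≤ a then
              (W q B r (i + 1) (2 * (a - (i * j + (2 * i - 1) * (bitCount b / 2)))) : ℚ) /
                (q : ℚ) ^ (a - (i * j + (2 * i - 1) * (bitCount b / 2))) else 0)
            else (if i * j + (2 * i - 1) * (bitCount b / 2) + i ≤ a then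
              (W q B r (i + 1) (2 * (a - (i * j + (2 * i - 1) * (bitCount b / 2) + i)) + 1) : ℚ) /
                (q : ℚ) ^ (a - (i * j + (2 * i - 1) * (bitCount b / 2) + i) + 1) else 0))) fun j _ => ?_).trans
            (Finset.sum_le_sum_of_subset_of_nonneg (Finset.range_mono (by omega)) fun j _ _ => ?_)
          · rcases Nat.even_or_odd' (bitCount b) with ⟨s, hs | hs⟩
            · rw [hs, if_pos (even_two_mul s), Nat.mul_div_cancel_left _ two_pos]
              have e : 2 * i * j + (2 * i - 1) * (2 * s) = 2 * (i * j + (2 * i - 1) * s) := by ring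
              rw [e]
              by_cases h : i * j + (2 * i - 1) * s ≤ a
              · rw [if_pos h, if_pos (by omega), ← Nat.mul_sub, Nat.cast_mul, Nat.cast_pow,
                  term_even_even (by omega) (by omega) h]
                unfold wE
                rw [if_pos (even_two_mul s), Nat.mul_div_cancel_left _ two_pos]
              · rw [if_neg h, if_neg (by omega)]; simp
            · have hne : ¬ Even (2 * s + 1) := Nat.not_even_iff_odd.2 ⟨s, rfl⟩
              rw [hs, if_neg hne, show (2 * s + 1) / 2 = s by omega]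
              have e : 2 * i * j + (2 * i - 1) * (2 * s + 1) + 1 = 2 * (i * j + (2 * i - 1) * s + i) := by
                obtain ⟨i', rfl⟩ : ∃ i', i = i' + 1 := ⟨i - 1, by omega⟩
                rw [show 2 * (i' + 1) - 1 = 2 * i' + 1 by omega]; ring
              by_cases h : i * j + (2 * i - 1) * s + i ≤ a
              · rw [if_pos h, if_pos (by omega)]
                rw [show 2 * a - (2 * i * j + (2 * i - 1) * (2 * s + 1)) =
                  2 * (a - (i * j + (2 * i - 1) * s + i)) + 1 by omega, Nat.cast_mul, Nat.cast_pow]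
                unfold wE
                rw [if_neg hne, show (2 * s + 1) / 2 = s by omega]
                obtain ⟨t, rfl⟩ := Nat.exists_eq_add_of_le h
                rw [Nat.add_sub_cancel_left]
                obtain ⟨i', rfl⟩ : ∃ i', i = i' + 1 := ⟨i - 1, by omega⟩
                simp only [Nat.add_sub_cancel, one_div, inv_pow]
                refine le_of_eq ?_
                field_simp
                ring
              · rw [if_neg h, if_neg (by omega)]; simp
          · refine mul_nonneg (mul_nonneg (by positivity) (hw _).1) ?_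
            split_ifs <;> positivity
      _ ≤ ∑ b ∈ B, ∑ j ∈ Finset.range (2 * M + 1),
          (1 / q : ℚ) ^ ((i - 1) * j) * (wE q i (bitCount b) * if Even (bitCount b) then bE else bO) := by
          rw [Finset.sum_comm]
          refine Finset.sum_le_sum fun b _ => ?_
          rw [Finset.sum_comm]
          refine Finset.sum_le_sum fun j _ => ?_
          rw [← Finset.mul_sum, mul_assoc]
          refine mul_le_mul_of_nonneg_left (mul_le_mul_of_nonneg_left ?_ (hw _).1) (by positivity)
          by_cases hev : Even (bitCount b)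
          · simp only [if_pos hev]
            exact (sum_shift_le (fun a => (W q B r (i + 1) (2 * a) : ℚ) / (q : ℚ) ^ a) (fun a => by positivity) _ M).trans hE
          · simp only [if_neg hev]
            exact (sum_shift_le (fun a => (W q B r (i + 1) (2 * a + 1) : ℚ) / (q : ℚ) ^ (a + 1)) (fun a => by positivity) _ M).trans hO
      _ ≤ _ := by
          rw [Finset.sum_comm]
          simp only [← Finset.mul_sum]
          rw [← Finset.sum_mul, div_eq_mul_one_div (∑ b ∈ B, _), mul_comm (∑ b ∈ B, _) (1 / _)]
          refine mul_le_mul_of_nonneg_right hG (Finset.sum_nonneg fun b _ => mul_nonneg (hw _).1 ?_)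
          split_ifs <;> assumption
  · unfold To
    calc ∑ a ∈ Finset.range M, (W q B (r + 1) i (2 * a + 1) : ℚ) / (q : ℚ) ^ (a + 1)
        ≤ ∑ a ∈ Finset.range M, ∑ b ∈ B, ∑ j ∈ Finset.range (2 * M + 1),
          (1 / q : ℚ) ^ ((i - 1) * j) * wO q i (bitCount b) *
            (if Even (bitCount b) then (if i * j + (2 * i - 1) * (bitCount b / 2) ≤ a then
              (W q B r (i + 1) (2 * (a - (i * j + (2 * i - 1) * (bitCount b / 2))) + 1) : ℚ) /
                (q : ℚ) ^ (a - (i * j + (2 * i - 1) * (bitCount b / 2)) + 1) else 0)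
            else (if i * j + (2 * i - 1) * (bitCount b / 2) + (i - 1) ≤ a then
              (W q B r (i + 1) (2 * (a - (i * j + (2 * i - 1) * (bitCount b / 2) + (i - 1)))) : ℚ) /
                (q : ℚ) ^ (a - (i * j + (2 * i - 1) * (bitCount b / 2) + (i - 1))) else 0)) := by
          refine Finset.sum_le_sum fun a ha => ?_
          rw [Finset.mem_range] at ha
          rw [W, Nat.cast_sum, Finset.sum_div]
          refine Finset.sum_le_sum fun b _ => ?_
          rw [Nat.cast_sum, Finset.sum_div]
          refine (Finset.sum_le_sum (g := fun j => (1 / q : ℚ) ^ ((i - 1) * j) * wO q i (bitCount b) *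
            (if Even (bitCount b) then (if i * j + (2 * i - 1) * (bitCount b / 2) ≤ a then
              (W q B r (i + 1) (2 * (a - (i * j + (2 * i - 1) * (bitCount b / 2))) + 1) : ℚ) /
                (q : ℚ) ^ (a - (i * j + (2 * i - 1) * (bitCount b / 2)) + 1) else 0)
            else (if i * j + (2 * i - 1) * (bitCount b / 2) + (i - 1) ≤ a then
              (W q B r (i + 1) (2 * (a - (i * j + (2 * i - 1) * (bitCount b / 2) + (i - 1)))) : ℚ) /
                (q : ℚ) ^ (a - (i * j + (2 * i - 1) * (bitCount b / 2) + (i - 1))) else 0))) fun j _ => ?_).trans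
            (Finset.sum_le_sum_of_subset_of_nonneg (Finset.range_mono (by omega)) fun j _ _ => ?_)
          · rcases Nat.even_or_odd' (bitCount b) with ⟨s, hs | hs⟩
            · rw [hs, if_pos (even_two_mul s), Nat.mul_div_cancel_left _ two_pos]
              have e : 2 * i * j + (2 * i - 1) * (2 * s) = 2 * (i * j + (2 * i - 1) * s) := by ring
              rw [e]
              by_cases h : i * j + (2 * i - 1) * s ≤ a
              · rw [if_pos h, if_pos (by omega), show 2 * a + 1 - 2 * (i * j + (2 * i - 1) * s) =
                  2 * (a - (i * j + (2 * i - 1) * s)) + 1 by omega, Nat.cast_mul, Nat.cast_pow,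
                  term_even_even (by omega) (by omega) (a := a + 1) (by omega : i * j + (2 * i - 1) * s ≤ a + 1),
                  Nat.succ_sub h]
                unfold wO
                rw [if_pos (even_two_mul s), Nat.mul_div_cancel_left _ two_pos]
              · rw [if_neg h, if_neg (by omega)]; simp
            · have hne : ¬ Even (2 * s + 1) := Nat.not_even_iff_odd.2 ⟨s, rfl⟩
              rw [hs, if_neg hne, show (2 * s + 1) / 2 = s by omega]
              have e : 2 * i * j + (2 * i - 1) * (2 * s + 1) = 2 * (i * j + (2 * i - 1) * s + (i - 1)) + 1 := by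
                obtain ⟨i', rfl⟩ : ∃ i', i = i' + 1 := ⟨i - 1, by omega⟩
                rw [show 2 * (i' + 1) - 1 = 2 * i' + 1 by omega, Nat.add_sub_cancel]; ring
              rw [e]
              by_cases h : i * j + (2 * i - 1) * s + (i - 1) ≤ a
              · rw [if_pos h, if_pos (by omega)]
                rw [show 2 * a + 1 - (2 * (i * j + (2 * i - 1) * s + (i - 1)) + 1) =
                  2 * (a - (i * j + (2 * i - 1) * s + (i - 1))) by omega, Nat.cast_mul, Nat.cast_pow]
                unfold wO
                rw [if_neg hne, show (2 * s + 1) / 2 = s by omega]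
                obtain ⟨t, rfl⟩ := Nat.exists_eq_add_of_le h
                rw [Nat.add_sub_cancel_left]
                obtain ⟨i', rfl⟩ : ∃ i', i = i' + 1 := ⟨i - 1, by omega⟩
                simp only [Nat.add_sub_cancel, one_div, inv_pow]
                refine le_of_eq ?_
                field_simp
                ring
              · rw [if_neg h, if_neg (by omega)]; simp
          · refine mul_nonneg (mul_nonneg (by positivity) (hw _).2) ?_
            split_ifs <;> positivity
      _ ≤ ∑ b ∈ B, ∑ j ∈ Finset.range (2 * M + 1),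
          (1 / q : ℚ) ^ ((i - 1) * j) * (wO q i (bitCount b) * if Even (bitCount b) then bO else bE) := by
          rw [Finset.sum_comm]
          refine Finset.sum_le_sum fun b _ => ?_
          rw [Finset.sum_comm]
          refine Finset.sum_le_sum fun j _ => ?_
          rw [← Finset.mul_sum, mul_assoc]
          refine mul_le_mul_of_nonneg_left (mul_le_mul_of_nonneg_left ?_ (hw _).2) (by positivity)
          by_cases hev : Even (bitCount b)
          · simp only [if_pos hev]
            exact (sum_shift_le (fun a => (W q B r (i + 1) (2 * a + 1) : ℚ) / (q : ℚ) ^ (a + 1)) (fun a => by positivity) _ M).trans hO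
          · simp only [if_neg hev]
            exact (sum_shift_le (fun a => (W q B r (i + 1) (2 * a) : ℚ) / (q : ℚ) ^ a) (fun a => by positivity) _ M).trans hE
      _ ≤ _ := by
          rw [Finset.sum_comm]
          simp only [← Finset.mul_sum]
          rw [← Finset.sum_mul, div_eq_mul_one_div (∑ b ∈ B, _), mul_comm (∑ b ∈ B, _) (1 / _)]
          refine mul_le_mul_of_nonneg_right hG (Finset.sum_nonneg fun b _ => mul_nonneg (hw _).2 ?_)
          split_ifs <;> assumption

end CfsgLib.ClassCountO
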