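import Cfsg.Agent.ClassCountO.Det

set_option autoImplicit false
set_option linter.style.haveILetI false

/-!
`det h` agrees up to squares with the product of `det (rho c e h) ^ e` over the roots `±1`.
-/

namespace CfsgLib.ClassCountO

open Polynomial Matrix CfsgLib.InvNorm
open CfsgLib.ClassCount (Item IsItem Decomp)
open CfsgLib.ClassCountSp (gen rho rho_one rho_sub rho_mul Blk det_rho_ne commute_aeval)
open scoped Classical

variable {F : Type*} [Field F] [Fintype F] {N : ℕ} {J A : Matrix (Fin N) (Fin N) F}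

/-- `1 + n` has determinant one for nilpotent `n`. -/
theorem det_one_add_nilpotent {n : Matrix (Fin N) (Fin N) F} (hn : IsNilpotent n) : (1 + n).det = 1 := by
  rcases subsingleton_or_nontrivial (Matrix (Fin N) (Fin N) F) with hss | hnt
  · rw [Subsingleton.elim (1 + n) 1, det_one]
  obtain ⟨p, hp⟩ := CharP.exists F
  obtain ⟨k, hpp, -⟩ := FiniteField.card F p
  haveI := Fact.mk hpp
  haveI : CharP (Matrix (Fin N) (Fin N) F) p :=
    charP_of_injective_algebraMap (algebraMap F (Matrix (Fin N) (Fin N) F)).injective p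
  obtain ⟨L, hL⟩ := hn
  have hP : (1 + n) ^ (p ^ L) = 1 := by
    rw [add_pow_char_pow_of_commute (p := p) (n := L) (h := Commute.one_left _), one_pow,
      pow_eq_zero_of_le (Nat.lt_pow_self hpp.one_lt).le hL, add_zero]
  have h1 := congrArg Matrix.det hP
  rw [det_pow, det_one] at h1
  have h2 : ((1 + n).det - 1) ^ (p ^ L) = 0 := by rw [sub_pow_char_pow, h1, one_pow, sub_self]
  exact sub_eq_zero.1 (eq_zero_of_pow_eq_zero h2)

variable (d : Decomp A)

/-- The blocks at `±1`. -/
noncomputable def pmBlocks : Finset (F × ℕ) := ({1, -1} : Finset F) ×ˢ Finset.univ.image d.e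

theorem commute_of_mem_closure (hc : Ctx J A) {x e : Matrix (Fin N) (Fin N) F} (hx : Commute x A)
    (he : e ∈ Subring.closure ({A, adj J A} : Set (Matrix (Fin N) (Fin N) F))) : Commute x e := by
  have hxB : Commute x (adj J A) := by
    calc x * adj J A = adj J A * A * x * adj J A := by rw [hc.inv_mul, one_mul]
      _ = adj J A * (A * x) * adj J A := by simp only [mul_assoc]
      _ = adj J A * x * (A * adj J A) := by rw [← hx.eq]; simp only [mul_assoc]
      _ = adj J A * x := by rw [hc.mul_inv, mul_one]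
  have hle : Subring.closure ({A, adj J A} : Set (Matrix (Fin N) (Fin N) F)) ≤ Subring.centralizer {x} := by
    rw [Subring.closure_le]
    intro a ha
    refine Subring.mem_centralizer_iff.2 fun b hb => ?_
    rw [Set.mem_singleton_iff.1 hb]
    rcases ha with rfl | rfl
    exacts [hx.eq, hxB.eq]
  exact Subring.mem_centralizer_iff.1 (hle he) x rfl

/-- The determinant of a symmetric element of the centraliser up to squares. -/
theorem isSquare_det_mul_prod (hc : Ctx J A) {h : Matrix (Fin N) (Fin N) F} (hh : IsUnit h) (hhA : Commute h A)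
    (hhs : adj J h = h) :
    IsSquare (h.det * ∏ p ∈ pmBlocks d, (rho d p.1 p.2 h).det ^ p.2) := by
  obtain ⟨e, M, hee, hade, hlam, heD, hemem⟩ := exists_pm_idem hc
  have hcx : ∀ {x : Matrix (Fin N) (Fin N) F}, Commute x A → Commute x e := fun hx =>
    commute_of_mem_closure hc hx hemem
  have heA : Commute e A := (hcx (Commute.refl A)).symm
  set D := aeval A (X ^ 2 - 1 : F[X]) with hD
  have hp : ∀ K : ℕ, ∃ z, 1 - e = z * aeval A ((X ^ 2 - 1 : F[X]) ^ K) := by
    intro K
    have hef : (1 - e) * (1 - e) = 1 - e := by rw [mul_sub, mul_one, sub_mul, one_mul, hee, sub_self, sub_zero]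
    set z := A - adj J A with hz
    set U := z * (1 - e) + e with hU
    have hcAz : Commute A z := (Commute.refl A).sub_right (hc.mul_inv.trans hc.inv_mul.symm)
    have hce : Commute z (1 - e) := (Commute.one_right z).sub_right (hcx hcAz.symm)
    have hzD : z = adj J A * D := by
      rw [hz, hD, map_sub, map_pow, aeval_X, map_one, mul_sub, mul_one, sq, ← mul_assoc, hc.inv_mul, one_mul]
    have hUK : U ^ K * (1 - e) = z ^ K * (1 - e) := by
      induction K with
      | zero => simp
      | succ K ih =>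
        have h1 : U * (1 - e) = z * (1 - e) := by
          rw [hU, add_mul, mul_assoc, hef, mul_sub e, mul_one, hee, sub_self, add_zero]
        rw [pow_succ, mul_assoc, h1, ← mul_assoc, mul_assoc (U ^ K), hce.eq, ← mul_assoc, ih, mul_assoc, ← hce.eq,
          ← mul_assoc, pow_succ]
    obtain ⟨u, hu⟩ := hlam.pow K
    have hBD : Commute (adj J A) D := commute_aeval (hc.inv_mul.trans hc.mul_inv.symm) _
    refine ⟨(↑u⁻¹ : Matrix (Fin N) (Fin N) F) * (1 - e) * adj J A ^ K, ?_⟩
    rw [map_pow, ← hD, mul_assoc ((↑u⁻¹ : Matrix (Fin N) (Fin N) F) * (1 - e)), ← hBD.mul_pow, ← hzD, mul_assoc,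
      ← (hce.pow_left K).eq, ← hUK, ← hu, ← mul_assoc, Units.inv_mul, one_mul]
  have hlift : ∀ S : Finset (F × ℕ), S ⊆ pmBlocks d → ∃ x : Matrix (Fin N) (Fin N) F, IsUnit x ∧ Commute x A ∧
      (∀ p ∈ S, rho d p.1 p.2 x = rho d p.1 p.2 h) ∧ (∀ c k, (c, k) ∉ S → rho d c k x = 1) ∧
      x.det = ∏ p ∈ S, (rho d p.1 p.2 h).det ^ p.2 ∧ (1 - e) * x = 1 - e := by
    intro S
    induction S using Finset.induction_on with
    | empty => intro _; exact ⟨1, isUnit_one, Commute.one_left A, by simp, fun c k _ => rho_one d c k, by simp, mul_one _⟩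
    | insert p S hpS ih =>
      intro hsub
      obtain ⟨x, hxu, hxA, hxS, hx1, hxd, hxp⟩ := ih ((Finset.subset_insert _ _).trans hsub)
      have hmem := Finset.mem_product.1 (hsub (Finset.mem_insert_self p S))
      have hcc : p.1 * p.1 = 1 := by
        rcases Finset.mem_insert.1 hmem.1 with h1 | h1
        · rw [h1, one_mul]
        · rw [Finset.mem_singleton.1 h1]; norm_num
      obtain ⟨z, hz⟩ := hp p.2
      obtain ⟨y, hyu, hyA, hyr, hy1, hyd, hyp⟩ := exists_lift_det d (p := 1 - e) hcc p.2 ⟨p.2, z, hz, le_rfl⟩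
        ((Commute.one_left A).sub_left heA) (rho d p.1 p.2 h) (det_rho_ne d hh hhA _ _)
      refine ⟨x * y, hxu.mul hyu, hxA.mul_left hyA, fun q hq => ?_, fun c k hck => ?_, ?_, ?_⟩
      · rw [rho_mul d hxA hyA]
        rcases Finset.mem_insert.1 hq with rfl | hq
        · rw [hx1 _ _ hpS, one_mul, hyr]
        · rw [hy1 q.1 q.2 (fun h => hpS (by rwa [show q = p from h] at hq)), mul_one, hxS q hq]
      · rw [rho_mul d hxA hyA, hx1 c k (fun h => hck (Finset.mem_insert_of_mem h)),
          hy1 c k (fun h => hck (h ▸ Finset.mem_insert_self p S)), one_mul]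
      · rw [det_mul, hxd, hyd, Finset.prod_insert hpS, mul_comm]
      · rw [← mul_assoc, hxp, hyp]
  obtain ⟨x, hxu, hxA, hxS, -, hxd, hxp⟩ := hlift _ subset_rfl
  obtain ⟨x', rfl⟩ := hxu
  set xi : Matrix (Fin N) (Fin N) F := ↑x'⁻¹ with hxi
  have hxiA : Commute xi A := hxA.units_inv_left
  set u := xi * h with hu
  have huA : Commute u A := hxiA.mul_left hhA
  have hru : ∀ c : F, c * c = 1 → ∀ k, rho d c k (u - 1) = 0 := by
    intro c hcc k
    by_cases hk : k ∈ Finset.univ.image d.e
    · have hmem : (c, k) ∈ pmBlocks d := Finset.mem_product.2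
        ⟨by rw [Finset.mem_insert, Finset.mem_singleton]; exact mul_self_eq_one_iff.1 hcc, hk⟩
      rw [rho_sub, rho_one, hu, rho_mul d hxiA hhA, ← hxS _ hmem, ← rho_mul d hxiA hxA, hxi, Units.inv_mul, rho_one,
        sub_self]
    · haveI : IsEmpty (Blk d c k) := ⟨fun i => hk (Finset.mem_image.2 ⟨i.1.1, Finset.mem_univ _, i.2⟩)⟩
      exact Subsingleton.elim _ _
  have hnil := isNilpotent_of_rho d hc heD (hcx (huA.sub_left (Commute.one_left A))).symm
    (huA.sub_left (Commute.one_left A)) hru
  have hq : (1 - e) * xi = 1 - e := by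
    calc (1 - e) * xi = (1 - e) * x' * xi := by rw [hxp]
      _ = 1 - e := by rw [mul_assoc, hxi, Units.mul_inv, mul_one]
  have hpu : u * (1 - e) = h * (1 - e) := by
    have c2 : Commute u (1 - e) := (Commute.one_right u).sub_right (hcx huA)
    rw [c2.eq, hu, ← mul_assoc, hq, ((Commute.one_right h).sub_right (hcx hhA)).eq]
  have hsplit : u = (1 + (u - 1) * e) * (h * (1 - e) + e) := by
    rw [← hpu]
    have c1 : e * u = u * e := (hcx huA).eq.symm
    have c2 : e * (1 - e) = 0 := by rw [mul_sub, mul_one, hee, sub_self]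
    have e1 : (u - 1) * e * (u * (1 - e)) = 0 := by
      rw [mul_assoc, ← mul_assoc e, c1, mul_assoc u, c2, mul_zero, mul_zero]
    have e2 : (u - 1) * e * e = (u - 1) * e := by rw [mul_assoc, hee]
    rw [add_mul, one_mul, mul_add, e1, e2, zero_add]
    noncomm_ring
  have hd : h.det = (x' : Matrix (Fin N) (Fin N) F).det * (h * (1 - e) + e).det := by
    calc h.det = ((x' : Matrix (Fin N) (Fin N) F) * u).det := by rw [hu, ← mul_assoc, hxi, Units.mul_inv, one_mul]
      _ = _ := by rw [det_mul, hsplit, det_mul, det_one_add_nilpotent hnil, one_mul]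
  obtain ⟨a, ha⟩ := isSquare_det_away hc hee hade heA hlam hh hhA hhs (hcx hhA)
  refine ⟨a * (x' : Matrix (Fin N) (Fin N) F).det, ?_⟩
  rw [hd, ← hxd, ha]
  ring

end CfsgLib.ClassCountO
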