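import Cfsg.Agent.ClassCountO.Data
import Cfsg.Agent.ClassCountO.Identity
import Cfsg.Agent.ClassCountU.Classes
import Cfsg.Agent.TransposeConj.Basic

set_option autoImplicit false
set_option linter.style.haveILetI false

/-!
Conjugacy classes of the isometry group of a symmetric form inject into the encodings, and the encodings with the
first flag reversed are missed.
-/

namespace CfsgLib.ClassCountO

open Polynomial Matrix CfsgLib.InvNorm
open CfsgLib.ClassCount (Item IsItem Decomp dataOf)
open CfsgLib.ClassCountU (starItem)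
open CfsgLib.ClassCountSp (Blk bB rho rho_one det_rho_ne Lvl)
open scoped Classical

variable {F : Type*} [Field F] {N : ℕ} {J : Matrix (Fin N) (Fin N) F}

/-- The isometry group of the symmetric matrix `J`. -/
def orthGroup (J : Matrix (Fin N) (Fin N) F) : Subgroup (GL (Fin N) F) where
  carrier := {g | (g : Matrix (Fin N) (Fin N) F)ᵀ * J * (g : Matrix (Fin N) (Fin N) F) = J}
  one_mem' := by simp
  mul_mem' := by
    intro a b ha hb
    simp only [Set.mem_setOf_eq, Units.val_mul, transpose_mul] at ha hb ⊢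
    calc (b : Matrix (Fin N) (Fin N) F)ᵀ * (a : Matrix (Fin N) (Fin N) F)ᵀ * J * (a.1 * b.1)
        = (b : Matrix (Fin N) (Fin N) F)ᵀ * ((a : Matrix (Fin N) (Fin N) F)ᵀ * J * a.1) * b.1 := by
          simp only [mul_assoc]
      _ = J := by rw [ha, hb]
  inv_mem' := by
    intro a ha
    simp only [Set.mem_setOf_eq] at ha ⊢
    calc (↑a⁻¹ : Matrix (Fin N) (Fin N) F)ᵀ * J * (↑a⁻¹ : Matrix (Fin N) (Fin N) F)
        = (↑a⁻¹ : Matrix (Fin N) (Fin N) F)ᵀ * (a.1ᵀ * J * a.1) * ↑a⁻¹ := by rw [ha]
      _ = ((a.1 * ↑a⁻¹ : Matrix (Fin N) (Fin N) F))ᵀ * J * (a.1 * ↑a⁻¹) := by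
          rw [transpose_mul]; simp only [mul_assoc]
      _ = J := by rw [Units.mul_inv, transpose_one, one_mul, mul_one]

/-- Hypotheses on the form. -/
structure Form (J : Matrix (Fin N) (Fin N) F) : Prop where
  hJ : IsUnit J.det
  hT : Jᵀ = J
  h2 : (2 : F) ≠ 0

theorem Form.ctx (hf : Form J) (g : orthGroup J) : Ctx J ((g : GL (Fin N) F) : Matrix (Fin N) (Fin N) F) :=
  ⟨hf.hJ, hf.hT, hf.h2, g.2⟩

variable [Fintype F]

theorem data_fixed (hf : Form J) (g : orthGroup J) :
    (dataOf (g : GL (Fin N) F)).map (starItem (RingHom.id F)) = dataOf (g : GL (Fin N) F) := by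
  set A : GL (Fin N) F := (g : GL (Fin N) F) with hA
  have hc := hf.ctx g
  rw [← hA] at hc
  let Jg : GL (Fin N) F := Matrix.GeneralLinearGroup.mkOfDetNeZero J (isUnit_iff_ne_zero.1 hc.hJ)
  let A' : GL (Fin N) F := Jg * A * Jg⁻¹
  have h : (A' : Matrix (Fin N) (Fin N) F) *
      InvNorm.tau (RingHom.id F) (A : Matrix (Fin N) (Fin N) F) = 1 := by
    rw [mul_eq_one_comm]
    show (((A : Matrix (Fin N) (Fin N) F)).map id)ᵀ * (J * (A : Matrix (Fin N) (Fin N) F) * (↑Jg⁻¹ : Matrix (Fin N) (Fin N) F)) = 1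
    rw [Matrix.map_id, ← mul_assoc, ← mul_assoc, hc.iso]
    exact Jg.mul_inv
  rw [← ClassCountU.dataOf_star (fun _ => rfl) A A' h, ClassCount.dataOf_conj]

theorem blk_card {A : GL (Fin N) F} (d : Decomp (A : Matrix (Fin N) (Fin N) F)) (c : F) (e : ℕ) :
    Fintype.card (Blk d c e) = mult (dataOf A) c e := by
  rw [ClassCount.dataOf_eq d, mult, Decomp.data, Multiset.count_map, ← Finset.filter_val, Finset.card_val,
    ← Fintype.card_subtype]
  refine Fintype.card_congr ⟨fun i => ⟨i.1.1, ?_⟩, fun i => ⟨⟨i.1, ?_⟩, ?_⟩, fun i => ?_, fun i => ?_⟩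
  · exact Prod.ext i.1.2.symm i.2.symm
  · exact (congrArg Prod.fst i.2).symm
  · exact (congrArg Prod.snd i.2).symm
  · rfl
  · rfl

/-- A representative of all isometries with given data. -/
noncomputable def base (J : Matrix (Fin N) (Fin N) F) (D : Multiset (Item F)) : orthGroup J :=
  if h : ∃ g : orthGroup J, dataOf (g : GL (Fin N) F) = D then h.choose else 1

theorem base_data (g : orthGroup J) :
    dataOf (base J (dataOf (g : GL (Fin N) F)) : GL (Fin N) F) = dataOf (g : GL (Fin N) F) := by
  have h : ∃ g' : orthGroup J, dataOf (g' : GL (Fin N) F) = dataOf (g : GL (Fin N) F) := ⟨g, rfl⟩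
  rw [base, dif_pos h]
  exact h.choose_spec

/-- Its decomposition. -/
noncomputable def baseDec (J : Matrix (Fin N) (Fin N) F) (D : Multiset (Item F)) :
    Decomp ((base J D : GL (Fin N) F) : Matrix (Fin N) (Fin N) F) :=
  Classical.choice (ClassCount.exists_decomp _ (Matrix.GeneralLinearGroup.det_ne_zero _))

theorem exists_conjugator (g : orthGroup J) :
    ∃ P : GL (Fin N) F, P * (base J (dataOf (g : GL (Fin N) F)) : GL (Fin N) F) * P⁻¹ = (g : GL (Fin N) F) :=
  isConj_iff.1 (ClassCountU.isConj_GL_of_dataOf (base_data g))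

/-- The chosen conjugator. -/
noncomputable def conjr (g : orthGroup J) : GL (Fin N) F := (exists_conjugator g).choose

/-- The symmetric element attached to `g`. -/
noncomputable def sym (g : orthGroup J) : Matrix (Fin N) (Fin N) F :=
  adj J (conjr g : Matrix (Fin N) (Fin N) F) * (conjr g : Matrix (Fin N) (Fin N) F)

/-- The flag: the block is present and its determinant is a square. -/
noncomputable def flag (J : Matrix (Fin N) (Fin N) F) (D : Multiset (Item F)) (h : Matrix (Fin N) (Fin N) F)
    (c : F) (e : ℕ) : Bool :=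
  decide (Odd e ∧ 0 < mult D c e ∧
    IsSquare (bB (baseDec J D) J c e * rho (baseDec J D) c e h).det)

theorem conjr_spec (g : orthGroup J) :
    (conjr g : Matrix (Fin N) (Fin N) F) * (base J (dataOf (g : GL (Fin N) F)) : GL (Fin N) F) =
      (g : GL (Fin N) F) * (conjr g : Matrix (Fin N) (Fin N) F) := by
  rw [← Units.val_mul, ← Units.val_mul]
  exact congrArg Units.val (mul_inv_eq_iff_eq_mul.1 (exists_conjugator g).choose_spec)

theorem sym_props (hf : Form J) (g : orthGroup J) :
    IsUnit (sym g) ∧ adj J (sym g) = sym g ∧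
      Commute (sym g) ((base J (dataOf (g : GL (Fin N) F)) : GL (Fin N) F) : Matrix (Fin N) (Fin N) F) ∧
      IsSquare (sym g).det := by
  have hc := hf.ctx (base J (dataOf (g : GL (Fin N) F)))
  have hg := hf.ctx g
  set P : Matrix (Fin N) (Fin N) F := (conjr g : Matrix (Fin N) (Fin N) F) with hP
  set A₀ : Matrix (Fin N) (Fin N) F := ((base J (dataOf (g : GL (Fin N) F)) : GL (Fin N) F) : Matrix (Fin N) (Fin N) F)
  set A : Matrix (Fin N) (Fin N) F := ((g : GL (Fin N) F) : Matrix (Fin N) (Fin N) F)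
  have e : P * A₀ = A * P := conjr_spec g
  have hPu : IsUnit P := (conjr g).isUnit
  refine ⟨?_, ?_, ?_, ?_⟩
  · obtain ⟨z, hz⟩ := hPu.exists_left_inv
    exact (IsUnit.of_mul_eq_one (adj J z) (by rw [← adj_mul hc.hJ, hz, adj_one hc.hJ])).mul hPu
  · rw [sym, adj_mul hc.hJ, hc.adj_adj]
  · have h1 : adj J A₀ * sym g * A₀ = sym g := by
      calc adj J A₀ * (adj J P * P) * A₀ = adj J (P * A₀) * (P * A₀) := by
            rw [adj_mul hc.hJ]; simp only [mul_assoc]
        _ = adj J P * (adj J A * A) * P := by rw [e, adj_mul hc.hJ]; simp only [mul_assoc]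
        _ = adj J P * P := by rw [hg.inv_mul, mul_one]
    calc sym g * A₀ = A₀ * adj J A₀ * sym g * A₀ := by rw [hc.mul_inv, one_mul]
      _ = A₀ * (adj J A₀ * sym g * A₀) := by simp only [mul_assoc]
      _ = A₀ * sym g := by rw [h1]
  · refine ⟨P.det, ?_⟩
    rw [sym, det_mul, adj, det_mul, det_mul, det_transpose, Matrix.det_nonsing_inv, Ring.inverse_eq_inv']
    have hJ0 : J.det ≠ 0 := isUnit_iff_ne_zero.1 hc.hJ
    field_simp
    rw [hP]

theorem adm (hf : Form J) (g : orthGroup J) (h : Matrix (Fin N) (Fin N) F) :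
    Adm (dataOf (g : GL (Fin N) F)) (flag J (dataOf (g : GL (Fin N) F)) h) N where
  h2 := hf.h2
  valid := ClassCountU.dataOf_valid _
  size_eq := ClassCountU.dataOf_size _
  fixed := data_fixed hf g
  evenMult c hc e he := by
    obtain ⟨d⟩ := ClassCount.exists_decomp _ (Matrix.GeneralLinearGroup.det_ne_zero (g : GL (Fin N) F))
    rw [← blk_card d]
    exact even_card_even d (hf.ctx g) hc he
  alEven c e he := by simp [flag, Nat.not_odd_iff_even.2 he]
  alLe c e := by
    cases hb : flag J (dataOf (g : GL (Fin N) F)) h c e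
    · simp
    · exact (of_decide_eq_true hb).2.1

/-- The encoding of an element. -/
noncomputable def encO (g : orthGroup J) : Fin (N + 1) → Lvl F :=
  enc (dataOf (g : GL (Fin N) F)) (flag J (dataOf (g : GL (Fin N) F)) (sym g)) N

theorem isSquare_mul_of_not {a b : F} (ha : ¬ IsSquare a) (hb : ¬ IsSquare b) : IsSquare (a * b) := by
  have ha0 : a ≠ 0 := fun h => ha (h ▸ IsSquare.zero)
  have hb0 : b ≠ 0 := fun h => hb (h ▸ IsSquare.zero)
  rw [← quadraticChar_one_iff_isSquare (mul_ne_zero ha0 hb0), map_mul,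
    quadraticChar_neg_one_iff_not_isSquare.2 ha, quadraticChar_neg_one_iff_not_isSquare.2 hb]
  norm_num

/-- Equal data and flags give conjugate elements. -/
theorem isConj_of_eq (hf : Form J) {g g' : orthGroup J}
    (hD : dataOf (g : GL (Fin N) F) = dataOf (g' : GL (Fin N) F))
    (hfl : ∀ c : F, c * c = 1 → ∀ e, flag J (dataOf (g : GL (Fin N) F)) (sym g) c e =
      flag J (dataOf (g' : GL (Fin N) F)) (sym g') c e) : IsConj g g' := by
  obtain ⟨hu, hs, hcm, -⟩ := sym_props hf g
  obtain ⟨hu', hs', hcm', -⟩ := sym_props hf g'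
  set D := dataOf (g : GL (Fin N) F) with hDdef
  rw [← hD] at hcm' hfl
  have hc := hf.ctx (base J D)
  set d := baseDec J D
  have hsq : ∀ c : F, c * c = 1 → ∀ e, Odd e →
      IsSquare ((bB d J c e * rho d c e (sym g)).det * (bB d J c e * rho d c e (sym g')).det) := by
    intro c hc1 e he
    rcases Nat.eq_zero_or_pos (mult D c e) with h0 | hpos
    · have hcard : Fintype.card (Blk d c e) = 0 := by
        rw [blk_card d, hDdef, base_data g, ← hDdef]; exact h0
      haveI := Fintype.card_eq_zero_iff.1 hcard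
      simp
    · have := hfl c hc1 e
      simp only [flag, he, hpos, true_and] at this
      by_cases hs1 : IsSquare (bB d J c e * rho d c e (sym g)).det
      · exact hs1.mul ((decide_eq_decide.1 this).1 hs1)
      · have hs2 : ¬ IsSquare (bB d J c e * rho d c e (sym g')).det := fun h => hs1 ((decide_eq_decide.1 this).2 h)
        exact isSquare_mul_of_not hs1 hs2
  obtain ⟨w, hwu, hwc, hw⟩ := exists_congr_of_det d hc hu hu' hcm hcm' hs hs' hsq
  set P : Matrix (Fin N) (Fin N) F := (conjr g : Matrix (Fin N) (Fin N) F) with hP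
  set P' : Matrix (Fin N) (Fin N) F := (conjr g' : Matrix (Fin N) (Fin N) F) with hP'
  set Pi : Matrix (Fin N) (Fin N) F := ((conjr g')⁻¹ : GL (Fin N) F).1 with hPi
  have p1 : P' * Pi = 1 := (conjr g').mul_inv
  have p2 : Pi * P' = 1 := (conjr g').inv_mul
  have hQ : adj J (P * w * Pi) * (P * w * Pi) = 1 := by
    calc adj J (P * w * Pi) * (P * w * Pi) = adj J Pi * (adj J w * sym g * w) * Pi := by
          rw [sym, ← hP, adj_mul hc.hJ, adj_mul hc.hJ]; simp only [mul_assoc]
      _ = adj J (P' * Pi) * (P' * Pi) := by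
          rw [hw, sym, ← hP', adj_mul hc.hJ P' Pi]; simp only [mul_assoc]
      _ = 1 := by rw [p1, adj_one hc.hJ, mul_one]
  have hiso : (P * w * Pi)ᵀ * J * (P * w * Pi) = J := by
    have key : ∀ M : Matrix (Fin N) (Fin N) F, adj J M * M = 1 → Mᵀ * J * M = J := by
      intro M hM
      calc Mᵀ * J * M = J * J⁻¹ * (Mᵀ * J * M) := by rw [Matrix.mul_nonsing_inv _ hc.hJ, one_mul]
        _ = J * (adj J M * M) := by simp only [adj, mul_assoc]
        _ = J := by rw [hM, mul_one]
    exact key _ hQ
  obtain ⟨qu, hqu⟩ : IsUnit (P * w * Pi) := IsUnit.of_mul_eq_one_right _ hQ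
  let q : orthGroup J := ⟨qu, by show (qu : Matrix (Fin N) (Fin N) F)ᵀ * J * qu = J; rw [hqu]; exact hiso⟩
  have e2 := conjr_spec g'
  rw [← hD] at e2
  refine (isConj_iff.2 ⟨q, ?_⟩).symm
  rw [mul_inv_eq_iff_eq_mul]
  apply Subtype.ext
  apply Units.ext
  show (qu : Matrix (Fin N) (Fin N) F) * ((g' : GL (Fin N) F) : Matrix (Fin N) (Fin N) F) =
    ((g : GL (Fin N) F) : Matrix (Fin N) (Fin N) F) * qu
  rw [hqu]
  have e3 : Pi * ((g' : GL (Fin N) F) : Matrix (Fin N) (Fin N) F) =
      ((base J D : GL (Fin N) F) : Matrix (Fin N) (Fin N) F) * Pi := by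
    calc Pi * ((g' : GL (Fin N) F) : Matrix (Fin N) (Fin N) F) = Pi * (((g' : GL (Fin N) F) : Matrix (Fin N) (Fin N) F) * P') * Pi := by
          rw [mul_assoc, mul_assoc, p1, mul_one]
      _ = Pi * (P' * ((base J D : GL (Fin N) F) : Matrix (Fin N) (Fin N) F)) * Pi := by rw [hP', e2]
      _ = _ := by rw [← mul_assoc, p2, one_mul]
  rw [mul_assoc, e3, ← mul_assoc, mul_assoc P, hwc.eq, ← mul_assoc, hP, conjr_spec g]
  simp only [mul_assoc]

/-- Two isometries of one form cannot have flags differing at exactly one block. -/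
theorem no_single_flip (hf : Form J) {g g' : orthGroup J}
    (hD : dataOf (g : GL (Fin N) F) = dataOf (g' : GL (Fin N) F)) {c₀ : F} (hc₀ : c₀ * c₀ = 1) {e₀ : ℕ}
    (he₀ : Odd e₀) (hpos : 0 < mult (dataOf (g : GL (Fin N) F)) c₀ e₀)
    (hdiff : flag J (dataOf (g : GL (Fin N) F)) (sym g) c₀ e₀ ≠ flag J (dataOf (g' : GL (Fin N) F)) (sym g') c₀ e₀)
    (hsame : ∀ c : F, c * c = 1 → ∀ e, (c, e) ≠ (c₀, e₀) → flag J (dataOf (g : GL (Fin N) F)) (sym g) c e =
      flag J (dataOf (g' : GL (Fin N) F)) (sym g') c e) : False := by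
  obtain ⟨hu, hs, hcm, hd⟩ := sym_props hf g
  obtain ⟨hu', hs', hcm', hd'⟩ := sym_props hf g'
  set D := dataOf (g : GL (Fin N) F) with hDdef
  rw [← hD] at hcm' hsame hdiff
  have hc := hf.ctx (base J D)
  set d := baseDec J D with hd0
  set f : F × ℕ → ℤ := fun p =>
    quadraticChar F ((rho d p.1 p.2 (sym g)).det * (rho d p.1 p.2 (sym g')).det) ^ p.2 with hfdef
  have hval : ∀ p ∈ pmBlocks d, f p = if p = (c₀, e₀) then -1 else 1 := by
    intro p hp
    have hcc : p.1 * p.1 = 1 := by
      rcases Finset.mem_insert.1 (Finset.mem_product.1 hp).1 with h1 | h1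
      · rw [h1, one_mul]
      · rw [Finset.mem_singleton.1 h1]; norm_num
    have hr := det_rho_ne d hu hcm p.1 p.2
    have hr' := det_rho_ne d hu' hcm' p.1 p.2
    have hne := mul_ne_zero hr hr'
    rcases Nat.eq_zero_or_pos (mult D p.1 p.2) with hm0 | hmpos
    · haveI : IsEmpty (Blk d p.1 p.2) := Fintype.card_eq_zero_iff.1 (by
        rw [blk_card d, hDdef, base_data g, ← hDdef]; exact hm0)
      rw [if_neg (by rintro rfl; simp only at hm0; omega), hfdef]
      simp
    rcases Nat.even_or_odd p.2 with he | he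
    · rw [if_neg (by rintro rfl; exact Nat.not_even_iff_odd.2 he₀ he)]
      obtain ⟨j, hj⟩ := he
      rw [hfdef]
      simp only [hj, ← two_mul, pow_mul, quadraticChar_sq_one hne, one_pow]
    · have hodd : f p = quadraticChar F ((rho d p.1 p.2 (sym g)).det * (rho d p.1 p.2 (sym g')).det) := by
        rw [hfdef]
        rcases quadraticChar_dichotomy hne with h1 | h1 <;> simp [h1, he.neg_one_pow]
      rw [hodd]
      have hB : (bB d J p.1 p.2).det ≠ 0 := bB_det_ne d hc hcc p.2
      have hprod : (bB d J p.1 p.2 * rho d p.1 p.2 (sym g)).det * (bB d J p.1 p.2 * rho d p.1 p.2 (sym g')).det =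
          (bB d J p.1 p.2).det ^ 2 * ((rho d p.1 p.2 (sym g)).det * (rho d p.1 p.2 (sym g')).det) := by
        rw [det_mul, det_mul]; ring
      have hq : quadraticChar F ((bB d J p.1 p.2 * rho d p.1 p.2 (sym g)).det) *
          quadraticChar F ((bB d J p.1 p.2 * rho d p.1 p.2 (sym g')).det) =
          quadraticChar F ((rho d p.1 p.2 (sym g)).det * (rho d p.1 p.2 (sym g')).det) := by
        rw [← map_mul, hprod, map_mul, quadraticChar_sq_one' hB, one_mul]
      rw [← hq]
      have hz : (bB d J p.1 p.2 * rho d p.1 p.2 (sym g)).det ≠ 0 := by rw [det_mul]; exact mul_ne_zero hB hr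
      have hz' : (bB d J p.1 p.2 * rho d p.1 p.2 (sym g')).det ≠ 0 := by rw [det_mul]; exact mul_ne_zero hB hr'
      by_cases hpe : p = (c₀, e₀)
      · rw [if_pos hpe]
        subst hpe
        simp only [flag, he₀, hpos, true_and, ne_eq, decide_eq_decide, ← hd0] at hdiff
        rcases em (IsSquare (bB d J c₀ e₀ * rho d c₀ e₀ (sym g)).det) with h1 | h1
        · rw [(quadraticChar_one_iff_isSquare hz).2 h1,
            quadraticChar_neg_one_iff_not_isSquare.2 (fun h2 => hdiff ⟨fun _ => h2, fun _ => h1⟩), one_mul]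
        · rw [quadraticChar_neg_one_iff_not_isSquare.2 h1,
            (quadraticChar_one_iff_isSquare hz').2 (by_contra fun h2 => hdiff ⟨fun h => absurd h h1, fun h => absurd h h2⟩),
            mul_one]
      · rw [if_neg hpe]
        have := hsame p.1 hcc p.2 hpe
        simp only [flag, he, hmpos, true_and, decide_eq_decide, ← hd0] at this
        rcases em (IsSquare (bB d J p.1 p.2 * rho d p.1 p.2 (sym g)).det) with h1 | h1
        · rw [(quadraticChar_one_iff_isSquare hz).2 h1, (quadraticChar_one_iff_isSquare hz').2 (this.1 h1), one_mul]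
        · rw [quadraticChar_neg_one_iff_not_isSquare.2 h1,
            quadraticChar_neg_one_iff_not_isSquare.2 (fun h2 => h1 (this.2 h2))]
          norm_num
  have hmem : (c₀, e₀) ∈ pmBlocks d := by
    refine Finset.mem_product.2 ⟨by rw [Finset.mem_insert, Finset.mem_singleton]; exact mul_self_eq_one_iff.1 hc₀, ?_⟩
    by_contra hk
    haveI : IsEmpty (Blk d c₀ e₀) := ⟨fun i => hk (Finset.mem_image.2 ⟨i.1.1, Finset.mem_univ _, i.2⟩)⟩
    have := blk_card d c₀ e₀
    rw [Fintype.card_eq_zero, hDdef, base_data g, ← hDdef] at this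
    omega
  have h1 : ∏ p ∈ pmBlocks d, f p = -1 := by
    rw [Finset.prod_congr rfl hval, Finset.prod_ite_eq' _ _ _, if_pos hmem]
  have key : ∀ {h : Matrix (Fin N) (Fin N) F}, IsUnit h →
      Commute h ((base J D : GL (Fin N) F) : Matrix (Fin N) (Fin N) F) → adj J h = h → IsSquare h.det →
      quadraticChar F (∏ p ∈ pmBlocks d, (rho d p.1 p.2 h).det ^ p.2) = 1 := by
    intro h hu hcm hs hd
    have hne : (∏ p ∈ pmBlocks d, (rho d p.1 p.2 h).det ^ p.2) ≠ 0 :=
      Finset.prod_ne_zero_iff.2 fun p _ => pow_ne_zero _ (det_rho_ne d hu hcm p.1 p.2)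
    have hd0' : h.det ≠ 0 := ((Matrix.isUnit_iff_isUnit_det _).1 hu).ne_zero
    have h3 := (quadraticChar_one_iff_isSquare (mul_ne_zero hd0' hne)).2 (isSquare_det_mul_prod d hc hu hcm hs)
    rwa [map_mul, (quadraticChar_one_iff_isSquare hd0').2 hd, one_mul] at h3
  have h2 : ∏ p ∈ pmBlocks d, f p = 1 := by
    rw [hfdef, Finset.prod_congr rfl fun p _ => show quadraticChar F ((rho d p.1 p.2 (sym g)).det *
      (rho d p.1 p.2 (sym g')).det) ^ p.2 = quadraticChar F ((rho d p.1 p.2 (sym g)).det ^ p.2) *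
      quadraticChar F ((rho d p.1 p.2 (sym g')).det ^ p.2) by rw [map_mul, mul_pow, map_pow, map_pow],
      Finset.prod_mul_distrib, ← map_prod, ← map_prod, key hu hcm hs hd, key hu' hcm' hs' hd', one_mul]
  rw [h1] at h2
  norm_num at h2

/-- The bit patterns allowed in general. -/
abbrev allBits : Finset (Fin 4 → Bool) := Finset.univ

/-- The empty bit pattern. -/
abbrev noBits : Finset (Fin 4 → Bool) := {fun _ => false}

/-- Twice the class number is at most the number of encodings and of those without bits. -/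
theorem two_mul_card_classes_le (hf : Form J) :
    2 * Nat.card (ConjClasses (orthGroup J)) ≤
      W (Fintype.card F) allBits N 1 N + W (Fintype.card F) noBits N 1 N := by
  obtain ⟨hfin, hcard⟩ := card_encSet_le (F := F) (B := allBits) N N 1 N le_rfl (by omega)
  obtain ⟨hfin0, hcard0⟩ := card_encSet_le (F := F) (B := noBits) N N 1 N le_rfl (by omega)
  haveI := hfin
  haveI := hfin0
  haveI : Finite (ConjClasses (orthGroup J)) := Finite.of_surjective _ ConjClasses.mk_surjective
  let rep : ConjClasses (orthGroup J) → orthGroup J := Quotient.out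
  have hrep : ∀ C, ConjClasses.mk (rep C) = C := fun C => Quotient.out_eq C
  let Dt : ConjClasses (orthGroup J) → Multiset (Item F) := fun C => dataOf (rep C : GL (Fin N) F)
  let al : ConjClasses (orthGroup J) → F → ℕ → Bool := fun C => flag J (Dt C) (sym (rep C))
  have hadm : ∀ C, Adm (Dt C) (al C) N := fun C => adm hf (rep C) _
  -- the first odd exponent present
  let has : Multiset (Item F) → Prop := fun D => ∃ p : F × ℕ, p.1 * p.1 = 1 ∧ Odd p.2 ∧ 0 < mult D p.1 p.2
  let first : Multiset (Item F) → F × ℕ := fun D => if h : has D then h.choose else (1, 1)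
  let flip : ConjClasses (orthGroup J) → F → ℕ → Bool := fun C c e =>
    if (c, e) = first (Dt C) then !(al C c e) else al C c e
  have hflip : ∀ C, has (Dt C) → Adm (Dt C) (flip C) N := by
    intro C hC
    have hp := hC.choose_spec
    have hfst : first (Dt C) = hC.choose := by simp only [first, dif_pos hC]
    refine ⟨(hadm C).h2, (hadm C).valid, (hadm C).size_eq, (hadm C).fixed, (hadm C).evenMult, fun c e he => ?_, fun c e => ?_⟩
    · have hne : (c, e) ≠ first (Dt C) := by
        rw [hfst]; intro h; rw [← h] at hp; exact Nat.not_odd_iff_even.2 he hp.2.1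
      simp only [flip, if_neg hne, (hadm C).alEven c e he]
    · by_cases hce : (c, e) = first (Dt C)
      · rw [hfst] at hce; rw [← hce] at hp
        exact le_trans (Bool.toNat_le _) hp.2.2
      · simp only [flip, if_neg hce]; exact (hadm C).alLe c e
  let P := {C : ConjClasses (orthGroup J) // has (Dt C)}
  let Q := {C : ConjClasses (orthGroup J) // ¬ has (Dt C)}
  have hmain : Nat.card (ConjClasses (orthGroup J)) + Nat.card P ≤ W (Fintype.card F) allBits N 1 N := by
    refine le_trans ?_ hcard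
    rw [← Nat.card_sum]
    refine Nat.card_le_card_of_injective (Sum.elim
      (fun C => (⟨_, enc_mem (hadm C) (fun k => Finset.mem_univ _)⟩ : encSet F allBits N 1 N))
      (fun C => ⟨_, enc_mem (hflip C.1 C.2) (fun k => Finset.mem_univ _)⟩)) ?_
    have cross : ∀ (C : ConjClasses (orthGroup J)) (C' : P), enc (Dt C) (al C) N ≠ enc (Dt C'.1) (flip C'.1) N := by
      intro C C' e
      obtain ⟨hD, hfl⟩ := enc_inj (hadm C) (hflip C'.1 C'.2) e
      have hp := C'.2.choose_spec
      have hfst : first (Dt C'.1) = C'.2.choose := by simp only [first, dif_pos C'.2]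
      refine no_single_flip hf (g := rep C'.1) (g' := rep C) hD.symm hp.1 hp.2.1 hp.2.2 ?_ ?_
      · show al C'.1 _ _ ≠ al C _ _
        rw [hfl _ hp.1]
        simp only [flip, hfst, if_true]
        cases al C'.1 C'.2.choose.1 C'.2.choose.2 <;> simp
      · intro c hc e hne
        show al C'.1 c e = al C c e
        rw [hfl c hc]
        simp only [flip, hfst, Prod.mk.eta] at hne ⊢
        rw [if_neg hne]
    rintro (C | C) (C' | C') e
    · obtain ⟨hD, hfl⟩ := enc_inj (hadm C) (hadm C') (congrArg Subtype.val e)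
      rw [← hrep C, ← hrep C']
      exact congrArg Sum.inl (ConjClasses.mk_eq_mk_iff_isConj.2 (isConj_of_eq hf hD hfl))
    · exact absurd (congrArg Subtype.val e) (cross C C')
    · exact absurd (congrArg Subtype.val e).symm (cross C' C)
    · obtain ⟨hD, hfl⟩ := enc_inj (hflip C.1 C.2) (hflip C'.1 C'.2) (congrArg Subtype.val e)
      refine congrArg Sum.inr (Subtype.ext ?_)
      rw [← hrep C.1, ← hrep C'.1]
      refine ConjClasses.mk_eq_mk_iff_isConj.2 (isConj_of_eq hf hD fun c hc e => ?_)
      have h1 := hfl c hc e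
      simp only [flip, hD] at h1
      show al C.1 c e = al C'.1 c e
      split_ifs at h1
      · exact Bool.not_inj h1
      · exact h1
  have hQ : Nat.card Q ≤ W (Fintype.card F) noBits N 1 N := by
    refine le_trans ?_ hcard0
    have hbits : ∀ (C : Q) (c : F), c * c = 1 → ∀ e, al C.1 c e = false ∧ par (Dt C.1) (al C.1) c e = false := by
      intro C c hc e
      rcases Nat.even_or_odd e with he | he
      · exact ⟨(hadm C.1).alEven c e he, par_even (hadm C.1) hc he⟩
      · have h0 : mult (Dt C.1) c e = 0 := by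
          by_contra hne
          exact C.2 ⟨(c, e), hc, he, Nat.pos_of_ne_zero hne⟩
        have h1 := mult_eq (hadm C.1) c e
        rw [h0] at h1
        constructor
        · cases hb : al C.1 c e
          · rfl
          · exfalso; rw [hb, Bool.toNat_true] at h1; omega
        · cases hb : par (Dt C.1) (al C.1) c e
          · rfl
          · exfalso; rw [hb, Bool.toNat_true] at h1; omega
    refine Nat.card_le_card_of_injective (fun C => (⟨_, enc_mem (hadm C.1) (B := noBits) (fun k => by
      rw [Finset.mem_singleton]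
      show ![_, _, _, _] = _
      rw [(hbits C 1 (one_mul 1) _).1, (hbits C 1 (one_mul 1) _).2, (hbits C (-1) (by norm_num) _).1,
        (hbits C (-1) (by norm_num) _).2]
      funext j
      fin_cases j <;> rfl)⟩ : encSet F noBits N 1 N)) ?_
    intro C C' e
    obtain ⟨hD, hfl⟩ := enc_inj (hadm C.1) (hadm C'.1) (congrArg Subtype.val e)
    apply Subtype.ext
    rw [← hrep C.1, ← hrep C'.1]
    exact ConjClasses.mk_eq_mk_iff_isConj.2 (isConj_of_eq hf hD hfl)
  have hsplit : Nat.card (ConjClasses (orthGroup J)) = Nat.card P + Nat.card Q := by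
    rw [← Nat.card_sum]; exact (Nat.card_congr (Equiv.sumCompl _)).symm
  omega

end CfsgLib.ClassCountO
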