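import Cfsg.Agent.ClassCountSp.Orbit

set_option autoImplicit false
set_option linter.style.haveILetI false

/-!
An isometry `A` of a symmetric form in elementary-divisor coordinates: the forms induced on the multiplicity
spaces at `±1` and congruence of symmetric elements of the centraliser.
-/

namespace CfsgLib.ClassCountO

open Polynomial Matrix CfsgLib.InvNorm
open CfsgLib.ClassCount (Item IsItem Decomp)
open CfsgLib.ClassCountSp (bf bf_smul_left bf_smul_right bf_sum_right bf_sum_left adj_smul commute_aeval gen φ_gen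
  φ_aeval_gen_self φ_aeval_gen_ne aeval_ann exists_rep Rt eval_ne_of_ne cst cst_mk E E_one E_add E_sub
  cst_comp_zero E_apply_zero E_mul soc pair A_soc aeval_eigen bB rho rho_one rho_sub rho_mul Blk exists_lift_all
  det_rho_ne exists_congr_symm exists_congr_alt det_ne_of_congr exists_preimage E_pow_eq_zero even_card_alt)
open scoped Classical

variable {F : Type*} [Field F] {N : ℕ} {J A : Matrix (Fin N) (Fin N) F}

/-- `A` is an isometry of the symmetric form with Gram matrix `J`. -/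
structure Ctx (J A : Matrix (Fin N) (Fin N) F) : Prop where
  hJ : IsUnit J.det
  hT : Jᵀ = J
  h2 : (2 : F) ≠ 0
  iso : Aᵀ * J * A = J

theorem Ctx.adj_adj (hc : Ctx J A) (M : Matrix (Fin N) (Fin N) F) : adj J (adj J M) = M :=
  InvNorm.adj_adj hc.hJ (ε := (1 : F)) (by norm_num) (by rw [hc.hT, one_smul]) M

theorem Ctx.bf_swap (hc : Ctx J A) (u v : Fin N → F) : bf J u v = bf J v u := by
  unfold ClassCountSp.bf
  rw [dotProduct_mulVec u J v, ← mulVec_transpose, hc.hT, dotProduct_comm]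

theorem Ctx.bf_adj (hc : Ctx J A) (M : Matrix (Fin N) (Fin N) F) (u v : Fin N → F) :
    bf J (M *ᵥ u) v = bf J u (adj J M *ᵥ v) := form_adj hc.hJ M u v

theorem Ctx.bf_adj' (hc : Ctx J A) (M : Matrix (Fin N) (Fin N) F) (u v : Fin N → F) :
    bf J u (M *ᵥ v) = bf J (adj J M *ᵥ u) v := by
  rw [hc.bf_adj, hc.adj_adj]

theorem Ctx.eq_zero_of_bf (hc : Ctx J A) {u : Fin N → F} (h : ∀ v, bf J u v = 0) : u = 0 := by
  have h1 : u ᵥ* J = 0 := by
    funext j
    have := h (Pi.single j 1)
    rw [bf, dotProduct_mulVec, dotProduct_single, mul_one] at this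
    exact this
  by_contra hne
  exact (isUnit_iff_ne_zero.1 hc.hJ) (Matrix.exists_vecMul_eq_zero_iff.1 ⟨u, hne, h1⟩)

theorem Ctx.adj_aeval (hc : Ctx J A) (M : Matrix (Fin N) (Fin N) F) (f : F[X]) :
    adj J (aeval M f) = aeval (adj J M) f := by
  induction f using Polynomial.induction_on' with
  | add p r hp hr => rw [map_add, adj_add, hp, hr, map_add]
  | monomial m r =>
    rw [aeval_monomial, aeval_monomial, ← Algebra.smul_def, ← Algebra.smul_def, adj_smul]
    congr 1
    induction m with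
    | zero => simp [adj_one hc.hJ]
    | succ m ih => rw [pow_succ, adj_mul hc.hJ, ih, ← pow_succ']

theorem Ctx.inv_mul (hc : Ctx J A) : adj J A * A = 1 := adj_mul_self_of_isometry hc.hJ hc.iso

theorem Ctx.mul_inv (hc : Ctx J A) : A * adj J A = 1 := mul_eq_one_comm.1 hc.inv_mul

theorem Ctx.commute_adj (hc : Ctx J A) {x : Matrix (Fin N) (Fin N) F} (hx : Commute x A) :
    Commute (adj J x) A := by
  have h : adj J A * adj J x = adj J x * adj J A := by
    rw [← adj_mul hc.hJ, ← adj_mul hc.hJ, hx.eq]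
  calc adj J x * A = A * (adj J A * adj J x) * A := by rw [← mul_assoc A, hc.mul_inv, one_mul]
    _ = A * (adj J x * adj J A) * A := by rw [h]
    _ = A * adj J x := by rw [mul_assoc, mul_assoc (adj J x), hc.inv_mul, mul_one]

variable (d : Decomp A) {x : Matrix (Fin N) (Fin N) F}

theorem adj_soc (hc : Ctx J A) {c : F} (hc2 : c * c = 1) (k : Rt d c) : adj J A *ᵥ soc d k = c • soc d k := by
  have h : soc d k = adj J A *ᵥ (A *ᵥ soc d k) := by rw [mulVec_mulVec, hc.inv_mul, one_mulVec]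
  rw [A_soc, mulVec_smul] at h
  conv_rhs => rw [h, smul_smul, hc2, one_smul]

theorem bf_soc_aeval (hc : Ctx J A) {c : F} (hc2 : c * c = 1) (k : Rt d c) (f : F[X]) (v : Fin N → F) :
    bf J (soc d k) (aeval A f *ᵥ v) = f.eval c * bf J (soc d k) v := by
  rw [hc.bf_adj', hc.adj_aeval, aeval_eigen (adj_soc d hc hc2 k), bf_smul_left]

theorem bf_soc_gen_of_ne (hc : Ctx J A) {c : F} (hc2 : c * c = 1) (k : Rt d c) {l : Fin d.k}
    (hl : d.P l ≠ X - C c) : bf J (soc d k) (gen d l) = 0 := by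
  have h := bf_soc_aeval d hc hc2 k (d.P l ^ d.e l) (gen d l)
  rw [aeval_ann, eval_pow] at h
  have h0 : bf J (soc d k) 0 = 0 := by simp [bf]
  rw [h0] at h
  exact (mul_eq_zero.1 h.symm).resolve_left (pow_ne_zero _ (eval_ne_of_ne (d.item l).monic (d.item l).irr hl))

theorem bf_soc (hc : Ctx J A) {c : F} (hc2 : c * c = 1) (k : Rt d c) (v : Fin N → F) :
    bf J (soc d k) v = ∑ l : Rt d c, cst d l (d.φ v l.1) * pair d J c k l := by
  obtain ⟨f, hf, hv⟩ := exists_rep d v
  conv_lhs => rw [hv, bf_sum_right]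
  rw [← Fintype.sum_subtype_add_sum_subtype (fun l => d.P l = X - C c)
    (fun l => bf J (soc d k) (aeval A (f l) *ᵥ gen d l))]
  rw [Finset.sum_eq_zero (s := (Finset.univ : Finset {l // ¬ d.P l = X - C c})) fun l _ => by
    rw [bf_soc_aeval d hc hc2, bf_soc_gen_of_ne d hc hc2 k l.2, mul_zero], add_zero]
  refine Finset.sum_congr (by congr) fun l _ => ?_
  rw [bf_soc_aeval d hc hc2, ← hf, cst_mk]
  rfl

theorem aeval_adj_sub (hc : Ctx J A) {c : F} (hc2 : c * c = 1) (m : ℕ) :
    aeval (adj J A) ((X - C c) ^ m) = ((-c) • adj J A) ^ m * aeval A ((X - C c) ^ m) := by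
  have h1 : aeval (adj J A) (X - C c) = ((-c) • adj J A) * aeval A (X - C c) := by
    simp only [map_sub, aeval_X, aeval_C, Algebra.algebraMap_eq_smul_one]
    rw [smul_mul_assoc, mul_sub, mul_smul_comm, hc.inv_mul, mul_one, smul_sub, smul_smul, neg_mul, hc2, neg_smul,
      neg_smul, one_smul]
    abel
  have hcomm : Commute ((-c) • adj J A) (aeval A (X - C c)) :=
    (commute_aeval (show Commute (adj J A) A by
      show _ = _; rw [hc.inv_mul, hc.mul_inv]) _).smul_left _
  rw [map_pow, map_pow, h1, hcomm.mul_pow]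

/-- Moving a power of `A - c` across the form. -/
theorem bf_pow (hc : Ctx J A) {c : F} (hc2 : c * c = 1) (m : ℕ) (u v : Fin N → F) :
    bf J (aeval A ((X - C c) ^ m) *ᵥ u) v =
      bf J u ((((-c) • adj J A) ^ m) *ᵥ (aeval A ((X - C c) ^ m) *ᵥ v)) := by
  rw [hc.bf_adj, hc.adj_aeval, aeval_adj_sub hc hc2, mulVec_mulVec]

theorem pow_smul_adj_soc (hc : Ctx J A) {c : F} (hc2 : c * c = 1) (m : ℕ) (k : Rt d c) :
    (((-c) • adj J A) ^ m) *ᵥ soc d k = (-1 : F) ^ m • soc d k := by
  induction m with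
  | zero => simp
  | succ m ih =>
    rw [pow_succ, ← mulVec_mulVec, smul_mulVec, adj_soc d hc hc2, smul_smul, mulVec_smul, ih, smul_smul,
      pow_succ, neg_mul, hc2, mul_comm]

theorem pair_zero (hc : Ctx J A) {c : F} (hc2 : c * c = 1) {k l : Rt d c} (h : d.e l.1 < d.e k.1) :
    pair d J c k l = 0 := by
  show bf J (soc d k) _ = 0
  rw [soc, bf_pow hc hc2]
  have h0 : aeval A ((X - C c) ^ (d.e k.1 - 1)) *ᵥ gen d l.1 = 0 := by
    rw [show d.e k.1 - 1 = d.e k.1 - 1 - d.e l.1 + d.e l.1 by omega, pow_add, map_mul, ← mulVec_mulVec]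
    have := aeval_ann d l.1
    rw [l.2] at this
    rw [this, mulVec_zero]
  rw [h0, mulVec_zero]
  simp [bf]

theorem pair_swap (hc : Ctx J A) {c : F} (hc2 : c * c = 1) {k l : Rt d c} (h : d.e l.1 = d.e k.1) :
    pair d J c l k = (-1) ^ (d.e k.1 + 1) * pair d J c k l := by
  show bf J (soc d l) _ = _
  rw [soc, bf_pow hc hc2, h]
  rw [show aeval A ((X - C c) ^ (d.e k.1 - 1)) *ᵥ gen d k.1 = soc d k from rfl,
    pow_smul_adj_soc d hc hc2, bf_smul_right, hc.bf_swap]
  show _ = (-1) ^ (d.e k.1 + 1) * bf J (soc d k) (gen d l.1)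
  conv_rhs => rw [← Nat.sub_add_cancel (show 1 ≤ d.e k.1 from (d.item k.1).pos), pow_succ, pow_succ]
  ring

theorem pair_injective (hc : Ctx J A) {c : F} (hc2 : c * c = 1) : (pair d J c).det ≠ 0 := by
  classical
  intro h0
  obtain ⟨a, hane, ha⟩ := Matrix.exists_vecMul_eq_zero_iff.2 h0
  have hw : ∑ k, a k • soc d k = 0 := by
    refine hc.eq_zero_of_bf fun v => ?_
    rw [bf_sum_left]
    simp only [bf_smul_left, bf_soc d hc hc2, Finset.mul_sum]
    rw [Finset.sum_comm]
    refine Finset.sum_eq_zero fun l _ => ?_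
    have := congrFun ha l
    rw [vecMul, dotProduct, Pi.zero_apply] at this
    calc ∑ k, a k * (cst d l (d.φ v l.1) * pair d J c k l) = cst d l (d.φ v l.1) * ∑ k, a k * pair d J c k l := by
          rw [Finset.mul_sum]; exact Finset.sum_congr rfl fun k _ => by ring
      _ = 0 := by rw [this, mul_zero]
  apply hane
  funext k
  have h1 := congrFun (congrArg d.φ hw) k.1
  rw [map_sum, Finset.sum_apply, Finset.sum_eq_single k, map_smul, Pi.smul_apply, map_zero, Pi.zero_apply, soc,
    φ_aeval_gen_self, AdjoinRoot.smul_mk, AdjoinRoot.mk_eq_zero, k.2] at h1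
  · by_contra hk
    rw [smul_eq_C_mul] at h1
    have h2 : (X - C c) ^ d.e k.1 ∣ (X - C c) ^ (d.e k.1 - 1) :=
      (IsUnit.dvd_mul_left (isUnit_C.2 (isUnit_iff_ne_zero.2 hk))).1 h1
    rw [pow_dvd_pow_iff (X_sub_C_ne_zero c) (not_isUnit_X_sub_C c)] at h2
    have := (d.item k.1).pos
    simp only at this
    omega
  · intro l _ hl
    rw [map_smul, Pi.smul_apply, soc, φ_aeval_gen_ne d _ (fun e => hl (Subtype.ext e.symm)), smul_zero]
  · simp

theorem bB_det_ne (hc : Ctx J A) {c : F} (hc2 : c * c = 1) (e : ℕ) : (bB d J c e).det ≠ 0 := by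
  classical
  have htri : (pair d J c).BlockTriangular (fun i => d.e i.1) := fun i j h => pair_zero d hc hc2 h
  have hdet := pair_injective d hc hc2
  rw [htri.det, Finset.prod_ne_zero_iff] at hdet
  by_cases he : e ∈ Finset.univ.image (fun i : Rt d c => d.e i.1)
  · exact hdet e he
  · haveI : IsEmpty {i : Rt d c // d.e i.1 = e} :=
      ⟨fun i => he (Finset.mem_image.2 ⟨i.1, Finset.mem_univ _, i.2⟩)⟩
    simp [bB]

theorem bB_transpose (hc : Ctx J A) {c : F} (hc2 : c * c = 1) (e : ℕ) :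
    (bB d J c e)ᵀ = (-1 : F) ^ (e + 1) • bB d J c e := by
  ext ⟨k, hk⟩ ⟨l, hl⟩
  show pair d J c l k = (-1) ^ (e + 1) * pair d J c k l
  rw [pair_swap d hc hc2 (hl.trans hk.symm), hk]

theorem bB_mul_rho_adj (hc : Ctx J A) (hx : Commute x A) {c : F} (hc2 : c * c = 1) (e : ℕ) :
    bB d J c e * rho d c e (adj J x) = (rho d c e x)ᵀ * bB d J c e := by
  classical
  ext ⟨i, hi⟩ ⟨j, hj⟩
  have hx' := hc.commute_adj hx
  -- both sides compute `bf (soc i) (adj x gen j)`
  have h1 : bf J (soc d i) (adj J x *ᵥ gen d j.1) =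
      (bB d J c e * rho d c e (adj J x)) ⟨i, hi⟩ ⟨j, hj⟩ := by
    rw [bf_soc d hc hc2, Matrix.mul_apply,
      ← Fintype.sum_subtype_add_sum_subtype (fun k : Rt d c => d.e k.1 = e)
        (fun k => cst d k (d.φ (adj J x *ᵥ gen d j.1) k.1) * pair d J c i k)]
    rw [Finset.sum_eq_zero (s := (Finset.univ : Finset {k : Rt d c // ¬ d.e k.1 = e})) fun k _ => by
      rcases lt_or_gt_of_ne k.2 with h | h
      · rw [pair_zero d hc hc2 (hi.symm ▸ h), mul_zero]
      · rw [cst_comp_zero d hx' k.1 j.1 (Or.inr (hj.symm ▸ h)), zero_mul], add_zero]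
    exact Finset.sum_congr rfl fun k _ => mul_comm _ _
  have h2 : bf J (soc d i) (adj J x *ᵥ gen d j.1) =
      ((rho d c e x)ᵀ * bB d J c e) ⟨i, hi⟩ ⟨j, hj⟩ := by
    rw [← hc.bf_adj, soc, hi, mulVec_mulVec, (commute_aeval hx _).eq, ← mulVec_mulVec]
    obtain ⟨f, hf, hv⟩ := exists_rep d (x *ᵥ gen d i.1)
    rw [hv, mulVec_sum, bf_sum_left]
    have hterm : ∀ k, bf J (aeval A ((X - C c) ^ (e - 1)) *ᵥ (aeval A (f k) *ᵥ gen d k)) (gen d j.1) =
        (-1) ^ (e + 1) * ((f k).eval c * bf J (soc d j) (gen d k)) := by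
      intro k
      rw [bf_pow hc hc2, show aeval A ((X - C c) ^ (e - 1)) *ᵥ gen d j.1 = soc d j by rw [soc, hj],
        pow_smul_adj_soc d hc hc2, bf_smul_right, hc.bf_swap, bf_soc_aeval d hc hc2]
      conv_rhs => rw [show e = e - 1 + 1 from (Nat.sub_add_cancel (hj ▸ (show 1 ≤ d.e j.1 from (d.item j.1).pos))).symm, pow_succ, pow_succ]
      ring
    simp only [hterm]
    rw [← Finset.mul_sum, Matrix.mul_apply,
      ← Fintype.sum_subtype_add_sum_subtype (fun k => d.P k = X - C c)
        (fun k => (f k).eval c * bf J (soc d j) (gen d k))]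
    rw [Finset.sum_eq_zero (s := (Finset.univ : Finset {k // ¬ d.P k = X - C c})) fun k _ => by
      rw [bf_soc_gen_of_ne d hc hc2 j k.2, mul_zero], add_zero]
    rw [← Fintype.sum_subtype_add_sum_subtype (fun k : Rt d c => d.e k.1 = e)
        (fun k => (f k.1).eval c * bf J (soc d j) (gen d k.1))]
    rw [Finset.sum_eq_zero (s := (Finset.univ : Finset {k : Rt d c // ¬ d.e k.1 = e})) fun k _ => by
      rcases lt_or_gt_of_ne k.2 with h | h
      · rw [show bf J (soc d j) (gen d k.1.1) = 0 from pair_zero d hc hc2 (hj.symm ▸ h), mul_zero]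
      · rw [← cst_mk d k.1 (f k.1.1), hf, cst_comp_zero d hx k.1 i.1 (Or.inr (hi.symm ▸ h)), zero_mul], add_zero,
      Finset.mul_sum]
    refine Finset.sum_congr rfl fun k _ => ?_
    have e1 : (f k.1.1).eval c = E d c x k.1 i := by
      show _ = cst d k.1 (d.φ (x *ᵥ gen d i.1) k.1.1)
      rw [← hf, cst_mk]
    show _ = E d c x k.1 i * pair d J c k.1 j
    rw [show bf J (soc d j) (gen d k.1.1) = pair d J c j k.1 from rfl, pair_swap d hc hc2 (hj.trans k.2.symm), e1,
      k.2]
    have hsq : ((-1 : F) ^ (e + 1)) * (-1) ^ (e + 1) = 1 := by rw [← mul_pow, neg_mul_neg, one_mul, one_pow]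
    linear_combination (E d c x k.1 i * pair d J c k.1 j) * hsq
  rw [← h1, h2]

/-- The form on a block twisted by a symmetric element. -/
theorem form_transpose (hc : Ctx J A) {c : F} (hc2 : c * c = 1) (e : ℕ) {h : Matrix (Fin N) (Fin N) F}
    (hh : Commute h A) (hs : adj J h = h) :
    (bB d J c e * rho d c e h)ᵀ = (-1 : F) ^ (e + 1) • (bB d J c e * rho d c e h) := by
  rw [transpose_mul, bB_transpose d hc hc2, mul_smul_comm, ← bB_mul_rho_adj d hc hh hc2, hs]

/-- The multiplicity of `(X - c)^e` with `e` even is even. -/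
theorem even_card_even (hc : Ctx J A) {c : F} (hc2 : c * c = 1) {e : ℕ} (he : Even e) :
    Even (Fintype.card (Blk d c e)) :=
  even_card_alt hc.h2 (bB d J c e) (by rw [bB_transpose d hc hc2, he.add_one.neg_one_pow, neg_one_smul])
    (bB_det_ne d hc hc2 e)

/-- Symmetric elements with block determinants in the same square classes can be matched on all blocks. -/
theorem exists_match [Fintype F] (hc : Ctx J A) {h1 h2 : Matrix (Fin N) (Fin N) F} (hu1 : IsUnit h1) (hu2 : IsUnit h2)
    (hc1 : Commute h1 A) (hc2' : Commute h2 A) (hs1 : adj J h1 = h1) (hs2 : adj J h2 = h2)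
    (hsq : ∀ c : F, c * c = 1 → ∀ e, Odd e →
      IsSquare ((bB d J c e * rho d c e h1).det * (bB d J c e * rho d c e h2).det)) :
    ∃ w : Matrix (Fin N) (Fin N) F, IsUnit w ∧ Commute w A ∧
      ∀ c : F, c * c = 1 → ∀ e, rho d c e (adj J w * h1 * w) = rho d c e h2 := by
  have hex : ∀ c e, ∃ m : Matrix (Blk d c e) (Blk d c e) F, m.det ≠ 0 ∧
      (c * c = 1 → mᵀ * (bB d J c e * rho d c e h1) * m = bB d J c e * rho d c e h2) := by
    intro c e
    by_cases hcc : c * c = 1
    · have hd1 : (bB d J c e * rho d c e h1).det ≠ 0 := by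
        rw [det_mul]; exact mul_ne_zero (bB_det_ne d hc hcc e) (det_rho_ne d hu1 hc1 c e)
      have hd2 : (bB d J c e * rho d c e h2).det ≠ 0 := by
        rw [det_mul]; exact mul_ne_zero (bB_det_ne d hc hcc e) (det_rho_ne d hu2 hc2' c e)
      have t1 := form_transpose d hc hcc e hc1 hs1
      have t2 := form_transpose d hc hcc e hc2' hs2
      rcases Nat.even_or_odd e with he | he
      · rw [he.add_one.neg_one_pow, neg_one_smul] at t1 t2
        obtain ⟨m, hm⟩ := exists_congr_alt hc.h2 _ _ t1 t2 hd1 hd2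
        exact ⟨m, det_ne_of_congr hd2 hm, fun _ => hm⟩
      · rw [he.add_one.neg_one_pow, one_smul] at t1 t2
        obtain ⟨m, hm⟩ := exists_congr_symm hc.h2 _ _ t1 t2 hd1 hd2 (hsq c hcc e he)
        exact ⟨m, det_ne_of_congr hd2 hm, fun _ => hm⟩
    · exact ⟨1, by simp, fun h => absurd h hcc⟩
  choose m hm0 hm using hex
  obtain ⟨w, hwu, hwc, hwS, -⟩ := exists_lift_all d
    (({1, -1} : Finset F) ×ˢ Finset.univ.image d.e) m (fun p _ => hm0 p.1 p.2)
  refine ⟨w, hwu, hwc, fun c hcc e => ?_⟩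
  by_cases he : e ∈ Finset.univ.image d.e
  · have hmem : (c, e) ∈ (({1, -1} : Finset F) ×ˢ Finset.univ.image d.e) := by
      rw [Finset.mem_product, Finset.mem_insert, Finset.mem_singleton]
      exact ⟨mul_self_eq_one_iff.1 hcc, he⟩
    have hwa := hc.commute_adj hwc
    have hbu : IsUnit (bB d J c e) :=
      (Matrix.isUnit_iff_isUnit_det _).2 (isUnit_iff_ne_zero.2 (bB_det_ne d hc hcc e))
    refine hbu.mul_left_cancel ?_
    rw [rho_mul d (hwa.mul_left hc1) hwc, rho_mul d hwa hc1, ← mul_assoc, ← mul_assoc,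
      bB_mul_rho_adj d hc hwc hcc, hwS (c, e) hmem, mul_assoc ((m c e)ᵀ), hm c e hcc]
  · haveI : IsEmpty (Blk d c e) := ⟨fun i => he (Finset.mem_image.2 ⟨i.1.1, Finset.mem_univ _, i.2⟩)⟩
    exact Subsingleton.elim _ _

/-- The idempotent projecting onto the generalized eigenspaces at `±1`. -/
theorem exists_pm_idem [Fintype F] (hc : Ctx J A) :
    ∃ (e : Matrix (Fin N) (Fin N) F) (M : ℕ), e * e = e ∧ adj J e = e ∧
      IsUnit ((A - adj J A) * (1 - e) + e) ∧ e * aeval A ((X ^ 2 - 1 : F[X]) ^ M) = 0 ∧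
      e ∈ Subring.closure ({A, adj J A} : Set (Matrix (Fin N) (Fin N) F)) := by
  set B := adj J A with hB
  set z := A - B with hz
  obtain ⟨m, hm⟩ := NoOffender.exists_pow_idempotent (z * z)
  have hzM : z ^ (2 * (m + 1)) = (z * z) ^ (m + 1) := by rw [pow_mul, sq]
  set p := z ^ (2 * (m + 1)) with hp
  have hpp : p * p = p := by rw [hzM]; exact hm
  have hadjz : adj J z = -z := by
    have h1 : adj J z + adj J B = adj J A := by rw [← adj_add, hz, sub_add_cancel]
    rw [hB, hc.adj_adj] at h1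
    rw [eq_sub_of_add_eq h1, hz, hB, neg_sub]
  have hadjp : adj J p = p := by
    rw [hp, show z ^ (2 * (m + 1)) = aeval z ((X : F[X]) ^ (2 * (m + 1))) by simp, hc.adj_aeval, hadjz]
    simp [Even.neg_pow (even_two_mul _)]
  have hzS : z ∈ Subring.closure ({A, B} : Set (Matrix (Fin N) (Fin N) F)) :=
    sub_mem (Subring.subset_closure (by simp)) (Subring.subset_closure (by simp))
  refine ⟨1 - p, 2 * (m + 1), ?_, ?_, ?_, ?_, sub_mem (one_mem _) (pow_mem hzS _)⟩
  · rw [mul_sub, mul_one, sub_mul, one_mul, hpp, sub_self, sub_zero]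
  · have h1 : adj J (1 - p) + adj J p = 1 := by rw [← adj_add, sub_add_cancel, adj_one hc.hJ]
    rw [hadjp] at h1
    exact eq_sub_of_add_eq h1
  · rw [sub_sub_cancel]
    refine IsUnit.of_mul_eq_one (z ^ (2 * m + 1) * p + (1 - p)) ?_
    have c1 : Commute z p := (Commute.refl z).pow_right _
    have e1 : z * p * (z ^ (2 * m + 1) * p) = p := by
      rw [mul_assoc, ← mul_assoc p, ((c1.pow_left _).symm).eq, mul_assoc, hpp, ← mul_assoc, ← pow_succ',
        show 2 * m + 1 + 1 = 2 * (m + 1) by ring, ← hp, hpp]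
    have e2 : z * p * (1 - p) = 0 := by rw [mul_assoc, mul_sub, mul_one, hpp, sub_self, mul_zero]
    have e3 : (1 - p) * (z ^ (2 * m + 1) * p) = 0 := by
      rw [← ((c1.pow_left _).symm).eq, ← mul_assoc, sub_mul, one_mul, hpp, sub_self, zero_mul]
    have e4 : (1 - p) * (1 - p) = 1 - p := by rw [mul_sub, mul_one, sub_mul, one_mul, hpp, sub_self, sub_zero]
    rw [add_mul, mul_add, mul_add, e1, e2, e3, e4, add_zero, zero_add, add_sub_cancel]
  · have hAz : A * z = aeval A (X ^ 2 - 1 : F[X]) := by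
      rw [hz, hB, mul_sub, hc.mul_inv, map_sub, map_pow, aeval_X, map_one, sq]
    have hcz : Commute A z := by
      rw [hz, hB]
      exact (Commute.refl A).sub_right (hc.mul_inv.trans hc.inv_mul.symm)
    rw [map_pow, ← hAz, hcz.mul_pow, (hcz.pow_pow _ _).eq, ← hp, ← mul_assoc, sub_mul, one_mul, hpp, sub_self,
      zero_mul]

/-- Vanishing blocks at `±1` give nilpotent elements there. -/
theorem isNilpotent_of_rho (hc : Ctx J A) {e x : Matrix (Fin N) (Fin N) F} {M : ℕ}
    (heD : e * aeval A ((X ^ 2 - 1 : F[X]) ^ M) = 0) (hex : Commute e x) (hx : Commute x A)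
    (h : ∀ c : F, c * c = 1 → ∀ k, rho d c k x = 0) : IsNilpotent (x * e) := by
  set K := Finset.univ.sup d.e
  set y := x ^ (K + 1) with hy
  have hyA : Commute y A := hx.pow_left _
  have hE : ∀ c : F, c * c = 1 → E d c y = 0 := fun c hcc =>
    E_pow_eq_zero d hx (h c hcc) fun i => Finset.le_sup (Finset.mem_univ i)
  set D := aeval A (X ^ 2 - 1 : F[X]) with hD
  have hyD : Commute y D := commute_aeval hyA _
  have key : ∀ (m : ℕ) (v : Fin N → F), ∃ v', y ^ m *ᵥ v = D ^ m *ᵥ v' := by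
    intro m
    induction m with
    | zero => intro v; exact ⟨v, by simp⟩
    | succ m ih =>
      intro v
      obtain ⟨v1, hv1⟩ := exists_preimage d hc.h2 hyA hE v
      obtain ⟨v2, hv2⟩ := ih v1
      refine ⟨v2, ?_⟩
      rw [pow_succ, ← mulVec_mulVec, hv1, mulVec_mulVec, ← hD, (hyD.pow_left m).eq, ← mulVec_mulVec, hv2,
        mulVec_mulVec, pow_succ']
  have hz : e * y ^ M = 0 := by
    refine Matrix.ext_iff_mulVec.2 fun v => ?_
    obtain ⟨v', hv'⟩ := key M v
    rw [← mulVec_mulVec, hv', mulVec_mulVec, hD, ← map_pow, heD, zero_mulVec, zero_mulVec]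
  refine ⟨(K + 1) * M + 1, ?_⟩
  rw [(hex.symm).mul_pow, pow_succ x, pow_succ' e, mul_assoc, ← mul_assoc x, ← hex.eq, mul_assoc e]
  rw [← mul_assoc (x ^ ((K + 1) * M)), ← (hex.pow_right _).eq, pow_mul, ← hy, hz, zero_mul]

/-- The kernel step: equal blocks mean congruence in the centraliser. -/
theorem exists_congr_of_rho_eq [Fintype F] (hc : Ctx J A) {g h : Matrix (Fin N) (Fin N) F} (hgu : IsUnit g) (hhu : IsUnit h)
    (hgA : Commute g A) (hhA : Commute h A) (hgs : adj J g = g) (hhs : adj J h = h)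
    (heq : ∀ c : F, c * c = 1 → ∀ e, rho d c e g = rho d c e h) :
    ∃ v : Matrix (Fin N) (Fin N) F, IsUnit v ∧ Commute v A ∧ adj J v * g * v = h := by
  obtain ⟨ug, rfl⟩ := hgu
  set g : Matrix (Fin N) (Fin N) F := ↑ug with hg
  set gi : Matrix (Fin N) (Fin N) F := ↑ug⁻¹ with hgi
  have g1 : g * gi = 1 := ug.mul_inv
  have g2 : gi * g = 1 := ug.inv_mul
  have hgiA : Commute gi A := hgA.units_inv_left
  set u := gi * h with hu
  have huA : Commute u A := hgiA.mul_left hhA
  set B := adj J A with hB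
  have hAB : Commute A B := hc.mul_inv.trans hc.inv_mul.symm
  have hgB : Commute g B := by
    have := hc.commute_adj hgA.symm.symm
    rw [hgs] at this
    calc g * B = B * A * g * B := by rw [hc.inv_mul, one_mul]
      _ = B * (A * g) * B := by simp only [mul_assoc]
      _ = B * g * (A * B) := by rw [← this.eq]; simp only [mul_assoc]
      _ = B * g := by rw [hc.mul_inv, mul_one]
  have hhB : Commute h B := by
    calc h * B = B * A * h * B := by rw [hc.inv_mul, one_mul]
      _ = B * (A * h) * B := by simp only [mul_assoc]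
      _ = B * h * (A * B) := by rw [← hhA.eq]; simp only [mul_assoc]
      _ = B * h := by rw [hc.mul_inv, mul_one]
  have huB : Commute u B := (hgB.units_inv_left).mul_left hhB
  have hadjgi : adj J gi = gi := by
    have h1 : g * adj J gi = 1 := by rw [← hgs, ← adj_mul hc.hJ, g2, adj_one hc.hJ]
    calc adj J gi = gi * g * adj J gi := by rw [g2, one_mul]
      _ = gi := by rw [mul_assoc, h1, mul_one]
  let τ : Matrix (Fin N) (Fin N) F → Matrix (Fin N) (Fin N) F := fun x => gi * adj J x * g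
  have τadd : ∀ x y, τ (x + y) = τ x + τ y := fun x y => by simp only [τ, adj_add, mul_add, add_mul]
  have τmul : ∀ x y, τ (x * y) = τ y * τ x := fun x y => by
    simp only [τ, adj_mul hc.hJ, mul_assoc]
    rw [← mul_assoc g gi, g1, one_mul]
  have τone : τ 1 = 1 := by simp only [τ, adj_one hc.hJ, mul_one]; exact g2
  have τA : τ A = B := by
    show gi * B * g = B
    rw [mul_assoc, ← hgB.eq, ← mul_assoc, g2, one_mul]
  have τB : τ B = A := by
    show gi * adj J (adj J A) * g = A
    rw [hc.adj_adj, mul_assoc, ← hgA.eq, ← mul_assoc, g2, one_mul]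
  have τu : τ u = u := by
    show gi * adj J (gi * h) * g = u
    rw [adj_mul hc.hJ, hadjgi, hhs, hu, mul_assoc, mul_assoc, g2, mul_one]
  set S : Set (Matrix (Fin N) (Fin N) F) := {A, B, u} with hS
  have hcomm : ∀ a ∈ S, ∀ b ∈ S, a * b = b * a := by
    rintro a (rfl | rfl | rfl) b (rfl | rfl | rfl)
    exacts [rfl, hAB.eq, huA.eq.symm, hAB.eq.symm, rfl, huB.eq.symm, huA.eq, huB.eq, rfl]
  have mA : A ∈ Subring.closure S := Subring.subset_closure (Or.inl rfl)
  have mB : B ∈ Subring.closure S := Subring.subset_closure (Or.inr (Or.inl rfl))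
  have mu : u ∈ Subring.closure S := Subring.subset_closure (Or.inr (Or.inr rfl))
  have hclos : ∀ a ∈ S, τ a ∈ Subring.closure S := by
    rintro a (rfl | rfl | rfl)
    exacts [τA.symm ▸ mB, τB.symm ▸ mA, τu.symm ▸ mu]
  have hinv : ∀ a ∈ S, τ (τ a) = a := by
    rintro a (rfl | rfl | rfl)
    exacts [by rw [τA, τB], by rw [τB, τA], by rw [τu, τu]]
  have hcc : ∀ a ∈ Subring.closure S, ∀ b ∈ Subring.closure S, Commute a b := fun a ha b hb =>
    congrArg Subtype.val ((Subring.isMulCommutative_closure hcomm).is_comm.comm ⟨a, ha⟩ ⟨b, hb⟩)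
  obtain ⟨e, M, hee, hadje, hlam, heD, hemem⟩ := exists_pm_idem (A := A) hc
  have me : e ∈ Subring.closure S := Subring.closure_mono (by
    intro a ha
    rcases ha with rfl | rfl
    exacts [Or.inl rfl, Or.inr (Or.inl rfl)]) hemem
  have τe : τ e = e := by
    show gi * adj J e * g = e
    have : Commute g e := by
      have hle : Subring.closure ({A, B} : Set (Matrix (Fin N) (Fin N) F)) ≤ Subring.centralizer {g} := by
        rw [Subring.closure_le]
        intro a ha
        refine Subring.mem_centralizer_iff.2 fun b hb => ?_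
        rw [Set.mem_singleton_iff.1 hb]
        rcases ha with rfl | rfl
        exacts [hgA.eq, hgB.eq]
      exact Subring.mem_centralizer_iff.1 (hle hemem) g rfl
    rw [hadje, mul_assoc, ← this.eq, ← mul_assoc, g2, one_mul]
  have hru : ∀ c : F, c * c = 1 → ∀ k, rho d c k (u - 1) = 0 := by
    intro c hc1 k
    rw [rho_sub, rho_one, hu, rho_mul d hgiA hhA, ← heq c hc1 k, ← rho_mul d hgiA hgA, g2, rho_one, sub_self]
  have hnil : IsNilpotent ((u - 1) * e) :=
    isNilpotent_of_rho d hc heD (hcc e me _ (sub_mem mu (one_mem _)))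
      (huA.sub_left (Commute.one_left A)) hru
  set u1 := 1 + (u - 1) * e with hu1
  set u2 := e + u * (1 - e) with hu2
  have m1 : u1 ∈ Subring.closure S := add_mem (one_mem _) (mul_mem (sub_mem mu (one_mem _)) me)
  have m2 : u2 ∈ Subring.closure S := add_mem me (mul_mem mu (sub_mem (one_mem _) me))
  have he1 : (1 - e) * e = 0 := by rw [sub_mul, one_mul, hee, sub_self]
  have h12 : u1 * u2 = u := by
    have hue : Commute u e := hcc u mu e me
    have e1 : (u - 1) * e * e = (u - 1) * e := by rw [mul_assoc, hee]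
    have e2 : (u - 1) * e * (u * (1 - e)) = 0 := by
      rw [← mul_assoc, mul_assoc (u - 1), ← hue.eq, mul_assoc, mul_assoc, mul_sub, mul_one, hee, sub_self, mul_zero,
        mul_zero]
    rw [hu1, hu2, add_mul, one_mul, mul_add, e1, e2, add_zero]
    noncomm_ring
  have huu : IsUnit u := (ug⁻¹).isUnit.mul hhu
  have hu2u : IsUnit u2 := by
    have : u2 * u1 = u := (hcc u2 m2 u1 m1).eq.trans h12
    obtain ⟨z, hz⟩ := huu.exists_right_inv
    exact IsUnit.of_mul_eq_one (u1 * z) (by rw [← mul_assoc, this, hz])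
  have hu2e : u2 * e = e := by rw [hu2, add_mul, hee, mul_assoc, he1, mul_zero, add_zero]
  have τsub : ∀ x y, τ (x - y) = τ x - τ y := fun x y => by
    have := τadd (x - y) y
    rw [sub_add_cancel] at this
    exact eq_sub_of_add_eq this.symm
  have hcue : Commute e u := hcc e me u mu
  have τu1 : τ u1 = u1 := by
    rw [hu1, τadd, τmul, τsub, τone, τe, τu, (hcc e me _ (sub_mem mu (one_mem _))).eq]
  have τu2 : τ u2 = u2 := by
    rw [hu2, τadd, τmul, τsub, τone, τe, τu, (hcc _ (sub_mem (one_mem _) me) u mu).eq]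
  obtain ⟨c, hcS, hcu, -, hcc2⟩ := exists_norm_eq_of_anti_idem τ τadd τmul τone S hcomm hclos hinv
    me hee τe mA (by rw [τA]; exact hlam) m2 hu2u τu2 hu2e
  -- a square root of the unipotent part
  rcases subsingleton_or_nontrivial (Matrix (Fin N) (Fin N) F) with hss | hnt
  · exact ⟨1, isUnit_one, Commute.one_left A, Subsingleton.elim _ _⟩
  obtain ⟨p, hp⟩ := CharP.exists F
  obtain ⟨k, hpp, -⟩ := FiniteField.card F p
  haveI := Fact.mk hpp
  haveI : CharP (Matrix (Fin N) (Fin N) F) p :=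
    charP_of_injective_algebraMap (algebraMap F (Matrix (Fin N) (Fin N) F)).injective p
  obtain ⟨L, hL⟩ := hnil
  have hodd : Odd (p ^ L) := by
    refine (hpp.odd_of_ne_two ?_).pow
    rintro rfl
    exact hc.h2 (by exact_mod_cast CharP.cast_eq_zero F 2)
  have hP : u1 ^ (p ^ L) = 1 := by
    rw [hu1, add_pow_char_pow_of_commute (p := p) (n := L) (h := Commute.one_left _), one_pow,
      pow_eq_zero_of_le (Nat.lt_pow_self hpp.one_lt).le hL, add_zero]
  obtain ⟨r, hr⟩ := hodd
  set w1 := u1 ^ (r + 1) with hw1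
  have hw12 : w1 * w1 = u1 := by
    rw [hw1, ← pow_add, show r + 1 + (r + 1) = p ^ L + 1 by omega, pow_succ, hP, one_mul]
  have hu1u : IsUnit u1 := IsUnit.of_pow_eq_one hP (by omega)
  have τw1 : τ w1 = w1 := by
    rw [hw1]
    generalize r + 1 = j
    induction j with
    | zero => rw [pow_zero, τone]
    | succ j ih => rw [pow_succ, τmul, ih, τu1, ← pow_succ', pow_succ]
  have mv : w1 * c ∈ Subring.closure S := mul_mem (pow_mem m1 _) hcS
  refine ⟨w1 * c, (hu1u.pow _).mul hcu, hcc _ mv A mA, ?_⟩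
  have hτv : τ (w1 * c) * (w1 * c) = u := by
    rw [τmul, τw1, mul_assoc, ← mul_assoc w1, hw12, (hcc u1 m1 c hcS).eq, ← mul_assoc, hcc2,
      (hcc u2 m2 u1 m1).eq, h12]
  calc adj J (w1 * c) * g * (w1 * c) = g * (τ (w1 * c) * (w1 * c)) := by
        simp only [τ, ← mul_assoc, g1, one_mul]
    _ = h := by rw [hτv, hu, ← mul_assoc, g1, one_mul]

/-- Symmetric invertible elements of the centraliser are congruent there when their block determinants agree
up to squares. -/
theorem exists_congr_of_det [Fintype F] (hc : Ctx J A) {h1 h2 : Matrix (Fin N) (Fin N) F} (hu1 : IsUnit h1) (hu2 : IsUnit h2)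
    (hc1 : Commute h1 A) (hc2 : Commute h2 A) (hs1 : adj J h1 = h1) (hs2 : adj J h2 = h2)
    (hsq : ∀ c : F, c * c = 1 → ∀ e, Odd e →
      IsSquare ((bB d J c e * rho d c e h1).det * (bB d J c e * rho d c e h2).det)) :
    ∃ w : Matrix (Fin N) (Fin N) F, IsUnit w ∧ Commute w A ∧ adj J w * h1 * w = h2 := by
  obtain ⟨w, hwu, hwc, hw⟩ := exists_match d hc hu1 hu2 hc1 hc2 hs1 hs2 hsq
  have hwa : IsUnit (adj J w) := by
    obtain ⟨z, hz⟩ := hwu.exists_left_inv
    exact IsUnit.of_mul_eq_one _ (by rw [← adj_mul hc.hJ, hz, adj_one hc.hJ])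
  obtain ⟨v, hvu, hvc, hv⟩ := exists_congr_of_rho_eq d hc ((hwa.mul hu1).mul hwu) hu2
    (((hc.commute_adj hwc).mul_left hc1).mul_left hwc) hc2
    (by rw [adj_mul hc.hJ, adj_mul hc.hJ, hc.adj_adj, hs1, mul_assoc]) hs2 hw
  refine ⟨w * v, hwu.mul hvu, hwc.mul_left hvc, ?_⟩
  rw [adj_mul hc.hJ, ← hv]
  simp only [mul_assoc]

end CfsgLib.ClassCountO
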