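import Cfsg.Agent.ClassCountO.Levels
import Cfsg.Agent.ClassCountU.Unitary

set_option autoImplicit false
set_option linter.style.haveILetI false

/-!
The encoding of self-dual elementary-divisor data with square-class flags at `±1` at odd exponents into levels.
-/

namespace CfsgLib.ClassCountO

open Polynomial CfsgLib.SemisimpleSU
open CfsgLib.ClassCount (Item IsItem size part)
open CfsgLib.ClassCountU (starItem star_one)
open CfsgLib.ClassCountSp (Lvl dflt selfRec Valid)
open scoped Classical

variable {F : Type*} [Field F] [Fintype F]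

local notation "σ₀" => RingHom.id F

/-- Items away from `±1`. -/
noncomputable def away (D : Multiset (Item F)) : Multiset (Item F) :=
  D.filter fun it => it.1 ≠ X - C 1 ∧ it.1 ≠ X - C (-1)

/-- The multiplicity of `(X - c)^e`. -/
noncomputable def mult (D : Multiset (Item F)) (c : F) (e : ℕ) : ℕ := D.count ((X - C c, e) : Item F)

/-- What remains of a multiplicity after the flag. -/
noncomputable def rest (D : Multiset (Item F)) (al : F → ℕ → Bool) (c : F) (e : ℕ) : ℕ :=
  mult D c e - (al c e).toNat

/-- The even part of what remains. -/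
noncomputable def evp (D : Multiset (Item F)) (al : F → ℕ → Bool) (c : F) (e : ℕ) : ℕ :=
  rest D al c e / 2

/-- The polynomial of level `e`. -/
noncomputable def poly (D : Multiset (Item F)) (al : F → ℕ → Bool) (e : ℕ) : F[X] :=
  part (away D) e * ((X - C 1) ^ (2 * evp D al 1 e) * (X - C (-1)) ^ (2 * evp D al (-1) e))

/-- Parity of what remains. -/
noncomputable def par (D : Multiset (Item F)) (al : F → ℕ → Bool) (c : F) (e : ℕ) : Bool :=
  decide (rest D al c e % 2 = 1)

/-- The encoding. -/
noncomputable def enc (D : Multiset (Item F)) (al : F → ℕ → Bool) (M : ℕ) : Fin (M + 1) → Lvl F := fun k =>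
  (![al 1 (2 * k.1 - 1), par D al 1 (2 * k.1 - 1), al (-1) (2 * k.1 - 1), par D al (-1) (2 * k.1 - 1)], poly D al k.1)

/-- Admissible data with flags. -/
structure Adm (D : Multiset (Item F)) (al : F → ℕ → Bool) (n : ℕ) : Prop where
  h2 : (2 : F) ≠ 0
  valid : ∀ it ∈ D, IsItem it
  size_eq : size D = n
  fixed : D.map (starItem σ₀) = D
  evenMult : ∀ c : F, c * c = 1 → ∀ e, Even e → Even (mult D c e)
  alEven : ∀ c : F, ∀ e, Even e → al c e = false
  alLe : ∀ c : F, ∀ e, (al c e).toNat ≤ mult D c e

variable {D : Multiset (Item F)} {al : F → ℕ → Bool} {n : ℕ}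

omit [Fintype F] in
theorem eval_root (c : F) {P : F[X]} (hm : P.Monic) (hi : Irreducible P) (h : P ≠ X - C c) : P.eval c ≠ 0 := by
  intro h0
  refine h (eq_of_monic_of_associated hm (monic_X_sub_C c) ?_)
  exact ((irreducible_X_sub_C c).associated_of_dvd hi (dvd_iff_isRoot.2 h0)).symm

theorem away_eval (h : Adm D al n) (e : ℕ) {c : F} (hc : c * c = 1) : (part (away D) e).eval c ≠ 0 := by
  rw [part, eval_multiset_prod, Multiset.map_map]
  refine Multiset.prod_ne_zero fun h0 => ?_
  obtain ⟨it, hit, h0'⟩ := Multiset.mem_map.1 h0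
  obtain ⟨hit, -⟩ := Multiset.mem_filter.1 hit
  obtain ⟨hit, h1, h2⟩ := Multiset.mem_filter.1 hit
  refine eval_root c (h.valid it hit).monic (h.valid it hit).irr ?_ h0'
  rcases mul_self_eq_one_iff.1 hc with rfl | rfl
  exacts [h1, h2]

theorem star_X_sub (c : F) (hc : c * c = 1) : SemisimpleSU.star σ₀ (X - C c) = X - C c := by
  have hc0 : c ≠ 0 := fun h0 => by rw [h0, mul_zero] at hc; exact zero_ne_one hc
  rw [SemisimpleSU.star, Polynomial.map_id, RingHom.id_apply, coeff_sub, coeff_X_zero, coeff_C_zero, zero_sub,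
    reverse, natDegree_X_sub_C, reflect_sub, reflect_C, show (X : F[X]) = X ^ 1 from (pow_one X).symm,
    reflect_monomial, revAt_le le_rfl]
  rw [Nat.sub_self, pow_zero, mul_sub, mul_one, ← mul_assoc, ← C_mul, inv_neg, neg_mul,
    inv_mul_cancel₀ hc0, inv_eq_of_mul_eq_one_right hc, map_neg, map_neg, C_1]
  ring

theorem away_fixed (h : Adm D al n) : (away D).map (starItem σ₀) = away D := by
  conv_rhs => rw [away, ← h.fixed, Multiset.filter_map]
  refine congrArg (Multiset.map (starItem σ₀)) (Multiset.filter_congr fun it hit => ?_)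
  show _ ↔ SemisimpleSU.star σ₀ it.1 ≠ _ ∧ SemisimpleSU.star σ₀ it.1 ≠ _
  have hv := h.valid it hit
  have key : ∀ c : F, c * c = 1 → (it.1 = X - C c ↔ SemisimpleSU.star σ₀ it.1 = X - C c) := by
    intro c hc
    refine ⟨fun e => by rw [e, star_X_sub c hc], fun e => ?_⟩
    rw [← SemisimpleSU.star_star (σ := σ₀) (fun _ => rfl) hv.monic hv.coeff_ne, e, star_X_sub c hc]
  rw [ne_eq, ne_eq, key 1 (one_mul 1), key (-1) (by norm_num)]

theorem away_valid (h : Adm D al n) : ∀ it ∈ away D, IsItem it := fun it hit =>
  h.valid it (Multiset.mem_of_mem_filter hit)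

theorem away_selfRec (h : Adm D al n) (e : ℕ) :
    (part (away D) e).coeff 0 = 1 ∧ Even (part (away D) e).natDegree ∧
      SemisimpleSU.star σ₀ (part (away D) e) = part (away D) e := by
  set g := part (away D) e with hg
  have hs : SemisimpleSU.star σ₀ g = g := ClassCountU.part_fixed (away_fixed h) e
  have h0 : g.coeff 0 ≠ 0 := ClassCount.part_coeff_ne (away_valid h) e
  have hrev : g.reverse = C (g.coeff 0) * g := by
    have := hs
    rw [SemisimpleSU.star, Polynomial.map_id, RingHom.id_apply] at this
    have h' := congrArg (fun f => C (g.coeff 0) * f) this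
    simp only [← mul_assoc, ← C_mul, mul_inv_cancel₀ h0, C_1, one_mul] at h'
    exact h'
  have key : ∀ c : F, c * c = 1 → g.coeff 0 * c ^ g.natDegree = 1 := by
    intro c hc
    letI : Invertible c := ⟨c, hc, hc⟩
    have h1 := eval₂_reverse_mul_pow (RingHom.id F) c g
    rw [show (⅟c) = c from rfl, eval₂_id, eval₂_id, hrev, eval_mul, eval_C] at h1
    exact mul_right_cancel₀ (away_eval h e hc) (by linear_combination h1)
  have k1 := key 1 (one_mul 1)
  rw [one_pow, mul_one] at k1
  refine ⟨k1, ?_, hs⟩
  have k2 := key (-1) (by norm_num)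
  rw [k1, one_mul] at k2
  exact neg_one_pow_eq_one_iff_even (fun h' : (-1 : F) = 1 => h.h2 (by linear_combination (-1 : F) * h')) |>.1 k2

theorem poly_monic (h : Adm D al n) (e : ℕ) : (poly D al e).Monic :=
  (ClassCount.part_monic (away_valid h) e).mul (((monic_X_sub_C 1).pow _).mul ((monic_X_sub_C (-1)).pow _))

theorem poly_natDegree (h : Adm D al n) (e : ℕ) :
    (poly D al e).natDegree = (part (away D) e).natDegree + 2 * evp D al 1 e + 2 * evp D al (-1) e := by
  rw [poly, (ClassCount.part_monic (away_valid h) e).natDegree_mul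
    (((monic_X_sub_C 1).pow _).mul ((monic_X_sub_C (-1)).pow _)),
    ((monic_X_sub_C (1 : F)).pow _).natDegree_mul ((monic_X_sub_C (-1)).pow _), natDegree_pow, natDegree_pow,
    natDegree_X_sub_C, natDegree_X_sub_C]
  omega

theorem poly_valid (h : Adm D al n) (e : ℕ) : ∃ d, poly D al e ∈ selfRec F d := by
  obtain ⟨g0, ⟨j, hj⟩, gs⟩ := away_selfRec h e
  refine ⟨j + evp D al 1 e + evp D al (-1) e, poly_monic h e, ?_, ?_, ?_⟩
  · rw [poly_natDegree h, hj]; ring
  · rw [poly, mul_coeff_zero, mul_coeff_zero, g0, one_mul, pow_mul, pow_mul, ← constantCoeff_apply,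
      ← constantCoeff_apply, map_pow, map_pow, map_pow, map_pow]
    simp
  · rw [poly, SemisimpleSU.star_mul, SemisimpleSU.star_mul, gs, ClassCountU.star_pow, ClassCountU.star_pow,
      star_X_sub 1 (one_mul 1), star_X_sub (-1) (by norm_num)]

/-- The part of exponent `e` of the data. -/
theorem part_eq (h : Adm D al n) (e : ℕ) :
    part D e = part (away D) e * ((X - C 1) ^ mult D 1 e * (X - C (-1)) ^ mult D (-1) e) := by
  have hne : ((X - C (1 : F), e) : Item F) ≠ ((X - C (-1), e) : Item F) := by
    intro e'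
    have := congrArg (fun z : Item F => z.1.eval 1) e'
    simp at this
    exact h.h2 (by linear_combination -this)
  have hsplit : D.filter (fun it => it.2 = e) = (away D).filter (fun it => it.2 = e) +
      (Multiset.replicate (mult D 1 e) ((X - C 1, e) : Item F) +
        Multiset.replicate (mult D (-1) e) ((X - C (-1), e) : Item F)) := by
    refine Multiset.ext.2 fun it => ?_
    rw [Multiset.count_add, Multiset.count_add, Multiset.count_replicate, Multiset.count_replicate, away,
      Multiset.count_filter, Multiset.count_filter, Multiset.count_filter]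
    obtain ⟨P, k⟩ := it
    by_cases hk : k = e
    · subst hk
      simp only [if_true, Prod.mk.injEq, and_true, mult]
      by_cases h1 : P = X - C 1
      · subst h1
        have : ¬ (X - C (-1) : F[X]) = X - C 1 := fun e' => hne (Prod.ext e'.symm rfl)
        rw [if_neg (fun hh => hh.1 rfl), if_pos rfl, if_neg this]
        simp
      · by_cases h2 : P = X - C (-1)
        · subst h2
          rw [if_neg (fun hh => hh.2 rfl), if_neg (fun e' => h1 e'.symm), if_pos rfl]
          simp
        · rw [if_pos ⟨h1, h2⟩, if_neg (fun e' => h1 e'.symm), if_neg (fun e' => h2 e'.symm)]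
          simp
    · simp only [Prod.mk.injEq, if_neg hk]
      simp [Ne.symm hk]
  rw [part, hsplit, Multiset.map_add, Multiset.map_add, Multiset.prod_add, Multiset.prod_add,
    Multiset.map_replicate, Multiset.map_replicate, Multiset.prod_replicate, Multiset.prod_replicate]
  rfl

theorem evp_add (c : F) (e : ℕ) (hle : (al c e).toNat ≤ mult D c e) :
    mult D c e = 2 * evp D al c e + (par D al c e).toNat + (al c e).toNat := by
  unfold evp par rest
  have : (decide ((mult D c e - (al c e).toNat) % 2 = 1)).toNat = (mult D c e - (al c e).toNat) % 2 := by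
    rcases Nat.mod_two_eq_zero_or_one (mult D c e - (al c e).toNat) with h | h <;> simp [h]
  omega

theorem par_even (h : Adm D al n) {c : F} (hc : c * c = 1) {e : ℕ} (he : Even e) : par D al c e = false := by
  obtain ⟨j, hj⟩ := h.evenMult c hc e he
  simp [par, rest, h.alEven c e he, hj]
  omega

theorem mult_eq (h : Adm D al n) (c : F) (e : ℕ) :
    mult D c e = 2 * evp D al c e + (par D al c e).toNat + (al c e).toNat :=
  evp_add c e (h.alLe c e)

/-- The flags and parity of exponent `e`. -/
noncomputable def extra (D : Multiset (Item F)) (al : F → ℕ → Bool) (e : ℕ) : ℕ :=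
  (al 1 e).toNat + (par D al 1 e).toNat + ((al (-1) e).toNat + (par D al (-1) e).toNat)

theorem deg_part (h : Adm D al n) (e : ℕ) :
    (part D e).natDegree = (poly D al e).natDegree + extra D al e := by
  rw [part_eq h, (ClassCount.part_monic (away_valid h) e).natDegree_mul
    (((monic_X_sub_C 1).pow _).mul ((monic_X_sub_C (-1)).pow _)),
    ((monic_X_sub_C (1 : F)).pow _).natDegree_mul ((monic_X_sub_C (-1)).pow _), natDegree_pow, natDegree_pow,
    natDegree_X_sub_C, natDegree_X_sub_C, poly_natDegree h, extra]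
  have := mult_eq h 1 e
  have := mult_eq h (-1) e
  omega

theorem mult_zero (h : Adm D al n) (c : F) {e : ℕ} (he : e = 0 ∨ n < e) : mult D c e = 0 := by
  refine Multiset.count_eq_zero.2 fun hit => ?_
  have hv := h.valid _ hit
  obtain ⟨D', hD'⟩ := Multiset.exists_cons_of_mem hit
  have hs := h.size_eq
  rw [hD', ClassCount.size_cons, natDegree_X_sub_C, one_mul] at hs
  have := hv.pos
  simp only at this hs
  omega

theorem extra_zero (h : Adm D al n) {e : ℕ} (he : n < e) : extra D al e = 0 := by
  have := mult_eq h 1 e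
  have := mult_eq h (-1) e
  have := mult_zero h (1 : F) (Or.inr he)
  have := mult_zero h (-1 : F) (Or.inr he)
  unfold extra
  omega

theorem extra_even (h : Adm D al n) {e : ℕ} (he : Even e) : extra D al e = 0 := by
  simp [extra, h.alEven _ e he, par_even h (one_mul (1 : F)) he, par_even h (by norm_num : (-1 : F) * -1 = 1) he]

theorem ite_eq_toNat (b : Bool) [Decidable (b = true)] : (if b = true then 1 else 0 : ℕ) = b.toNat := by
  cases b <;> simp

omit [Fintype F] in
theorem size_eq_sum (E : Multiset (Item F)) (hE : ∀ it ∈ E, IsItem it) (M : ℕ) (hM : ∀ it ∈ E, it.2 ≤ M) :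
    size E = ∑ e ∈ Finset.range (M + 1), (part E e).natDegree * e := by
  rw [← Finset.sum_congr rfl fun e _ => ClassCount.size_filter_eq hE e]
  clear hE
  induction E using Multiset.induction with
  | empty => simp [size]
  | cons a E ih =>
    rw [ClassCount.size_cons, ih fun it hit => hM it (Multiset.mem_cons_of_mem hit)]
    rw [← Finset.sum_ite_eq_of_mem (Finset.range (M + 1)) a.2 (fun _ => a.1.natDegree * a.2)
      (Finset.mem_range.2 (Nat.lt_succ_of_le (hM a (Multiset.mem_cons_self a E)))), ← Finset.sum_add_distrib]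
    refine Finset.sum_congr rfl fun e _ => ?_
    rw [Multiset.filter_cons]
    split_ifs with h1
    · rw [ClassCount.size_add]; simp [size]
    · simp

theorem size_eq_levels (h : Adm D al n) :
    ∑ k : Fin (n + 1), lwt k.1 (enc D al n k) = n := by
  have hM : ∀ it ∈ D, it.2 ≤ n := by
    intro it hit
    obtain ⟨D', rfl⟩ := Multiset.exists_cons_of_mem hit
    have hs := h.size_eq
    rw [ClassCount.size_cons] at hs
    have : 1 * it.2 ≤ it.1.natDegree * it.2 := Nat.mul_le_mul_right _ (h.valid it hit).deg_pos
    omega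
  have hsum := size_eq_sum D h.valid n hM
  rw [h.size_eq, Finset.sum_congr rfl fun e _ => by rw [deg_part h e, add_mul], Finset.sum_add_distrib] at hsum
  have hx : ∑ e ∈ Finset.range (n + 1), extra D al e * e =
      ∑ k ∈ Finset.range (n + 1), extra D al (2 * k - 1) * (2 * k - 1) := by
    rw [← Finset.sum_filter_add_sum_filter_not (Finset.range (n + 1)) (fun e => Odd e)
      (fun e => extra D al e * e),
      Finset.sum_eq_zero (s := (Finset.range (n + 1)).filter fun e => ¬ Odd e) fun e he => by
        rw [extra_even h (Nat.not_odd_iff_even.1 (Finset.mem_filter.1 he).2), zero_mul], add_zero,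
      ← Finset.sum_filter_add_sum_filter_not (Finset.range (n + 1)) (fun k => 1 ≤ k ∧ 2 * k - 1 ≤ n)
      (fun k => extra D al (2 * k - 1) * (2 * k - 1)),
      Finset.sum_eq_zero (s := (Finset.range (n + 1)).filter fun k => ¬ (1 ≤ k ∧ 2 * k - 1 ≤ n)) fun k hk => by
        have hk' := (Finset.mem_filter.1 hk).2
        rcases Nat.eq_zero_or_pos k with rfl | hk1
        · simp
        · rw [extra_zero h (by omega), zero_mul], add_zero]
    refine Finset.sum_nbij' (fun e => (e + 1) / 2) (fun k => 2 * k - 1) ?_ ?_ ?_ ?_ ?_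
    · intro e he
      simp only [Finset.coe_filter, Finset.mem_range, Set.mem_setOf_eq, Finset.mem_filter] at he ⊢
      obtain ⟨he1, ⟨j, rfl⟩⟩ := he
      omega
    · intro k hk
      simp only [Finset.coe_filter, Finset.mem_range, Set.mem_setOf_eq, Finset.mem_filter] at hk ⊢
      exact ⟨by omega, ⟨k - 1, by omega⟩⟩
    · intro e he
      simp only [Finset.coe_filter, Finset.mem_range, Set.mem_setOf_eq, Finset.mem_filter] at he
      obtain ⟨-, ⟨j, rfl⟩⟩ := he
      omega
    · intro k hk
      simp only [Finset.coe_filter, Finset.mem_range, Set.mem_setOf_eq, Finset.mem_filter] at hk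
      omega
    · intro e he
      simp only [Finset.mem_filter, Finset.mem_range] at he
      obtain ⟨-, ⟨j, rfl⟩⟩ := he
      rw [show 2 * ((2 * j + 1 + 1) / 2) - 1 = 2 * j + 1 by omega]
  rw [hx, ← Finset.sum_add_distrib,
    Finset.sum_range (f := fun k => (poly D al k).natDegree * k + extra D al (2 * k - 1) * (2 * k - 1))] at hsum
  refine Eq.trans (Finset.sum_congr rfl fun k _ => ?_) hsum.symm
  rw [lwt, bitCount, Finset.card_filter, Fin.sum_univ_four]
  simp only [ite_eq_toNat]
  show k.1 * (poly D al k.1).natDegree + (2 * k.1 - 1) * ((al 1 (2 * k.1 - 1)).toNat +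
    (par D al 1 (2 * k.1 - 1)).toNat + (al (-1) (2 * k.1 - 1)).toNat + (par D al (-1) (2 * k.1 - 1)).toNat) = _
  rw [extra]
  ring

theorem enc_mem (h : Adm D al n) {B : Finset (Fin 4 → Bool)} (hB : ∀ k, (enc D al n k).1 ∈ B) :
    enc D al n ∈ encSet F B n 1 n := by
  refine ⟨fun k => ⟨poly_valid h k.1, hB k⟩, fun k hk => ?_, size_eq_levels h⟩
  have hk0 : k.1 = 0 := by omega
  have z : ∀ c : F, al c (2 * 0 - 1) = false ∧ par D al c (2 * 0 - 1) = false ∧ evp D al c 0 = 0 := by
    intro c
    have h1 := mult_eq h c 0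
    rw [mult_zero h c (Or.inl rfl)] at h1
    refine ⟨?_, ?_, by omega⟩
    · show al c 0 = false
      cases hb : al c 0
      · rfl
      · exfalso; rw [hb, Bool.toNat_true] at h1; omega
    · show par D al c 0 = false
      cases hb : par D al c 0
      · rfl
      · exfalso; rw [hb, Bool.toNat_true] at h1; omega
  refine Prod.ext ?_ ?_
  · show ![_, _, _, _] = _
    rw [hk0, (z 1).1, (z 1).2.1, (z (-1)).1, (z (-1)).2.1]
    funext j
    fin_cases j <;> rfl
  · show poly D al k.1 = 1
    rw [hk0, poly, (z 1).2.2, (z (-1)).2.2, part, Multiset.filter_eq_nil.2 fun it hit he => by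
      have := (away_valid h it hit).pos
      omega]
    simp

omit [Fintype F] in
theorem rootMultiplicity_eq {g : F[X]} (hg : g.Monic) {c c' : F} (hne : c' ≠ c) (h0 : g.eval c ≠ 0) (a b : ℕ) :
    rootMultiplicity c (g * ((X - C c) ^ a * (X - C c') ^ b)) = a := by
  have h1 : ((X - C c') ^ b).eval c ≠ 0 := by
    rw [eval_pow, eval_sub, eval_X, eval_C]
    exact pow_ne_zero _ (sub_ne_zero.2 (Ne.symm hne))
  rw [rootMultiplicity_mul (mul_ne_zero hg.ne_zero (mul_ne_zero (pow_ne_zero _ (X_sub_C_ne_zero c))
      (pow_ne_zero _ (X_sub_C_ne_zero c')))),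
    rootMultiplicity_mul (mul_ne_zero (pow_ne_zero _ (X_sub_C_ne_zero c)) (pow_ne_zero _ (X_sub_C_ne_zero c'))),
    rootMultiplicity_X_sub_C_pow, rootMultiplicity_eq_zero h0, rootMultiplicity_eq_zero h1, zero_add, add_zero]

/-- The encoding is injective. -/
theorem enc_inj {D' : Multiset (Item F)} {al' : F → ℕ → Bool} (h : Adm D al n) (h' : Adm D' al' n)
    (he : enc D al n = enc D' al' n) :
    D = D' ∧ ∀ c : F, c * c = 1 → ∀ e, al c e = al' c e := by
  have hpoly : ∀ e, e ≤ n → part (away D) e = part (away D') e ∧ evp D al 1 e = evp D' al' 1 e ∧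
      evp D al (-1) e = evp D' al' (-1) e := by
    intro e hle
    have hp : poly D al e = poly D' al' e :=
      congrArg Prod.snd (congrFun he ⟨e, Nat.lt_succ_of_le hle⟩)
    have hne : (-1 : F) ≠ 1 := fun h'' => h.h2 (by linear_combination (-1 : F) * h'')
    have r1 := rootMultiplicity_eq (ClassCount.part_monic (away_valid h) e) hne
      (away_eval h e (one_mul 1)) (2 * evp D al 1 e) (2 * evp D al (-1) e)
    have r1' := rootMultiplicity_eq (ClassCount.part_monic (away_valid h') e) hne
      (away_eval h' e (one_mul 1)) (2 * evp D' al' 1 e) (2 * evp D' al' (-1) e)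
    have r2 := rootMultiplicity_eq (ClassCount.part_monic (away_valid h) e) (Ne.symm hne)
      (away_eval h e (by norm_num : (-1 : F) * -1 = 1)) (2 * evp D al (-1) e) (2 * evp D al 1 e)
    have r2' := rootMultiplicity_eq (ClassCount.part_monic (away_valid h') e) (Ne.symm hne)
      (away_eval h' e (by norm_num : (-1 : F) * -1 = 1)) (2 * evp D' al' (-1) e) (2 * evp D' al' 1 e)
    rw [mul_comm ((X - C (-1)) ^ (2 * evp D al (-1) e))] at r2
    rw [mul_comm ((X - C (-1)) ^ (2 * evp D' al' (-1) e))] at r2'
    rw [← poly] at r1 r2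
    rw [← poly] at r1' r2'
    rw [hp, r1'] at r1
    rw [hp, r2'] at r2
    refine ⟨?_, by omega, by omega⟩
    have e1 := hp
    rw [poly, poly, show evp D al 1 e = evp D' al' 1 e by omega,
      show evp D al (-1) e = evp D' al' (-1) e by omega] at e1
    exact mul_right_cancel₀ (mul_ne_zero (pow_ne_zero _ (X_sub_C_ne_zero 1))
      (pow_ne_zero _ (X_sub_C_ne_zero (-1)))) e1
  have hbits : ∀ c : F, c * c = 1 → ∀ e, al c e = al' c e ∧ par D al c e = par D' al' c e := by
    intro c hc e
    have hz : ∀ {D : Multiset (Item F)} {al : F → ℕ → Bool}, Adm D al n → e = 0 ∨ n < e →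
        al c e = false ∧ par D al c e = false := by
      intro D al hA hh
      have h1 := mult_eq hA c e
      rw [mult_zero hA c hh] at h1
      constructor
      · cases hb : al c e
        · rfl
        · exfalso; rw [hb, Bool.toNat_true] at h1; omega
      · cases hb : par D al c e
        · rfl
        · exfalso; rw [hb, Bool.toNat_true] at h1; omega
    rcases Nat.even_or_odd e with he' | ⟨k, rfl⟩
    · rw [h.alEven c e he', h'.alEven c e he', par_even h hc he', par_even h' hc he']
      exact ⟨rfl, rfl⟩
    · by_cases hk : k + 1 ≤ n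
      · have hb := congrArg Prod.fst (congrFun he ⟨k + 1, Nat.lt_succ_of_le hk⟩)
        rw [show 2 * k + 1 = 2 * (k + 1) - 1 by omega]
        rcases mul_self_eq_one_iff.1 hc with rfl | rfl
        · exact ⟨congrFun hb 0, congrFun hb 1⟩
        · exact ⟨congrFun hb 2, congrFun hb 3⟩
      · rw [(hz h (Or.inr (by omega))).1, (hz h (Or.inr (by omega))).2, (hz h' (Or.inr (by omega))).1,
          (hz h' (Or.inr (by omega))).2]
        exact ⟨rfl, rfl⟩
  refine ⟨Multiset.ext.2 fun it => ?_, fun c hc e => (hbits c hc e).1⟩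
  have hpart : it.2 ≤ n → part D it.2 = part D' it.2 := by
    intro hle
    obtain ⟨q1, q2, q3⟩ := hpoly it.2 hle
    rw [part_eq h, part_eq h', q1, mult_eq h, mult_eq h, mult_eq h', mult_eq h', q2, q3,
      (hbits 1 (one_mul 1) it.2).1, (hbits 1 (one_mul 1) it.2).2, (hbits (-1) (by norm_num) it.2).1,
      (hbits (-1) (by norm_num) it.2).2]
  by_cases hle : it.2 ≤ n
  · have hf := ClassCount.filter_eq_of_part_eq h.valid h'.valid (hpart hle)
    have e1 := congrArg (Multiset.count it) hf
    rwa [Multiset.count_filter, Multiset.count_filter, if_pos rfl, if_pos rfl] at e1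
  · have hz : ∀ {D : Multiset (Item F)} {al : F → ℕ → Bool}, Adm D al n → D.count it = 0 := by
      intro D al hA
      refine Multiset.count_eq_zero.2 fun hit => hle ?_
      obtain ⟨D', rfl⟩ := Multiset.exists_cons_of_mem hit
      have hs := hA.size_eq
      rw [ClassCount.size_cons] at hs
      have : 1 * it.2 ≤ it.1.natDegree * it.2 := Nat.mul_le_mul_right _ (hA.valid it hit).deg_pos
      omega
    rw [hz h, hz h']

end CfsgLib.ClassCountO
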