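import Cfsg.Agent.ClassCountO.Coord

set_option autoImplicit false
set_option linter.style.haveILetI false

/-!
The determinant of a symmetric element of the centraliser, up to squares, is the product of the determinants
of its multiplicity matrices at odd exponents.
-/

namespace CfsgLib.ClassCountO

open Polynomial Matrix CfsgLib.InvNorm
open CfsgLib.ClassCount (Item IsItem Decomp)
open CfsgLib.ClassCountSp (gen φ_gen φ_aeval_gen_self φ_aeval_gen_ne aeval_ann exists_rep Rt bB rho rho_one rho_sub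
  rho_mul Blk blockImg exists_block_map block_map_mul rho_block_self rho_block_ne det_rho_ne exists_symp_basis
  commute_aeval blockImg_blk)
open scoped Classical

variable {F : Type*} [Field F]

/-- The determinant of an invertible alternating matrix is a square. -/
theorem isSquare_det_alt {ι : Type*} [Fintype ι] [DecidableEq ι] (h2 : (2 : F) ≠ 0) (S : Matrix ι ι F)
    (hS : Sᵀ = -S) (hd : S.det ≠ 0) : IsSquare S.det := by
  obtain ⟨m, b, b1, b1', b2, b3⟩ := exists_symp_basis h2 S hS hd
  let e : ι ≃ Fin m ⊕ Fin m := Fintype.equivOfCardEq (by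
    rw [← Module.finrank_fintype_fun_eq_card (R := F), Module.finrank_eq_card_basis b])
  let P : Matrix ι (Fin m ⊕ Fin m) F := Matrix.of fun i a => b a i
  have hform : Pᵀ * S * P = -Matrix.J (Fin m) F := by
    ext a c
    have : (Pᵀ * S * P) a c = Matrix.toLinearMap₂' F S (b a) (b c) := by
      rw [Matrix.toLinearMap₂'_apply', Matrix.mul_assoc]
      rfl
    rw [this]
    rcases a with a | a <;> rcases c with c | c
    · simp [b2, Matrix.J, Matrix.fromBlocks]
    · simp [b1, Matrix.J, Matrix.fromBlocks, Matrix.one_apply]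
    · rw [b1']; by_cases h : a = c <;> simp [Matrix.J, Matrix.fromBlocks, Matrix.one_apply, h]
    · simp [b3, Matrix.J, Matrix.fromBlocks]
  let P' : Matrix (Fin m ⊕ Fin m) (Fin m ⊕ Fin m) F := P.submatrix e.symm id
  have h1 : P'ᵀ * S.submatrix e.symm e.symm * P' = -Matrix.J (Fin m) F := by
    simp only [P', Matrix.transpose_submatrix, Matrix.submatrix_mul_equiv]
    rw [hform, Matrix.submatrix_id_id]
  have h3 := congrArg Matrix.det h1
  rw [det_mul, det_mul, det_transpose, det_submatrix_equiv_self, det_neg, Fintype.card_sum, Fintype.card_fin,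
    (show Even (m + m) from ⟨m, rfl⟩).neg_one_pow, one_mul, SymplecticGroup.det_eq_one (SymplecticGroup.J_mem _ _)] at h3
  have hP : P'.det ≠ 0 := fun h => by rw [h, zero_mul, zero_mul] at h3; exact zero_ne_one h3
  refine ⟨P'.det⁻¹, ?_⟩
  field_simp
  linear_combination h3

/-- An idempotent matrix factors through its range. -/
theorem exists_factor {N : ℕ} (p : Matrix (Fin N) (Fin N) F) (hp : p * p = p) :
    ∃ (r : ℕ) (R : Matrix (Fin N) (Fin r) F) (L : Matrix (Fin r) (Fin N) F), L * R = 1 ∧ R * L = p := by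
  let W := LinearMap.range (Matrix.toLin' p)
  let b := Module.finBasis F W
  let Rl : (Fin (Module.finrank F W) → F) →ₗ[F] (Fin N → F) := W.subtype ∘ₗ b.equivFun.symm.toLinearMap
  let Ll : (Fin N → F) →ₗ[F] (Fin (Module.finrank F W) → F) :=
    b.equivFun.toLinearMap ∘ₗ (Matrix.toLin' p).rangeRestrict
  have hfix : ∀ w : W, (Matrix.toLin' p).rangeRestrict (w : Fin N → F) = w := by
    rintro ⟨_, v, rfl⟩
    apply Subtype.ext
    simp [Matrix.toLin'_apply, hp]
  refine ⟨_, LinearMap.toMatrix' Rl, LinearMap.toMatrix' Ll, ?_, ?_⟩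
  · rw [← LinearMap.toMatrix'_comp, ← LinearMap.toMatrix'_id]
    congr 1
    refine LinearMap.ext fun v => ?_
    simp [Rl, Ll, hfix]
    funext i
    simp [Finset.sum_apply, Finsupp.single_apply]
  · rw [← LinearMap.toMatrix'_comp]
    conv_rhs => rw [← LinearMap.toMatrix'_toLin' p]
    congr 1
    refine LinearMap.ext fun v => ?_
    simp [Rl, Ll]

variable {N : ℕ} {J A : Matrix (Fin N) (Fin N) F}

/-- Off `±1` a symmetric element of the centraliser has square determinant. -/
theorem isSquare_det_away [Fintype F] (hc : Ctx J A) {e h : Matrix (Fin N) (Fin N) F} (hee : e * e = e)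
    (hade : adj J e = e) (heA : Commute e A) (hlam : IsUnit ((A - adj J A) * (1 - e) + e)) (hh : IsUnit h)
    (hhA : Commute h A) (hhs : adj J h = h) (hhe : Commute h e) : IsSquare (h * (1 - e) + e).det := by
  have hef : (1 - e) * (1 - e) = 1 - e := by rw [mul_sub, mul_one, sub_mul, one_mul, hee, sub_self, sub_zero]
  obtain ⟨r, R, L, hLR, hRL⟩ := exists_factor (1 - e) hef
  set z := A - adj J A with hz
  have hJT : ∀ M, Mᵀ * J = J * adj J M := fun M => by
    rw [adj, ← mul_assoc, ← mul_assoc, Matrix.mul_nonsing_inv _ hc.hJ, one_mul]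
  have hadjz : adj J z = -z := by
    have h1 : adj J z + adj J (adj J A) = adj J A := by rw [← adj_add, hz, sub_add_cancel]
    rw [hc.adj_adj] at h1
    rw [eq_sub_of_add_eq h1, hz, neg_sub]
  have hhB : Commute h (adj J A) := by
    have h1 : Commute (adj J h) A := hhs.symm ▸ hhA
    calc h * adj J A = adj J (adj J h) * adj J A := by rw [hc.adj_adj]
      _ = adj J (A * adj J h) := by rw [adj_mul hc.hJ]
      _ = adj J (adj J h * A) := by rw [h1.eq]
      _ = adj J A * h := by rw [adj_mul hc.hJ, hc.adj_adj]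
  have hhz : Commute h z := hhA.sub_right hhB
  have hze : Commute z e := by
    have heB : Commute e (adj J A) := by
      calc e * adj J A = adj J e * adj J A := by rw [hade]
        _ = adj J (A * e) := by rw [adj_mul hc.hJ]
        _ = adj J (e * A) := by rw [heA.eq]
        _ = adj J A * e := by rw [adj_mul hc.hJ, hade]
    exact (heA.sub_right heB).symm
  let G : Matrix (Fin N) (Fin N) F → Matrix (Fin r) (Fin r) F := fun w => Rᵀ * (J * (z * w)) * R
  have halt : ∀ w, adj J w = w → Commute w z → (G w)ᵀ = -G w := by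
    intro w hw hwz
    have h1 : (J * (z * w))ᵀ = -(J * (z * w)) := by
      rw [transpose_mul, hc.hT, hJT, adj_mul hc.hJ, hw, hadjz, mul_neg, hwz.eq, mul_neg]
    show (Rᵀ * (J * (z * w)) * R)ᵀ = -(Rᵀ * (J * (z * w)) * R)
    rw [transpose_mul, transpose_mul, transpose_transpose, h1, Matrix.neg_mul, Matrix.mul_neg]
    simp only [Matrix.mul_assoc]
  have h1e : (1 - e) * R = R := by rw [← hRL, Matrix.mul_assoc, hLR, Matrix.mul_one]
  have hG1 : (G 1).det ≠ 0 := by
    intro h0
    obtain ⟨v, hv0, hv⟩ := Matrix.exists_mulVec_eq_zero_iff.2 h0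
    have h3 : (Lᵀ * G 1) *ᵥ v = 0 := by rw [← mulVec_mulVec, hv, mulVec_zero]
    have h4 : Lᵀ * G 1 = J * ((1 - e) * z * R) := by
      have ha : adj J (1 - e) = 1 - e := by
        have h1 : adj J (1 - e) + adj J e = 1 := by rw [← adj_add, sub_add_cancel, adj_one hc.hJ]
        rw [hade] at h1
        exact eq_sub_of_add_eq h1
      show Lᵀ * (Rᵀ * (J * (z * 1)) * R) = _
      rw [mul_one, ← Matrix.mul_assoc, ← Matrix.mul_assoc, ← transpose_mul, hRL, ← Matrix.mul_assoc, hJT, ha]
      simp only [Matrix.mul_assoc]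
    rw [h4, ← mulVec_mulVec] at h3
    have hJu : IsUnit J := (Matrix.isUnit_iff_isUnit_det _).2 hc.hJ
    have h5 : ((1 - e) * z * R) *ᵥ v = 0 :=
      (Matrix.mulVec_injective_iff_isUnit.2 hJu) (by rw [h3, mulVec_zero])
    have he1 : e * R = 0 := by
      rw [← h1e, ← Matrix.mul_assoc, mul_sub, mul_one, hee, sub_self, Matrix.zero_mul]
    have h6 : ((z * (1 - e) + e) * R) *ᵥ v = 0 := by
      rw [Matrix.add_mul, he1, add_zero, ((Commute.one_right z).sub_right hze).eq]
      exact h5
    have h7 : R *ᵥ v = 0 := (Matrix.mulVec_injective_iff_isUnit.2 hlam) (by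
      rw [mulVec_mulVec, h6, mulVec_zero])
    apply hv0
    have h8 := congrArg (L *ᵥ ·) h7
    simpa only [mulVec_mulVec, hLR, one_mulVec, mulVec_zero] using h8
  have hGh : G h = G 1 * (L * h * R) := by
    have hR : h * R = R * (L * h * R) := by
      rw [← Matrix.mul_assoc, ← Matrix.mul_assoc, hRL, ← ((Commute.one_right h).sub_right hhe).eq,
        Matrix.mul_assoc h, h1e]
    show Rᵀ * (J * (z * h)) * R = Rᵀ * (J * (z * 1)) * R * (L * h * R)
    rw [mul_one]
    simp only [Matrix.mul_assoc] at hR ⊢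
    rw [← hR]
  have hdet : (h * (1 - e) + e).det = (L * h * R).det := by
    have e1 : h * (1 - e) + e = 1 + ((h - 1) * R) * L := by
      rw [Matrix.mul_assoc, hRL]; noncomm_ring
    rw [e1, Matrix.det_one_add_mul_comm, ← Matrix.mul_assoc, Matrix.mul_sub, Matrix.sub_mul, Matrix.mul_one, hLR,
      add_sub_cancel]
  have hs1 := isSquare_det_alt hc.h2 (G 1) (halt 1 (adj_one hc.hJ) (Commute.one_left _)) hG1
  have hLh : (L * h * R).det ≠ 0 := by
    rw [← hdet]
    obtain ⟨u, rfl⟩ := hh
    refine Matrix.det_ne_zero_of_right_inverse (B := (↑u⁻¹ : Matrix (Fin N) (Fin N) F) * (1 - e) + e) ?_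
    have c1 : Commute (↑u⁻¹ : Matrix (Fin N) (Fin N) F) (1 - e) :=
      ((Commute.one_right _).sub_right hhe).units_inv_left
    have c2 : (1 - e) * e = 0 := by rw [sub_mul, one_mul, hee, sub_self]
    have c3 : e * (1 - e) = 0 := by rw [mul_sub, mul_one, hee, sub_self]
    calc ((u : Matrix (Fin N) (Fin N) F) * (1 - e) + e) * ((↑u⁻¹ : Matrix (Fin N) (Fin N) F) * (1 - e) + e)
        = (u : Matrix (Fin N) (Fin N) F) * ((1 - e) * ↑u⁻¹) * (1 - e) + u * ((1 - e) * e) +
          (e * ↑u⁻¹) * (1 - e) + e * e := by noncomm_ring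
      _ = 1 := by
        rw [← c1.eq, ← mul_assoc, Units.mul_inv, one_mul, hef, c2, mul_zero, add_zero, hee,
          ← (hhe.units_inv_left).eq, mul_assoc, c3, mul_zero, add_zero, sub_add_cancel]
  have hs2 := isSquare_det_alt hc.h2 (G h) (halt h hhs hhz) (by rw [hGh, det_mul]; exact mul_ne_zero hG1 hLh)
  rw [hGh, det_mul] at hs2
  obtain ⟨a, ha⟩ := hs1
  obtain ⟨b, hb⟩ := hs2
  have ha0 : a ≠ 0 := fun h0 => hG1 (by rw [ha, h0, mul_zero])
  rw [hdet]
  exact ⟨b / a, by field_simp; linear_combination hb - (L * h * R).det * ha⟩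

variable (d : Decomp A)

/-- The determinant of a block map. -/
theorem det_block_map {c : F} {e : ℕ} (m : Matrix (Blk d c e) (Blk d c e) F) {x : Matrix (Fin N) (Fin N) F}
    (hx : Commute x A) (hxg : ∀ j, x *ᵥ gen d j = blockImg d c e m j) : x.det = m.det ^ e := by
  let R : Matrix (Fin N) (Blk d c e × Fin e) F := Matrix.of fun a p => (A ^ p.2.1 *ᵥ gen d p.1.1.1) a
  have hm : ∀ j, (d.P j ^ d.e j).Monic := fun j => (d.item j).monic.pow _
  let Ll : (Fin N → F) →ₗ[F] (Blk d c e × Fin e → F) :=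
    { toFun := fun v p => (AdjoinRoot.modByMonicHom (hm p.1.1.1) (d.φ v p.1.1.1)).coeff p.2.1
      map_add' := fun v w => by funext p; simp
      map_smul' := fun r v => by funext p; simp }
  let L := LinearMap.toMatrix' Ll
  have hdeg : ∀ j : Blk d c e, (d.P j.1.1 ^ d.e j.1.1).natDegree = e := fun j => by
    rw [natDegree_pow, j.1.2, natDegree_X_sub_C, mul_one, j.2]
  have hLR : L * R = 1 := by
    ext p p'
    show (L *ᵥ (fun a => R a p')) p = _
    rw [LinearMap.toMatrix'_mulVec]
    show (AdjoinRoot.modByMonicHom (hm p.1.1.1) (d.φ (A ^ p'.2.1 *ᵥ gen d p'.1.1.1) p.1.1.1)).coeff p.2.1 = _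
    rw [show A ^ p'.2.1 = aeval A ((X : F[X]) ^ p'.2.1) by simp]
    by_cases h : p.1 = p'.1
    · rw [h, φ_aeval_gen_self, AdjoinRoot.modByMonicHom_mk, modByMonic_eq_self_iff (hm _) |>.2 (by
        rw [degree_X_pow, degree_eq_natDegree (hm _).ne_zero, hdeg]
        exact_mod_cast p'.2.2), coeff_X_pow, Matrix.one_apply]
      simp [Prod.ext_iff, h, Fin.ext_iff]
    · rw [φ_aeval_gen_ne d _ (fun h' => h (Subtype.ext (Subtype.ext h'))), map_zero, coeff_zero,
        Matrix.one_apply_ne (fun h' => h (congrArg Prod.fst h'))]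
  let K : Matrix (Blk d c e × Fin e) (Blk d c e × Fin e) F := Matrix.kronecker (m - 1) (1 : Matrix (Fin e) (Fin e) F)
  have hx1 : x = 1 + R * K * L := by
    refine Matrix.ext_iff_mulVec.2 fun v => ?_
    obtain ⟨f, hf, hv⟩ := exists_rep d v
    have hstep : x *ᵥ v = v + ∑ j : Blk d c e, aeval A (AdjoinRoot.modByMonicHom (hm j.1.1) (d.φ v j.1.1)) *ᵥ
        (blockImg d c e m j.1.1 - gen d j.1.1) := by
      have hf' : ∀ j, aeval A (f j) *ᵥ gen d j = aeval A (AdjoinRoot.modByMonicHom (hm j) (d.φ v j)) *ᵥ gen d j := by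
        intro j
        rw [← hf, AdjoinRoot.modByMonicHom_mk]
        conv_lhs => rw [← modByMonic_add_div (f j) (d.P j ^ d.e j)]
        rw [map_add, add_mulVec, mul_comm (d.P j ^ d.e j), map_mul, ← mulVec_mulVec _ (aeval A _), aeval_ann,
          mulVec_zero, add_zero]
      conv_lhs => rw [hv, mulVec_sum]
      conv_rhs => arg 1; rw [hv]
      simp only [hf', mulVec_mulVec, (commute_aeval hx _).eq]
      simp only [← mulVec_mulVec, hxg]
      have h1 : ∀ j : Fin d.k, aeval A (AdjoinRoot.modByMonicHom (hm j) (d.φ v j)) *ᵥ blockImg d c e m j =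
          aeval A (AdjoinRoot.modByMonicHom (hm j) (d.φ v j)) *ᵥ gen d j +
            aeval A (AdjoinRoot.modByMonicHom (hm j) (d.φ v j)) *ᵥ (blockImg d c e m j - gen d j) := fun j => by
        rw [← mulVec_add, add_sub_cancel]
      rw [Finset.sum_congr rfl fun j _ => h1 j, Finset.sum_add_distrib]
      congr 1
      refine Eq.trans (Finset.sum_subset (Finset.subset_univ (Finset.univ.map
        ⟨fun j : Blk d c e => j.1.1, fun a b h => Subtype.ext (Subtype.ext h)⟩)) fun j _ hj => ?_).symm
        (Finset.sum_map _ _ _)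
      rw [blockImg, dif_neg, sub_self, mulVec_zero]
      rintro ⟨h1, h2⟩
      exact hj (Finset.mem_map.2 ⟨⟨⟨j, h1⟩, h2⟩, Finset.mem_univ _, rfl⟩)
    rw [hstep, add_mulVec, one_mulVec, ← mulVec_mulVec, ← mulVec_mulVec, LinearMap.toMatrix'_mulVec]
    congr 1
    have hterm : ∀ j : Blk d c e, aeval A (AdjoinRoot.modByMonicHom (hm j.1.1) (d.φ v j.1.1)) *ᵥ
        (blockImg d c e m j.1.1 - gen d j.1.1) =
        ∑ i : Blk d c e, ∑ s : Fin e, ((m - 1) i j * Ll v (j, s)) • (A ^ s.1 *ᵥ gen d i.1.1) := by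
      intro j
      have hb : blockImg d c e m j.1.1 - gen d j.1.1 = ∑ i, (m - 1) i j • gen d i.1.1 := by
        simp only [Matrix.sub_apply, sub_smul, Finset.sum_sub_distrib, blockImg_blk]
        congr 1
        simp [Matrix.one_apply]
      rw [hb, mulVec_sum]
      refine Finset.sum_congr rfl fun i _ => ?_
      rw [mulVec_smul]
      set p := AdjoinRoot.modByMonicHom (hm j.1.1) (d.φ v j.1.1) with hp
      have hpd : p.natDegree < e ∨ p = 0 := by
        obtain ⟨g, hg⟩ := AdjoinRoot.mk_surjective (d.φ v j.1.1)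
        by_cases h0 : p = 0
        · exact Or.inr h0
        · left
          have := natDegree_modByMonic_lt g (hm j.1.1) (by
            intro h1
            have := congrArg natDegree h1
            rw [hdeg, natDegree_one] at this
            have := (d.item j.1.1).pos
            have := j.2
            simp only at *
            omega)
          rw [hdeg] at this
          rwa [hp, ← hg, AdjoinRoot.modByMonicHom_mk]
      have hexp : aeval A p = ∑ s : Fin e, p.coeff s.1 • A ^ s.1 := by
        rcases hpd with hlt | h0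
        · rw [aeval_eq_sum_range' hlt, Finset.sum_range]
        · simp [h0]
      rw [hexp, sum_mulVec, Finset.smul_sum]
      exact Finset.sum_congr rfl fun s _ => by rw [smul_mulVec, smul_smul]; rfl
    rw [Finset.sum_congr rfl fun j _ => hterm j, Finset.sum_comm]
    funext a
    simp only [Finset.sum_apply, Pi.smul_apply, smul_eq_mul]
    show _ = ∑ p : Blk d c e × Fin e, R a p * (K *ᵥ Ll v) p
    rw [Fintype.sum_prod_type]
    refine Finset.sum_congr rfl fun i _ => ?_
    rw [Finset.sum_comm]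
    refine Finset.sum_congr rfl fun s _ => ?_
    rw [show (K *ᵥ Ll v) (i, s) = ∑ q, K (i, s) q * Ll v q from rfl, Fintype.sum_prod_type, Finset.mul_sum]
    refine Finset.sum_congr rfl fun j _ => ?_
    rw [Finset.sum_eq_single s]
    · simp only [K, Matrix.kronecker, kroneckerMap_apply, Matrix.one_apply_eq, mul_one, R, Matrix.of_apply]
      ring
    · intro s' _ hs
      simp [K, Matrix.kronecker, kroneckerMap_apply, Matrix.one_apply_ne (Ne.symm hs)]
    · simp
  rw [hx1, Matrix.mul_assoc, Matrix.det_one_add_mul_comm, Matrix.mul_assoc, hLR, Matrix.mul_one]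
  have hK : 1 + K = Matrix.kronecker m (1 : Matrix (Fin e) (Fin e) F) := by
    ext ⟨i, s⟩ ⟨j, t⟩
    simp only [K, Matrix.kronecker, Matrix.add_apply, kroneckerMap_apply, Matrix.sub_apply, Matrix.one_apply,
      Prod.mk.injEq]
    split_ifs <;> simp_all
  rw [hK, Matrix.kronecker, Matrix.det_kronecker, det_one, one_pow, mul_one, Fintype.card_fin]

/-- A lift of one block: its determinant, and it is trivial away from `±1`. -/
theorem exists_lift_det {p : Matrix (Fin N) (Fin N) F} {c : F} (hc2 : c * c = 1) (e : ℕ)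
    (hp : ∃ K z, p = z * aeval A ((X ^ 2 - 1 : F[X]) ^ K) ∧ e ≤ K)
    (hpA : Commute p A) (m : Matrix (Blk d c e) (Blk d c e) F) (hm : m.det ≠ 0) :
    ∃ x : Matrix (Fin N) (Fin N) F, IsUnit x ∧ Commute x A ∧ rho d c e x = m ∧
      (∀ c' e', (c', e') ≠ (c, e) → rho d c' e' x = 1) ∧ x.det = m.det ^ e ∧ p * x = p := by
  obtain ⟨x, hx, hxg⟩ := exists_block_map d c e m
  obtain ⟨y, hy, hyg⟩ := exists_block_map d c e m⁻¹
  refine ⟨x, IsUnit.of_mul_eq_one y (block_map_mul d (Matrix.mul_nonsing_inv _ (isUnit_iff_ne_zero.2 hm)) hx hy hxg hyg),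
    hx, rho_block_self d hxg, fun c' e' h => rho_block_ne d hxg h, det_block_map d m hx hxg, ?_⟩
  obtain ⟨K, z, rfl, hK⟩ := hp
  have hD : aeval A ((X ^ 2 - 1 : F[X]) ^ K) * (x - 1) = 0 := by
    refine CfsgLib.ClassCountSp.ext_gen d ((commute_aeval (Commute.refl A) _).symm.mul_left (hx.sub_left (Commute.one_left A)))
      (Commute.zero_left A) fun j => ?_
    rw [← mulVec_mulVec, zero_mulVec, sub_mulVec, one_mulVec, hxg]
    by_cases h : d.P j = X - C c ∧ d.e j = e
    · have hann : ∀ i : Blk d c e, aeval A ((X ^ 2 - 1 : F[X]) ^ K) *ᵥ gen d i.1.1 = 0 := by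
        intro i
        have hdvd : d.P i.1.1 ^ d.e i.1.1 ∣ (X ^ 2 - 1 : F[X]) ^ K := by
          rw [i.1.2, i.2]
          refine (pow_dvd_pow_of_dvd ⟨X + C c, ?_⟩ e).trans (pow_dvd_pow _ hK)
          have hC : C c * C c = 1 := by rw [← C_mul, hc2, C_1]
          linear_combination hC
        obtain ⟨g, hg⟩ := hdvd
        rw [hg, mul_comm, map_mul, ← mulVec_mulVec, aeval_ann, mulVec_zero]
      rw [blockImg, dif_pos h, mulVec_sub, mulVec_sum,
        Finset.sum_eq_zero fun i _ => by rw [mulVec_smul, hann, smul_zero], zero_sub,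
        show gen d j = gen d (⟨⟨j, h.1⟩, h.2⟩ : Blk d c e).1.1 from rfl, hann, neg_zero]
    · rw [blockImg, dif_neg h, sub_self, mulVec_zero]
  have h1 : z * aeval A ((X ^ 2 - 1 : F[X]) ^ K) * (x - 1) = 0 := by rw [mul_assoc, hD, mul_zero]
  rw [mul_sub, mul_one, sub_eq_zero] at h1
  exact h1

end CfsgLib.ClassCountO
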