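import Cfsg.Agent.ClassCountSp.Levels

set_option autoImplicit false
set_option linter.style.haveILetI false

/-!
Encodings for orthogonal groups: level `k` carries four bits, each worth `2 k - 1`, and a self-reciprocal
polynomial of degree `2 j`, worth `2 k j`; a set `B` restricts the bit patterns.
-/

namespace CfsgLib.ClassCountO

open Polynomial
open CfsgLib.ClassCountSp (Lvl Valid dflt selfRec valid_dflt card_selfRec_le)
open scoped Classical

variable {F : Type*} [Field F]

/-- The number of bits set. -/
def bitCount (b : Fin 4 → Bool) : ℕ := (Finset.univ.filter fun j => b j = true).card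

/-- The weight of a level. -/
noncomputable def lwt (k : ℕ) (x : Lvl F) : ℕ := k * x.2.natDegree + (2 * k - 1) * bitCount x.1

theorem lwt_dflt (k : ℕ) : lwt k (dflt F) = 0 := by simp [lwt, dflt, bitCount]

/-- The weighted count: bit patterns from `B`, over `r` levels starting at level `i`. -/
def W (q : ℕ) (B : Finset (Fin 4 → Bool)) : ℕ → ℕ → ℕ → ℕ
  | 0, _, m => if m = 0 then 1 else 0
  | r + 1, i, m => ∑ b ∈ B, ∑ j ∈ Finset.range (m + 1),
      if 2 * i * j + (2 * i - 1) * bitCount b ≤ m then
        q ^ j * W q B r (i + 1) (m - (2 * i * j + (2 * i - 1) * bitCount b)) else 0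

/-- Encodings of weight `m`, trivial below level `i`, with bit patterns from `B`. -/
def encSet (F : Type*) [Field F] (B : Finset (Fin 4 → Bool)) (N i m : ℕ) : Set (Fin (N + 1) → Lvl F) :=
  {g | (∀ k, Valid (g k) ∧ (g k).1 ∈ B) ∧ (∀ k : Fin (N + 1), k.1 < i → g k = dflt F) ∧ ∑ k, lwt k.1 (g k) = m}

variable [Fintype F] {B : Finset (Fin 4 → Bool)}

theorem card_encSet_le (N : ℕ) : ∀ (r i m : ℕ), 1 ≤ i → N + 1 = i + r →
    Finite (encSet F B N i m) ∧ Nat.card (encSet F B N i m) ≤ W (Fintype.card F) B r i m := by
  intro r
  induction r with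
  | zero =>
    intro i m hi hr
    have hsub : ∀ g ∈ encSet F B N i m, g = fun _ => dflt F := fun g hg =>
      funext fun k => hg.2.1 k (by have := k.2; omega)
    haveI : Subsingleton (encSet F B N i m) := ⟨fun g g' => Subtype.ext ((hsub _ g.2).trans (hsub _ g'.2).symm)⟩
    refine ⟨inferInstance, ?_⟩
    rw [W]
    split_ifs with hm
    · exact Finite.card_le_one_iff_subsingleton.2 inferInstance
    · haveI : IsEmpty (encSet F B N i m) := ⟨fun g => by
        have := g.2.2.2
        rw [hsub _ g.2] at this
        simp [lwt_dflt] at this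
        omega⟩
      simp
  | succ r ih =>
    intro i m hi hr
    set k₀ : Fin (N + 1) := ⟨i, by omega⟩ with hk₀
    let T := (b : B) × (j : Fin (m + 1)) × {_f : selfRec F j.1 × encSet F B N (i + 1)
      (m - (2 * i * j.1 + (2 * i - 1) * bitCount b.1)) // 2 * i * j.1 + (2 * i - 1) * bitCount b.1 ≤ m}
    haveI hfin : ∀ (b : B) (j : Fin (m + 1)), Finite (selfRec F j.1 × encSet F B N (i + 1)
        (m - (2 * i * j.1 + (2 * i - 1) * bitCount b.1))) := fun b j => by
      haveI := (card_selfRec_le (F := F) j.1).1
      haveI := (ih (i + 1) (m - (2 * i * j.1 + (2 * i - 1) * bitCount b.1)) (by omega) (by omega)).1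
      infer_instance
    have hsum : ∀ g : encSet F B N i m,
        lwt i (g.1 k₀) + ∑ k, lwt k.1 (Function.update g.1 k₀ (dflt F) k) = m := by
      intro g
      conv_rhs => rw [← g.2.2.2]
      rw [← Finset.add_sum_erase _ (fun k => lwt k.1 (g.1 k)) (Finset.mem_univ k₀),
        ← Finset.add_sum_erase _ (fun k => lwt k.1 (Function.update g.1 k₀ (dflt F) k)) (Finset.mem_univ k₀),
        Function.update_self, lwt_dflt, zero_add]
      congr 1
      exact Finset.sum_congr rfl fun k hk => by rw [Function.update_of_ne (Finset.ne_of_mem_erase hk)]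
    choose deg hdeg using fun g : encSet F B N i m => (g.2.1 k₀).1
    have hwt : ∀ g : encSet F B N i m,
        lwt i (g.1 k₀) = 2 * i * deg g + (2 * i - 1) * bitCount (g.1 k₀).1 := by
      intro g
      rw [lwt, (hdeg g).2.1]; ring
    have hlt : ∀ g : encSet F B N i m, deg g < m + 1 := by
      intro g
      have h1 := hwt g
      have h2 := hsum g
      have : deg g ≤ 2 * i * deg g := Nat.le_mul_of_pos_left _ (by omega)
      omega
    let f : encSet F B N i m → T := fun g =>
      ⟨⟨(g.1 k₀).1, (g.2.1 k₀).2⟩, ⟨deg g, hlt g⟩,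
        ⟨(⟨(g.1 k₀).2, hdeg g⟩, ⟨Function.update g.1 k₀ (dflt F),
        fun k => by
          rcases eq_or_ne k k₀ with rfl | h
          · rw [Function.update_self]
            refine ⟨valid_dflt, ?_⟩
            have h0 : g.1 ⟨0, by omega⟩ = dflt F := g.2.2.1 _ (by show (0 : ℕ) < i; omega)
            exact congrArg Prod.fst h0 ▸ (g.2.1 _).2
          · rw [Function.update_of_ne h]; exact g.2.1 k,
        fun k hk => by
          rcases eq_or_ne k k₀ with rfl | h
          · rw [Function.update_self]
          · rw [Function.update_of_ne h]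
            exact g.2.2.1 k (by
              have : k.1 ≠ i := fun e => h (Fin.ext e)
              omega),
        by show _ = m - (2 * i * deg g + (2 * i - 1) * bitCount (g.1 k₀).1); have := hsum g; have := hwt g; omega⟩),
        by have := hsum g; have := hwt g; show 2 * i * deg g + (2 * i - 1) * bitCount (g.1 k₀).1 ≤ m; omega⟩⟩
    have hf : Function.Injective f := by
      intro g g' e
      apply Subtype.ext
      funext k
      rcases eq_or_ne k k₀ with rfl | h
      · exact Prod.ext (congrArg (fun z : T => z.1.1) e) (congrArg (fun z : T => (z.2.2.1.1 : F[X])) e)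
      · have := congrFun (congrArg (fun z : T => (z.2.2.1.2 : Fin (N + 1) → Lvl F)) e) k
        simp only [f, Function.update_of_ne h] at this
        exact this
    refine ⟨Finite.of_injective f hf, (Nat.card_le_card_of_injective f hf).trans ?_⟩
    rw [Nat.card_sigma]
    conv_rhs => rw [W]
    rw [← Finset.sum_coe_sort B]
    refine Finset.sum_le_sum fun b _ => ?_
    rw [Nat.card_sigma, Finset.sum_range]
    refine Finset.sum_le_sum fun j _ => ?_
    split_ifs with hle
    · refine (Nat.card_le_card_of_injective (fun x => x.1) Subtype.val_injective).trans ?_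
      rw [Nat.card_prod]
      exact Nat.mul_le_mul (card_selfRec_le j.1).2 (ih (i + 1) _ (by omega) (by omega)).2
    · haveI : IsEmpty {_f : selfRec F j.1 × encSet F B N (i + 1)
          (m - (2 * i * j.1 + (2 * i - 1) * bitCount b.1)) // 2 * i * j.1 + (2 * i - 1) * bitCount b.1 ≤ m} :=
        ⟨fun x => hle x.2⟩
      simp

end CfsgLib.ClassCountO
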