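import Cfsg.Agent.ClassCountO.Classes
import Cfsg.Agent.ClassCountSp.Lower

set_option autoImplicit false
set_option linter.style.haveILetI false

/-!
At least `q^n / 2` classes in an orthogonal group of dimension `2n`: for at least half of the monic `g` of degree
`n` some isometry `x` has `charpoly (x + x⁻¹) = g²`.
-/

namespace CfsgLib.ClassCountO

open Polynomial Matrix
open scoped Classical

variable {F : Type*} [Field F]

/-- An isometry of some symmetric form with given `charpoly (x + x⁻¹)`; the determinant of the form. -/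
theorem exists_model (h2 : (2 : F) ≠ 0) (g : F[X]) (hg : g.Monic) {n : ℕ} (hn : g.natDegree = n) :
    ∃ B x y : Matrix (Fin n ⊕ Fin n) (Fin n ⊕ Fin n) F, Bᵀ = B ∧ xᵀ * B * x = B ∧ x * y = 1 ∧
      (x + y).charpoly = g * g ∧ ∃ s : F, s ≠ 0 ∧ B.det = s * s * ((-1) ^ n * (g.eval 2 * g.eval (-2))) := by
  obtain ⟨d, S, hd, hS, hSu, hSd⟩ := ClassCountSp.exists_companion g hg hn
  have hSd' : dᵀ * S = S * d := by
    rw [transpose_mul, hS] at hSd
    exact hSd
  refine ⟨fromBlocks ((2 : F) • S) (S * d) (S * d) ((2 : F) • S), fromBlocks 0 (-1) 1 d, fromBlocks d 1 (-1) 0,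
    ?_, ?_, ?_, ?_, ?_⟩
  · rw [fromBlocks_transpose, transpose_smul, hS, hSd]
  · rw [fromBlocks_transpose, fromBlocks_multiply, fromBlocks_multiply]
    simp only [transpose_zero, transpose_one, transpose_neg, Matrix.zero_mul, Matrix.one_mul, Matrix.mul_zero,
      Matrix.mul_one, zero_add, add_zero, Matrix.neg_mul, Matrix.mul_neg, Matrix.add_mul, Matrix.mul_smul,
      Matrix.smul_mul, hSd', ← Matrix.mul_assoc, smul_zero]
    congr 1 <;> module
  · rw [fromBlocks_multiply]
    simp [← fromBlocks_one]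
  · rw [fromBlocks_add, zero_add, neg_add_cancel, add_neg_cancel, add_zero, Matrix.charpoly_fromBlocks_zero₂₁, hd]
  · refine ⟨S.det, hSu.ne_zero, ?_⟩
    letI : Invertible ((2 : F) • (1 : Matrix (Fin n) (Fin n) F)) :=
      ⟨(2 : F)⁻¹ • 1, by rw [Matrix.smul_mul, Matrix.mul_smul, smul_smul, inv_mul_cancel₀ h2, one_smul, one_mul],
        by rw [Matrix.smul_mul, Matrix.mul_smul, smul_smul, mul_inv_cancel₀ h2, one_smul, one_mul]⟩
    have hinv : ⅟((2 : F) • (1 : Matrix (Fin n) (Fin n) F)) = (2 : F)⁻¹ • 1 := rfl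
    have hsplit : fromBlocks ((2 : F) • S) (S * d) (S * d) ((2 : F) • S) =
        fromBlocks S 0 0 S * fromBlocks ((2 : F) • 1) d d ((2 : F) • 1) := by
      simp [fromBlocks_multiply]
    have hev : ∀ r : F, g.eval r = (r • (1 : Matrix (Fin n) (Fin n) F) - d).det := fun r => by
      rw [← hd, Matrix.eval_charpoly, Matrix.smul_one_eq_diagonal]; rfl
    rw [hsplit, det_mul, det_fromBlocks_zero₂₁, Matrix.det_fromBlocks₁₁, hinv,
      ← det_mul ((2 : F) • (1 : Matrix (Fin n) (Fin n) F)), hev, hev,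
      ← det_mul (((2 : F)) • (1 : Matrix (Fin n) (Fin n) F) - d)]
    congr 1
    rw [show ((-1 : F) ^ n) = (-1 : F) ^ Fintype.card (Fin n) by rw [Fintype.card_fin], ← det_smul]
    congr 1
    simp only [mul_smul_comm, smul_mul_assoc, Matrix.mul_one, Matrix.one_mul, mul_sub, sub_mul, smul_sub,
      smul_smul, mul_inv_cancel₀ h2, inv_mul_cancel₀ h2, one_smul]
    module

variable [Fintype F] {N : ℕ} {J : Matrix (Fin N) (Fin N) F}

/-- The monic polynomials of degree `n` reached by isometries of `J`. -/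
theorem exists_isometry (hf : Form J) {n : ℕ} (hN : N = 2 * n) (g : F[X]) (hg : g.Monic) (hn : g.natDegree = n)
    (hgood : g.eval 2 * g.eval (-2) = 0 ∨ IsSquare ((-1) ^ n * (g.eval 2 * g.eval (-2)) * J.det)) :
    ∃ x : orthGroup J, (((x : GL (Fin N) F) : Matrix (Fin N) (Fin N) F) +
      (((x⁻¹ : orthGroup J) : GL (Fin N) F) : Matrix (Fin N) (Fin N) F)).charpoly = g * g := by
  have h2 := hf.h2
  set a := g.rootMultiplicity 2
  obtain ⟨g0, hg0, hg0d⟩ := exists_eq_pow_rootMultiplicity_mul_and_not_dvd g hg.ne_zero 2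
  obtain ⟨g1, hg1, hg1d⟩ := exists_eq_pow_rootMultiplicity_mul_and_not_dvd g0
    (fun h => hg.ne_zero (by rw [hg0, h, mul_zero])) (-2)
  set b := g0.rootMultiplicity (-2)
  have hg0m : g0.Monic := (((monic_X_sub_C (2 : F)).pow _).of_mul_monic_left (hg0 ▸ hg))
  have hg1m : g1.Monic := (((monic_X_sub_C (-2 : F)).pow _).of_mul_monic_left (hg1 ▸ hg0m))
  have hg1a : g1.eval 2 ≠ 0 := fun h => hg0d (by
    rw [hg1]; exact (dvd_iff_isRoot.2 h).mul_left _)
  have hg1b : g1.eval (-2) ≠ 0 := fun h => hg1d (dvd_iff_isRoot.2 h)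
  have hdeg : n = a + (b + g1.natDegree) := by
    rw [← hn, hg0, ((monic_X_sub_C (2 : F)).pow _).natDegree_mul hg0m, hg1,
      ((monic_X_sub_C (-2 : F)).pow _).natDegree_mul hg1m, natDegree_pow, natDegree_X_sub_C, mul_one,
      natDegree_pow, natDegree_X_sub_C, mul_one]
  set m := g1.natDegree
  obtain ⟨B1, x1, y1, hB1, hiso, hxy, hch, s, hs, hdet⟩ := exists_model h2 g1 hg1m (n := m) rfl
  -- the diagonal part, one entry free
  let ι := (Fin (2 * a) ⊕ Fin (2 * b))
  let c : ι → F := fun i => if (finSumFinEquiv i).1 = 0 then B1.det * J.det else 1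
  have hB1d : B1.det ≠ 0 := by
    rw [hdet]
    exact mul_ne_zero (mul_ne_zero hs hs) (mul_ne_zero (pow_ne_zero _ (neg_ne_zero.2 one_ne_zero)) (mul_ne_zero hg1a hg1b))
  have hJ0 : J.det ≠ 0 := hf.hJ.ne_zero
  have hsq : IsSquare (B1.det * (∏ i, c i) * J.det) := by
    by_cases h0 : 2 * a + 2 * b = 0
    · haveI : IsEmpty ι := Fintype.card_eq_zero_iff.1 (by simp [ι]; omega)
      have ha0 : a = 0 := by omega
      have hb0 : b = 0 := by omega
      rw [Fintype.prod_empty, mul_one, hdet]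
      have e1 : g = g1 := by rw [hg0, show g.rootMultiplicity 2 = 0 from ha0, hg1, hb0, pow_zero, pow_zero, one_mul, one_mul]
      rcases hgood with h | h
      · rw [e1] at h; exact absurd h (mul_ne_zero hg1a hg1b)
      · rw [e1, show n = m by omega] at h
        rw [mul_assoc]
        exact (IsSquare.mul_self s).mul h
    · obtain ⟨i0, hi0⟩ : ∃ i : ι, (finSumFinEquiv i).1 = 0 :=
        ⟨finSumFinEquiv.symm ⟨0, Nat.pos_of_ne_zero h0⟩, by simp⟩
      have hc : ∏ i, c i = B1.det * J.det := by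
        rw [Finset.prod_eq_single i0 (fun i _ hne => if_neg fun h => hne (finSumFinEquiv.injective (Fin.ext (h.trans hi0.symm))))
          (by simp)]
        exact if_pos hi0
      rw [hc]; exact ⟨B1.det * J.det, by ring⟩
  let x2 : Matrix ι ι F := fromBlocks 1 0 0 (-1)
  let B : Matrix ((Fin m ⊕ Fin m) ⊕ ι) ((Fin m ⊕ Fin m) ⊕ ι) F := fromBlocks B1 0 0 (diagonal c)
  let x : Matrix ((Fin m ⊕ Fin m) ⊕ ι) ((Fin m ⊕ Fin m) ⊕ ι) F := fromBlocks x1 0 0 x2
  let y : Matrix ((Fin m ⊕ Fin m) ⊕ ι) ((Fin m ⊕ Fin m) ⊕ ι) F := fromBlocks y1 0 0 x2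
  have hx2 : x2 * x2 = 1 := by
    show fromBlocks 1 0 0 (-1) * fromBlocks 1 0 0 (-1) = 1
    rw [fromBlocks_multiply]
    simp [fromBlocks_one]
  have hx2d : x2 = diagonal (Sum.elim 1 (-1)) := by
    rw [← fromBlocks_diagonal]
    show fromBlocks (1 : Matrix (Fin (2 * a)) (Fin (2 * a)) F) 0 0 (-1) = _
    congr 1
    rw [← diagonal_one, diagonal_neg]; rfl
  have hxB : xᵀ * B * x = B := by
    simp only [x, B, fromBlocks_transpose, fromBlocks_multiply, transpose_zero, Matrix.zero_mul, Matrix.mul_zero,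
      zero_add, add_zero, hiso]
    congr 1
    rw [hx2d, diagonal_transpose, diagonal_mul_diagonal, diagonal_mul_diagonal]
    congr 1; funext i; rcases i with i | i <;> simp
  have hxy' : x * y = 1 := by
    simp only [x, y, fromBlocks_multiply, Matrix.zero_mul, Matrix.mul_zero, zero_add, add_zero, hxy, hx2]
    exact fromBlocks_one
  have hch' : (x + y).charpoly = g * g := by
    have e2 : (x2 + x2).charpoly = (X - C 2) ^ (2 * a) * (X - C (-2)) ^ (2 * b) := by
      rw [hx2d, diagonal_add, charpoly_diagonal, Fintype.prod_sum_type]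
      simp [show (1 : F) + 1 = 2 by norm_num, show (-1 : F) + -1 = -2 by norm_num]
    simp only [x, y, fromBlocks_add, add_zero, Matrix.charpoly_fromBlocks_zero₂₁, hch, e2]
    conv_rhs => rw [hg0, hg1]
    rw [pow_mul, pow_mul, sq, sq, mul_pow, mul_pow]
    ring
  -- transport
  obtain ⟨e⟩ : Nonempty (((Fin m ⊕ Fin m) ⊕ ι) ≃ Fin N) := ⟨Fintype.equivFinOfCardEq (by
    simp [ι, Fintype.card_sum]; omega)⟩
  have hBd : B.det = B1.det * ∏ i, c i := by simp [B]
  have hc0 : ∀ i, c i ≠ 0 := fun i => by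
    simp only [c]; split_ifs
    · exact mul_ne_zero hB1d hJ0
    · exact one_ne_zero
  obtain ⟨w, hw⟩ := ClassCountSp.exists_congr_symm h2 (B.submatrix e.symm e.symm) J
    (by rw [transpose_submatrix]; congr 1; simp [B, fromBlocks_transpose, hB1]) hf.hT
    (by rw [det_submatrix_equiv_self, hBd]; exact mul_ne_zero hB1d (Finset.prod_ne_zero_iff.2 fun i _ => hc0 i))
    hJ0 (by rw [det_submatrix_equiv_self, hBd]; exact hsq)
  have hw0 : w.det ≠ 0 := ClassCountSp.det_ne_of_congr hJ0 hw
  let W' : GL (Fin N) F := Matrix.GeneralLinearGroup.mkOfDetNeZero w hw0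
  set x' := x.submatrix e.symm e.symm with hx'
  set y' := y.submatrix e.symm e.symm with hy'
  have hxy2 : x' * y' = 1 := by rw [hx', hy', submatrix_mul_equiv, hxy', submatrix_one_equiv]
  let u : GL (Fin N) F := ⟨x', y', hxy2, mul_eq_one_comm.1 hxy2⟩
  let v : GL (Fin N) F := W'⁻¹ * u * W'
  have hwi : (w : Matrix (Fin N) (Fin N) F) * (↑W'⁻¹ : Matrix (Fin N) (Fin N) F) = 1 := W'.mul_inv
  have hv : v ∈ orthGroup J := by
    show ((↑W'⁻¹ : Matrix (Fin N) (Fin N) F) * x' * w)ᵀ * J * ((↑W'⁻¹ : Matrix (Fin N) (Fin N) F) * x' * w) = J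
    conv_rhs => rw [← hw]
    conv_lhs => rw [← hw]
    have hx'B : x'ᵀ * B.submatrix e.symm e.symm * x' = B.submatrix e.symm e.symm := by
      rw [hx', transpose_submatrix, submatrix_mul_equiv, submatrix_mul_equiv, hxB]
    calc ((↑W'⁻¹ : Matrix (Fin N) (Fin N) F) * x' * w)ᵀ * (wᵀ * B.submatrix e.symm e.symm * w) *
          ((↑W'⁻¹ : Matrix (Fin N) (Fin N) F) * x' * w)
        = wᵀ * (x'ᵀ * ((w * (↑W'⁻¹ : Matrix (Fin N) (Fin N) F))ᵀ * B.submatrix e.symm e.symm *
            (w * (↑W'⁻¹ : Matrix (Fin N) (Fin N) F))) * x') * w := by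
          simp only [transpose_mul, mul_assoc]
      _ = _ := by rw [hwi, transpose_one, one_mul, mul_one, hx'B]
  refine ⟨⟨v, hv⟩, ?_⟩
  show ((v : Matrix (Fin N) (Fin N) F) + ((v⁻¹ : GL (Fin N) F) : Matrix (Fin N) (Fin N) F)).charpoly = _
  simp only [v, _root_.mul_inv_rev, inv_inv, Units.val_mul]
  rw [← mul_assoc _ (↑u⁻¹ : Matrix (Fin N) (Fin N) F), ← add_mul, ← mul_add, Matrix.charpoly_mul_comm, ← mul_assoc]
  show (w * (↑W'⁻¹ : Matrix (Fin N) (Fin N) F) * (x' + y')).charpoly = _
  rw [hwi, one_mul, hx', hy']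
  show ((x + y).submatrix e.symm e.symm).charpoly = _
  exact (Matrix.charpoly_reindex e (x + y)).trans hch'

/-- `q^n ≤ 2 k(O(J))` in dimension `2n`. -/
theorem card_lower (hf : Form J) {n : ℕ} (hN : N = 2 * n) (hn : 2 ≤ n) :
    Fintype.card F ^ n ≤ 2 * Nat.card (ConjClasses (orthGroup J)) := by
  have h2 := hf.h2
  haveI : Finite (ConjClasses (orthGroup J)) := Finite.of_surjective _ ConjClasses.mk_surjective
  let pol : (Fin n → F) → F[X] := fun a => X ^ n + ((degreeLTEquiv F n).symm a : F[X])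
  have hlt : ∀ a, ((degreeLTEquiv F n).symm a : F[X]).degree < (n : WithBot ℕ) := fun a =>
    mem_degreeLT.1 ((degreeLTEquiv F n).symm a).2
  have hmon : ∀ a, (pol a).Monic := fun a => monic_X_pow_add (hlt a)
  have hdeg : ∀ a, (pol a).natDegree = n := by
    intro a
    refine natDegree_eq_of_degree_eq_some ?_
    rw [degree_add_eq_left_of_degree_lt (by rw [degree_X_pow]; exact hlt a), degree_X_pow]
  let val : (Fin n → F) → F := fun a => (pol a).eval 2 * (pol a).eval (-2)
  let Good := {a : Fin n → F // val a = 0 ∨ IsSquare ((-1) ^ n * val a * J.det)}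
  let Bad := {a : Fin n → F // ¬ (val a = 0 ∨ IsSquare ((-1) ^ n * val a * J.det))}
  obtain ⟨ν, hν⟩ := FiniteField.exists_nonsquare (F := F) (fun h => h2 (by haveI := ringChar.of_eq h; exact CharTwo.two_eq_zero))
  have hν0 : ν ≠ 0 := fun h => hν (h ▸ IsSquare.zero)
  let L : F[X] := C (4 : F)⁻¹ * (X + C 2)
  have h4 : (4 : F) ≠ 0 := by
    rw [show (4 : F) = 2 * 2 by norm_num]; exact mul_ne_zero h2 h2
  have hL : ∀ t : F, C t * L ∈ degreeLT F n := fun t => mem_degreeLT.2 (by
    refine lt_of_le_of_lt (degree_le_of_natDegree_le (n := 1) ?_) (by exact_mod_cast (show 1 < n by omega))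
    simp only [L]
    refine natDegree_C_mul_le _ _ |>.trans (natDegree_C_mul_le _ _ |>.trans ?_)
    simp)
  let shift : (Fin n → F) → (Fin n → F) := fun a =>
    degreeLTEquiv F n ((degreeLTEquiv F n).symm a + ⟨_, hL ((ν - 1) * (pol a).eval 2)⟩)
  have hshift : ∀ a, pol (shift a) = pol a + C ((ν - 1) * (pol a).eval 2) * L := fun a => by
    simp only [pol, shift, LinearEquiv.symm_apply_apply, Submodule.coe_add]; ring
  have hLv : L.eval 2 = 1 ∧ L.eval (-2) = 0 := by
    constructor <;> simp [L]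
    rw [show (2 : F) + 2 = 4 by norm_num, inv_mul_cancel₀ h4]
  have hval : ∀ a, (pol (shift a)).eval 2 = ν * (pol a).eval 2 ∧ val (shift a) = ν * val a := fun a => by
    simp only [val, hshift, eval_add, eval_mul, eval_C, hLv.1, hLv.2]
    constructor <;> ring
  have hBG : Nat.card Bad ≤ Nat.card Good := by
    refine Nat.card_le_card_of_injective (fun a => ⟨shift a.1, Or.inr ?_⟩) fun a b e => ?_
    · obtain ⟨ha0, hns⟩ := not_or.1 a.2
      rw [(hval a.1).2, show (-1 : F) ^ n * (ν * val a.1) * J.det = ν * ((-1) ^ n * val a.1 * J.det) by ring]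
      exact isSquare_mul_of_not hν hns
    · have e1 : shift a.1 = shift b.1 := congrArg Subtype.val e
      have e2 : (pol a.1).eval 2 = (pol b.1).eval 2 := by
        have := congrArg (fun a => (pol a).eval 2) e1
        simp only [(hval _).1] at this
        exact mul_left_cancel₀ hν0 this
      have e3 := congrArg pol e1
      rw [hshift, hshift, e2, add_left_inj] at e3
      exact Subtype.ext ((degreeLTEquiv F n).symm.injective (Subtype.ext (add_left_cancel e3)))
  choose x hx using fun a : Good => exists_isometry hf hN (pol a.1) (hmon a.1) (hdeg a.1) a.2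
  have hinj : Function.Injective fun a : Good => ConjClasses.mk (x a) := by
    intro a b e
    obtain ⟨c, hc⟩ := isConj_iff.1 (ConjClasses.mk_eq_mk_iff_isConj.1 e)
    have hchar : ((((x b : GL (Fin N) F) : Matrix (Fin N) (Fin N) F)) +
        (((x b)⁻¹ : orthGroup J) : GL (Fin N) F).1).charpoly =
        ((((x a : GL (Fin N) F) : Matrix (Fin N) (Fin N) F)) +
        (((x a)⁻¹ : orthGroup J) : GL (Fin N) F).1).charpoly := by
      rw [← hc, _root_.mul_inv_rev, _root_.mul_inv_rev, inv_inv, ← mul_assoc c]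
      simp only [Subgroup.coe_mul, Units.val_mul]
      rw [← add_mul, ← mul_add, Matrix.charpoly_mul_comm, ← mul_assoc, ← Units.val_mul, ← Subgroup.coe_mul,
        inv_mul_cancel, Subgroup.coe_one, Units.val_one, one_mul]
    rw [hx, hx] at hchar
    rcases mul_self_eq_mul_self_iff.1 hchar with h | h
    · exact Subtype.ext ((degreeLTEquiv F n).symm.injective (Subtype.ext (add_left_cancel h))).symm
    · exfalso
      have := congrArg Polynomial.leadingCoeff h
      rw [leadingCoeff_neg, (hmon a.1).leadingCoeff, (hmon b.1).leadingCoeff] at this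
      exact h2 (by linear_combination this)
  have h5 := Nat.card_le_card_of_injective _ hinj
  have h6 : Fintype.card F ^ n = Nat.card Good + Nat.card Bad := by
    rw [← Nat.card_sum, Nat.card_congr (Equiv.sumCompl _), Nat.card_fun, Nat.card_fin, Nat.card_eq_fintype_card]
  omega

end CfsgLib.ClassCountO
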