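import Cfsg.Agent.ClassCountO.Arith

set_option autoImplicit false
set_option linter.style.haveILetI false

/-!
`W ≤ 19 q^n` in dimension `2n` for the two bit sets together.
-/

namespace CfsgLib.ClassCountO

open scoped Classical

variable {q : ℕ} {B : Finset (Fin 4 → Bool)}

/-- The first level, in even dimension. -/
theorem first_level (hq : 2 ≤ q) {r : ℕ} {bE bO : ℚ} (hE : ∀ M, Te q B r 2 M ≤ bE) (hO : ∀ M, To q B r 2 M ≤ bO)
    (n : ℕ) : (W q B (r + 1) 1 (2 * n) : ℚ) ≤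
      (∑ b ∈ B, (1 / q : ℚ) ^ (bitCount b / 2) * if Even (bitCount b) then bE else bO) * (q : ℚ) ^ n := by
  have hq' : (2 : ℚ) ≤ q := by exact_mod_cast hq
  have hq0 : (q : ℚ) ≠ 0 := by linarith
  rw [W, Nat.cast_sum, Finset.sum_mul]
  refine Finset.sum_le_sum fun b _ => ?_
  rw [Nat.cast_sum]
  have key : ∀ (f : ℕ → ℚ) (σ : ℕ), (∀ a, 0 ≤ f a) →
      ∑ j ∈ Finset.range (2 * n + 1), (if j + σ ≤ n then f (n - (j + σ)) else 0) ≤ ∑ a ∈ Finset.range (n + 1), f a := by
    intro f σ hf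
    rw [← Finset.sum_filter]
    rw [← Finset.sum_image (f := f) (g := fun j => n - (j + σ)) (fun x hx y hy h => by
      simp only [Finset.coe_filter, Set.mem_setOf_eq, Finset.mem_range] at hx hy
      simp only at h
      omega)]
    refine Finset.sum_le_sum_of_subset_of_nonneg (fun a ha => ?_) fun a _ _ => hf a
    obtain ⟨j, hj, rfl⟩ := Finset.mem_image.1 ha
    simp only [Finset.mem_range]; omega
  rcases Nat.even_or_odd' (bitCount b) with ⟨s, hs | hs⟩
  · rw [hs, if_pos (even_two_mul s), Nat.mul_div_cancel_left _ two_pos]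
    refine le_trans (Finset.sum_le_sum (g := fun j => (1 / q : ℚ) ^ s * (q : ℚ) ^ n *
      (if j + s ≤ n then (W q B r 2 (2 * (n - (j + s))) : ℚ) / (q : ℚ) ^ (n - (j + s)) else 0)) fun j _ => ?_) ?_
    · have e : 2 * 1 * j + (2 * 1 - 1) * (2 * s) = 2 * (j + s) := by omega
      rw [e]
      by_cases h : j + s ≤ n
      · rw [if_pos h, if_pos (by omega), ← Nat.mul_sub, Nat.cast_mul, Nat.cast_pow]
        obtain ⟨t, rfl⟩ := Nat.exists_eq_add_of_le h
        rw [Nat.add_sub_cancel_left, one_div, inv_pow]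
        refine le_of_eq ?_
        field_simp
        ring
      · rw [if_neg h, if_neg (by omega)]; simp
    · rw [← Finset.mul_sum, mul_right_comm]
      refine mul_le_mul_of_nonneg_right (mul_le_mul_of_nonneg_left ?_ (by positivity)) (by positivity)
      exact (key (fun a => (W q B r 2 (2 * a) : ℚ) / (q : ℚ) ^ a) s (fun a => by positivity)).trans (hE _)
  · have hne : ¬ Even (2 * s + 1) := Nat.not_even_iff_odd.2 ⟨s, rfl⟩
    rw [hs, if_neg hne, show (2 * s + 1) / 2 = s by omega]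
    refine le_trans (Finset.sum_le_sum (g := fun j => (1 / q : ℚ) ^ s * (q : ℚ) ^ n *
      (if j + (s + 1) ≤ n then (W q B r 2 (2 * (n - (j + (s + 1))) + 1) : ℚ) / (q : ℚ) ^ (n - (j + (s + 1)) + 1)
        else 0)) fun j _ => ?_) ?_
    · have e : 2 * 1 * j + (2 * 1 - 1) * (2 * s + 1) + 1 = 2 * (j + (s + 1)) := by omega
      by_cases h : j + (s + 1) ≤ n
      · rw [if_pos h, if_pos (by omega), show 2 * n - (2 * 1 * j + (2 * 1 - 1) * (2 * s + 1)) =
          2 * (n - (j + (s + 1))) + 1 by omega, Nat.cast_mul, Nat.cast_pow]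
        obtain ⟨t, rfl⟩ := Nat.exists_eq_add_of_le h
        rw [Nat.add_sub_cancel_left, one_div, inv_pow]
        refine le_of_eq ?_
        field_simp
        ring
      · rw [if_neg h, if_neg (by omega)]; simp
    · rw [← Finset.mul_sum, mul_right_comm]
      refine mul_le_mul_of_nonneg_right (mul_le_mul_of_nonneg_left ?_ (by positivity)) (by positivity)
      exact (key (fun a => (W q B r 2 (2 * a + 1) : ℚ) / (q : ℚ) ^ (a + 1)) (s + 1) (fun a => by positivity)).trans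
        (hO _)

theorem sum_bits (g : ℕ → ℚ) :
    ∑ b : Fin 4 → Bool, g (bitCount b) = g 0 + 4 * g 1 + 6 * g 2 + 4 * g 3 + g 4 := by
  have h := (Finset.sum_comp (s := (Finset.univ : Finset (Fin 4 → Bool))) g bitCount)
  rw [h]
  have hi : (Finset.univ : Finset (Fin 4 → Bool)).image bitCount = {0, 1, 2, 3, 4} := by decide
  rw [hi]
  simp only [Finset.sum_insert, Finset.mem_insert, Finset.mem_singleton, Finset.sum_singleton,
    not_or, OfNat.ofNat_ne_zero, not_false_eq_true, nsmul_eq_mul,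
    show (0 : ℕ) ≠ 1 by omega, show (0 : ℕ) ≠ 2 by omega, show (0 : ℕ) ≠ 3 by omega, show (0 : ℕ) ≠ 4 by omega,
    show (1 : ℕ) ≠ 2 by omega, show (1 : ℕ) ≠ 3 by omega, show (1 : ℕ) ≠ 4 by omega,
    show (2 : ℕ) ≠ 3 by omega, show (2 : ℕ) ≠ 4 by omega, show (3 : ℕ) ≠ 4 by omega, and_true, true_and]
  have c : ∀ k : ℕ, k ∈ ({0, 1, 2, 3, 4} : Finset ℕ) → ((Finset.univ : Finset (Fin 4 → Bool)).filter
      fun b => bitCount b = k).card = Nat.choose 4 k := by decide
  rw [c 0 (by simp), c 1 (by simp), c 2 (by simp), c 3 (by simp), c 4 (by simp)]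
  norm_num [Nat.choose]
  ring

/-- The factors of the even step at `x = 1/3`. -/
def cE (i : ℕ) : ℚ := 1 + 6 * (1 / 3) ^ (2 * i - 1) + (1 / 3) ^ (2 * (2 * i - 1))

/-- The cross factor of the even step at `x = 1/3`. -/
def cX (i : ℕ) : ℚ := (1 / 3) ^ (i - 1) * (4 + 4 * (1 / 3) ^ (2 * i - 1))

/-- The cross factor of the odd step at `x = 1/3`. -/
def cY (i : ℕ) : ℚ := (1 / 3) ^ i * (4 + 4 * (1 / 3) ^ (2 * i - 1))

theorem step_univ (hq : 3 ≤ q) {r i : ℕ} (hi : 2 ≤ i) (M : ℕ) {bE bO : ℚ} (hE : Te q Finset.univ r (i + 1) M ≤ bE)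
    (hO : To q Finset.univ r (i + 1) M ≤ bO) :
    Te q Finset.univ (r + 1) i M ≤ (cE i * bE + cX i * bO) / (1 - (1 / 3) ^ (i - 1)) ∧
    To q Finset.univ (r + 1) i M ≤ (cE i * bO + cY i * bE) / (1 - (1 / 3) ^ (i - 1)) := by
  obtain ⟨h1, h2⟩ := step (by omega) hi M hE hO
  have hq' : (3 : ℚ) ≤ q := by exact_mod_cast hq
  have hbE : 0 ≤ bE := le_trans (Te_nonneg _ _ _) hE
  have hbO : 0 ≤ bO := le_trans (To_nonneg _ _ _) hO
  set x : ℚ := 1 / q with hx
  have hx0 : 0 ≤ x := by rw [hx]; positivity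
  have hx3 : x ≤ 1 / 3 := one_div_le_one_div_of_le (by norm_num) hq'
  have hy : x ^ (i - 1) ≤ (1 / 3) ^ (i - 1) := pow_le_pow_left₀ hx0 hx3 _
  have hz : x ^ i ≤ (1 / 3) ^ i := pow_le_pow_left₀ hx0 hx3 _
  have hu : x ^ (2 * i - 1) ≤ (1 / 3) ^ (2 * i - 1) := pow_le_pow_left₀ hx0 hx3 _
  have hu2 : x ^ (2 * (2 * i - 1)) ≤ (1 / 3) ^ (2 * (2 * i - 1)) := pow_le_pow_left₀ hx0 hx3 _
  have hy1 : (1 / 3 : ℚ) ^ (i - 1) < 1 := pow_lt_one₀ (by norm_num) (by norm_num) (by omega)
  constructor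
  · refine h1.trans (div_le_div₀ (by unfold cE cX; positivity) ?_ (by linarith) (by linarith))
    rw [sum_bits (fun k => wE q i k * if Even k then bE else bO)]
    simp only [wE, ← hx, Nat.not_even_one, Even.zero, show Even 2 by decide, show ¬ Even 3 by decide,
      show Even 4 by decide, if_true, if_false, Nat.reduceDiv, mul_zero, mul_one, pow_zero, one_mul]
    rw [show (2 * i - 1) * 2 = 2 * (2 * i - 1) by ring]
    calc bE + 4 * (x ^ (i - 1) * bO) + 6 * (x ^ (2 * i - 1) * bE) + 4 * (x ^ (i - 1) * x ^ (2 * i - 1) * bO) +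
          x ^ (2 * (2 * i - 1)) * bE
        = (1 + 6 * x ^ (2 * i - 1) + x ^ (2 * (2 * i - 1))) * bE +
          x ^ (i - 1) * (4 + 4 * x ^ (2 * i - 1)) * bO := by ring
      _ ≤ cE i * bE + cX i * bO := by unfold cE cX; gcongr
  · refine h2.trans (div_le_div₀ (by unfold cE cY; positivity) ?_ (by linarith) (by linarith))
    rw [sum_bits (fun k => wO q i k * if Even k then bO else bE)]
    simp only [wO, ← hx, Nat.not_even_one, Even.zero, show Even 2 by decide, show ¬ Even 3 by decide,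
      show Even 4 by decide, if_true, if_false, Nat.reduceDiv, mul_zero, mul_one, pow_zero, one_mul]
    rw [show (2 * i - 1) * 2 = 2 * (2 * i - 1) by ring]
    calc bO + 4 * (x ^ i * bE) + 6 * (x ^ (2 * i - 1) * bO) + 4 * (x ^ i * x ^ (2 * i - 1) * bE) +
          x ^ (2 * (2 * i - 1)) * bO
        = (1 + 6 * x ^ (2 * i - 1) + x ^ (2 * (2 * i - 1))) * bO +
          x ^ i * (4 + 4 * x ^ (2 * i - 1)) * bE := by ring
      _ ≤ cE i * bO + cY i * bE := by unfold cE cY; gcongr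

/-- The tail of the product. -/
theorem tail (hq : 3 ≤ q) : ∀ (r i : ℕ), 9 ≤ i → ∀ M,
    Te q Finset.univ r i M + 81 * To q Finset.univ r i M ≤ 1 / (1 - 165 * (1 / 3 : ℚ) ^ (i - 1)) := by
  intro r
  induction r with
  | zero =>
    intro i hi M
    obtain ⟨h1, h2⟩ := zero_level (q := q) (B := Finset.univ) i M
    have hy : (1 / 3 : ℚ) ^ (i - 1) ≤ (1 / 3) ^ 8 := pow_le_pow_of_le_one (by norm_num) (by norm_num) (by omega)
    have hy0 : (0 : ℚ) ≤ (1 / 3) ^ (i - 1) := by positivity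
    rw [h2, mul_zero, add_zero]
    refine h1.trans ?_
    rw [le_div_iff₀ (by norm_num at hy; linarith)]
    linarith
  | succ r ih =>
    intro i hi M
    have h := ih (i + 1) (by omega) M
    rw [Nat.add_sub_cancel] at h
    obtain ⟨h1, h2⟩ := step_univ hq (by omega) M (le_refl (Te q Finset.univ r (i + 1) M))
      (le_refl (To q Finset.univ r (i + 1) M))
    set tE := Te q Finset.univ r (i + 1) M
    set tO := To q Finset.univ r (i + 1) M
    have hE0 : 0 ≤ tE := Te_nonneg _ _ _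
    have hO0 : 0 ≤ tO := To_nonneg _ _ _
    set y : ℚ := (1 / 3) ^ (i - 1) with hy
    have hy0 : 0 ≤ y := by positivity
    have hy8 : y ≤ 1 / 6561 := (pow_le_pow_of_le_one (by norm_num) (by norm_num) (show 8 ≤ i - 1 by omega)).trans
      (by norm_num)
    have hxi : (1 / 3 : ℚ) ^ i = y / 3 := by
      rw [hy, show i = i - 1 + 1 by omega, pow_succ, Nat.add_sub_cancel]; ring
    have hu : (1 / 3 : ℚ) ^ (2 * i - 1) = y * y / 3 := by
      rw [hy, show 2 * i - 1 = (i - 1) + (i - 1) + 1 by omega, pow_succ, pow_add]; ring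
    have hu2 : (1 / 3 : ℚ) ^ (2 * (2 * i - 1)) = (y * y / 3) * (y * y / 3) := by
      rw [show 2 * (2 * i - 1) = (2 * i - 1) + (2 * i - 1) by omega, pow_add, hu]
    rw [hxi] at h
    simp only [cE, cX, cY, ← hy, hxi, hu, hu2] at h1 h2
    have huy : y * y ≤ y / 6561 := (mul_le_mul_of_nonneg_left hy8 hy0).trans (le_of_eq (by ring))
    have hu0 : (0 : ℚ) ≤ y * y := mul_nonneg hy0 hy0
    set u := y * y / 3 with hudef
    have hu00 : (0 : ℚ) ≤ u := by positivity
    have hu1 : u ≤ y / 19683 := by rw [hudef]; linarith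
    have hu01 : u ≤ 1 := by linarith
    have hnum : (1 + 6 * u + u * u) * tE + y * (4 + 4 * u) * tO +
        81 * ((1 + 6 * u + u * u) * tO + y / 3 * (4 + 4 * u) * tE) ≤ (1 + 109 * y) * (tE + 81 * tO) := by
      have e1 : (1 + 6 * u + u * u) + 81 * (y / 3 * (4 + 4 * u)) ≤ 1 + 109 * y := by
        nlinarith [mul_le_mul_of_nonneg_left hu01 hu00, mul_le_mul_of_nonneg_left hy8 hu00]
      have e2 : y * (4 + 4 * u) + 81 * (1 + 6 * u + u * u) ≤ 81 * (1 + 109 * y) := by
        nlinarith [mul_le_mul_of_nonneg_left hu01 hu00, mul_le_mul_of_nonneg_left hy8 hu00]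
      nlinarith [mul_le_mul_of_nonneg_right e1 hE0, mul_le_mul_of_nonneg_right e2 hO0]
    have hy1 : (0 : ℚ) < 1 - y := by linarith
    have hC : (0 : ℚ) < 1 - 165 * y := by linarith
    have hD : (0 : ℚ) < 1 - 165 * (y / 3) := by linarith
    rw [le_div_iff₀ hy1] at h1 h2
    rw [le_div_iff₀ hD] at h
    rw [le_div_iff₀ hC]
    set TE := Te q Finset.univ (r + 1) i M
    set TO := To q Finset.univ (r + 1) i M
    have hA : (TE + 81 * TO) * (1 - y) ≤ (1 + 109 * y) * (tE + 81 * tO) := by linarith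
    have hB : (TE + 81 * TO) * ((1 - y) * (1 - 165 * (y / 3))) ≤ 1 + 109 * y := by
      rw [← mul_assoc]
      refine (mul_le_mul_of_nonneg_right hA hD.le).trans ?_
      rw [mul_assoc]
      exact mul_le_of_le_one_right (by linarith) h
    have hF : (1 + 109 * y) * (1 - 165 * y) ≤ (1 - y) * (1 - 165 * (y / 3)) := by nlinarith
    have hpos : (0 : ℚ) < (1 - y) * (1 - 165 * (y / 3)) := mul_pos hy1 hD
    refine le_of_mul_le_mul_right ?_ hpos
    nlinarith [mul_le_mul_of_nonneg_right hB hC.le]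

/-- The bounds at level `9 - k`. -/
def bd : ℕ → ℚ × ℚ
  | 0 => (1 / (1 - 165 * (1 / 3) ^ 8), 1 / (1 - 165 * (1 / 3) ^ 8) / 81)
  | k + 1 => ((cE (8 - k) * (bd k).1 + cX (8 - k) * (bd k).2) / (1 - (1 / 3) ^ (8 - k - 1)),
      (cE (8 - k) * (bd k).2 + cY (8 - k) * (bd k).1) / (1 - (1 / 3) ^ (8 - k - 1)))

theorem bd_spec (hq : 3 ≤ q) : ∀ k, k ≤ 7 → (1 ≤ (bd k).1 ∧ 0 ≤ (bd k).2) ∧
    ∀ r M, Te q Finset.univ r (9 - k) M ≤ (bd k).1 ∧ To q Finset.univ r (9 - k) M ≤ (bd k).2 := by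
  intro k
  induction k with
  | zero =>
    intro _
    refine ⟨by norm_num [bd], fun r M => ?_⟩
    have h := tail hq r 9 le_rfl M
    have h1 := Te_nonneg (q := q) (B := Finset.univ) r 9 M
    have h2 := To_nonneg (q := q) (B := Finset.univ) r 9 M
    norm_num [bd] at h ⊢
    constructor <;> linarith
  | succ k ih =>
    intro hk
    obtain ⟨⟨hb1, hb2⟩, hb⟩ := ih (by omega)
    have hi : 2 ≤ 8 - k := by omega
    have hy : (1 / 3 : ℚ) ^ (8 - k - 1) < 1 := pow_lt_one₀ (by norm_num) (by norm_num) (by omega)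
    have hy0 : (0 : ℚ) ≤ (1 / 3 : ℚ) ^ (8 - k - 1) := by positivity
    have hE1 : 1 ≤ cE (8 - k) := by
      unfold cE; nlinarith [pow_nonneg (show (0 : ℚ) ≤ 1 / 3 by norm_num) (2 * (8 - k) - 1),
        pow_nonneg (show (0 : ℚ) ≤ 1 / 3 by norm_num) (2 * (2 * (8 - k) - 1))]
    have hX : 0 ≤ cX (8 - k) := by unfold cX; positivity
    have hY : 0 ≤ cY (8 - k) := by unfold cY; positivity
    have h1 : 1 ≤ (bd (k + 1)).1 := by
      show (1 : ℚ) ≤ _ / _
      rw [one_le_div (by linarith)]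
      nlinarith [mul_le_mul hE1 hb1 zero_le_one (by linarith), mul_nonneg hX hb2]
    have h2 : 0 ≤ (bd (k + 1)).2 := div_nonneg
      (add_nonneg (mul_nonneg (by linarith) hb2) (mul_nonneg hY (by linarith))) (by linarith)
    refine ⟨⟨h1, h2⟩, fun r M => ?_⟩
    rw [show 9 - (k + 1) = 8 - k by omega]
    match r with
    | 0 => exact ⟨(zero_level _ _).1.trans h1, (zero_level _ _).2.le.trans h2⟩
    | r + 1 =>
      obtain ⟨hE, hO⟩ := hb r M
      rw [show 9 - k = 8 - k + 1 by omega] at hE hO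
      exact step_univ hq hi M hE hO

/-- The bounds at level `9 - k` without bits. -/
def bd0 : ℕ → ℚ
  | 0 => 1 / (1 - 2 * (1 / 3) ^ 8)
  | k + 1 => bd0 k / (1 - (1 / 3) ^ (8 - k - 1))

theorem step_none (hq : 3 ≤ q) {r i : ℕ} (hi : 2 ≤ i) (M : ℕ) :
    Te q noBits (r + 1) i M ≤ Te q noBits r (i + 1) M / (1 - (1 / 3) ^ (i - 1)) := by
  obtain ⟨h1, -⟩ := step (q := q) (B := noBits) (by omega) hi M (le_refl (Te q noBits r (i + 1) M))
    (le_refl (To q noBits r (i + 1) M))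
  have h0 : bitCount (fun _ => false) = 0 := by decide
  rw [Finset.sum_singleton, h0, wE, if_pos Even.zero, if_pos Even.zero] at h1
  simp only [Nat.zero_div, mul_zero, pow_zero, one_mul] at h1
  have hy : (1 / 3 : ℚ) ^ (i - 1) < 1 := pow_lt_one₀ (by norm_num) (by norm_num) (by omega)
  have hx : (1 / q : ℚ) ^ (i - 1) ≤ (1 / 3) ^ (i - 1) :=
    pow_le_pow_left₀ (by positivity) (one_div_le_one_div_of_le (by norm_num) (by exact_mod_cast hq)) _
  exact h1.trans (div_le_div_of_nonneg_left (Te_nonneg _ _ _) (by linarith) (by linarith))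

theorem tail_none (hq : 3 ≤ q) : ∀ (r i : ℕ), 9 ≤ i → ∀ M,
    Te q noBits r i M ≤ 1 / (1 - 2 * (1 / 3 : ℚ) ^ (i - 1)) := by
  intro r
  induction r with
  | zero =>
    intro i hi M
    have hy : (1 / 3 : ℚ) ^ (i - 1) ≤ (1 / 3) ^ 8 := pow_le_pow_of_le_one (by norm_num) (by norm_num) (by omega)
    have hy0 : (0 : ℚ) ≤ (1 / 3) ^ (i - 1) := by positivity
    refine (zero_level (q := q) (B := noBits) i M).1.trans ?_
    rw [le_div_iff₀ (by norm_num at hy; linarith)]
    linarith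
  | succ r ih =>
    intro i hi M
    have h := ih (i + 1) (by omega) M
    rw [Nat.add_sub_cancel] at h
    refine (step_none hq (by omega) M).trans ?_
    set y : ℚ := (1 / 3) ^ (i - 1) with hy
    have hy0 : 0 ≤ y := by positivity
    have hy8 : y ≤ 1 / 6561 := (pow_le_pow_of_le_one (by norm_num) (by norm_num) (show 8 ≤ i - 1 by omega)).trans
      (by norm_num)
    have hxi : (1 / 3 : ℚ) ^ i = y / 3 := by
      rw [hy, show i = i - 1 + 1 by omega, pow_succ, Nat.add_sub_cancel]; ring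
    rw [hxi] at h
    refine (div_le_div_of_nonneg_right h (by linarith)).trans ?_
    rw [div_div]
    exact one_div_le_one_div_of_le (by linarith) (by nlinarith)

theorem bd0_spec (hq : 3 ≤ q) : ∀ k, k ≤ 7 → 1 ≤ bd0 k ∧ ∀ r M, Te q noBits r (9 - k) M ≤ bd0 k := by
  intro k
  induction k with
  | zero =>
    intro _
    refine ⟨by norm_num [bd0], fun r M => ?_⟩
    have h := tail_none hq r 9 le_rfl M
    norm_num [bd0] at h ⊢
    linarith
  | succ k ih =>
    intro hk
    obtain ⟨hb1, hb⟩ := ih (by omega)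
    have hy : (1 / 3 : ℚ) ^ (8 - k - 1) < 1 := pow_lt_one₀ (by norm_num) (by norm_num) (by omega)
    have hy0 : (0 : ℚ) ≤ (1 / 3 : ℚ) ^ (8 - k - 1) := by positivity
    have h1 : 1 ≤ bd0 (k + 1) := by
      show (1 : ℚ) ≤ _ / _
      rw [one_le_div (by linarith)]; linarith
    refine ⟨h1, fun r M => ?_⟩
    rw [show 9 - (k + 1) = 8 - k by omega]
    match r with
    | 0 => exact (zero_level _ _).1.trans h1
    | r + 1 =>
      refine (step_none hq (by omega) M).trans (div_le_div_of_nonneg_right ?_ (by linarith))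
      have h := hb r M
      rwa [show 9 - k = 8 - k + 1 by omega] at h

theorem W_none_odd : ∀ (r i a : ℕ), W q noBits r i (2 * a + 1) = 0 := by
  intro r
  induction r with
  | zero => intro i a; simp [W]
  | succ r ih =>
    intro i a
    rw [W, Finset.sum_singleton]
    refine Finset.sum_eq_zero fun j _ => ?_
    have h0 : bitCount (fun _ => false) = 0 := by decide
    rw [h0, mul_zero, add_zero]
    by_cases h : 2 * i * j ≤ 2 * a + 1
    · rw [if_pos h, show 2 * a + 1 - 2 * i * j = 2 * (a - i * j) + 1 by rw [mul_assoc] at h ⊢; omega, ih, mul_zero]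
    · rw [if_neg h]

/-- `W_all + W_none ≤ 19 q^n` in dimension `2n`. -/
theorem W_add_le (hq : 3 ≤ q) {r : ℕ} (n : ℕ) :
    W q allBits (r + 1) 1 (2 * n) + W q noBits (r + 1) 1 (2 * n) ≤ 19 * q ^ n := by
  obtain ⟨⟨hb1, hb2⟩, hb⟩ := bd_spec hq 7 le_rfl
  obtain ⟨hc1, hc⟩ := bd0_spec hq 7 le_rfl
  have h1 := first_level (q := q) (B := allBits) (by omega) (r := r) (fun M => (hb r M).1) (fun M => (hb r M).2) n
  have h2 := first_level (q := q) (B := noBits) (by omega) (r := r) (bO := 0) (fun M => hc r M) (fun M => (Finset.sum_eq_zero fun a _ => by rw [W_none_odd]; simp).le)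
  have hx : (1 / q : ℚ) ≤ 1 / 3 := one_div_le_one_div_of_le (by norm_num) (by exact_mod_cast hq)
  have hx0 : (0 : ℚ) ≤ 1 / q := by positivity
  have hq0 : (0 : ℚ) ≤ (q : ℚ) ^ n := by positivity
  rw [sum_bits (fun k => (1 / q : ℚ) ^ (k / 2) * if Even k then (bd 7).1 else (bd 7).2)] at h1
  simp only [Nat.not_even_one, Even.zero, show Even 2 by decide, show ¬ Even 3 by decide,
    show Even 4 by decide, if_true, if_false, Nat.reduceDiv, pow_zero, one_mul, pow_one] at h1
  have h0 : bitCount (fun _ => false) = 0 := by decide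
  rw [Finset.sum_singleton, h0, Nat.zero_div, pow_zero, one_mul, if_pos Even.zero] at h2
  have hnum : (bd 7).1 * (1 + 6 * (1 / 3) + (1 / 3) ^ 2) + (bd 7).2 * (4 + 4 * (1 / 3)) + bd0 7 ≤ 19 := by
    norm_num [bd, bd0, cE, cX, cY]
  set x : ℚ := 1 / q
  have hsum : (bd 7).1 + 4 * (bd 7).2 + 6 * (x * (bd 7).1) + 4 * (x * (bd 7).2) + x ^ 2 * (bd 7).1 + bd0 7 ≤ 19 := by
    refine le_trans ?_ hnum
    nlinarith [mul_le_mul_of_nonneg_right hx (by linarith : (0 : ℚ) ≤ (bd 7).1), mul_le_mul_of_nonneg_right hx hb2,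
      mul_le_mul_of_nonneg_right (pow_le_pow_left₀ hx0 hx 2) (by linarith : (0 : ℚ) ≤ (bd 7).1)]
  have : ((W q allBits (r + 1) 1 (2 * n) + W q noBits (r + 1) 1 (2 * n) : ℕ) : ℚ) ≤ ((19 * q ^ n : ℕ) : ℚ) := by
    push_cast
    nlinarith [mul_le_mul_of_nonneg_right hsum hq0, h2 n]
  exact_mod_cast this

end CfsgLib.ClassCountO
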