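import Cfsg.Agent.ClassCountO.OddData

set_option autoImplicit false
set_option linter.style.haveILetI false

/-!
Four times the class number of the spinor kernel in odd dimension is at most `W + 2 Z`.
-/

namespace CfsgLib.ClassCountO

open Polynomial Matrix CfsgLib.InvNorm
open CfsgLib.ClassCount (Item IsItem Decomp dataOf)
open CfsgLib.ClassCountSp (Lvl dflt selfRec Valid valid_dflt)
open scoped Classical

variable {F : Type*} [Field F] [Fintype F] {N : ℕ} {J : Matrix (Fin N) (Fin N) F}

/-- A class of the spinor kernel gives a class of the whole group and a sign. -/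
theorem card_commutator_classes_le (hf : Form J) (hN : Odd N) :
    Nat.card (ConjClasses (commutator (orthGroup J))) ≤
      2 * Nat.card {C : ConjClasses (orthGroup J) // Quotient.out C ∈ commutator (orthGroup J)} := by
  haveI : Finite (ConjClasses (orthGroup J)) := Finite.of_surjective _ ConjClasses.mk_surjective
  set Ω := commutator (orthGroup J)
  let repr : ConjClasses Ω → Ω := Quotient.out
  have hrepr : ∀ C, ConjClasses.mk (repr C) = C := fun C => Quotient.out_eq C
  have hmem : ∀ y : Ω, Quotient.out (ConjClasses.mk (y : orthGroup J)) ∈ Ω := by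
    intro y
    obtain ⟨c, hc⟩ := isConj_iff.1 (ConjClasses.mk_eq_mk_iff_isConj.1
      (Quotient.out_eq (ConjClasses.mk (y : orthGroup J))).symm)
    rw [← hc]
    exact Subgroup.Normal.conj_mem inferInstance _ y.2 c
  have hcent : ∀ x y : orthGroup J, negOne hf * x * y * (negOne hf * x)⁻¹ = x * y * x⁻¹ := by
    intro x y
    have hz : ∀ w : orthGroup J, negOne hf * w = w * negOne hf := fun w => by
      apply Subtype.ext; apply Units.ext
      show ((negOne hf : GL (Fin N) F) : Matrix (Fin N) (Fin N) F) * ((w : GL (Fin N) F) : Matrix (Fin N) (Fin N) F) =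
        ((w : GL (Fin N) F) : Matrix (Fin N) (Fin N) F) * ((negOne hf : GL (Fin N) F) : Matrix (Fin N) (Fin N) F)
      rw [negOne_mat, neg_one_mul, mul_neg_one]
    calc negOne hf * x * y * (negOne hf * x)⁻¹ = negOne hf * (x * y * x⁻¹) * (negOne hf)⁻¹ := by group
      _ = x * y * x⁻¹ := by rw [hz, mul_inv_cancel_right]
  have hdet : ∀ x : orthGroup J, ((x : GL (Fin N) F) : Matrix (Fin N) (Fin N) F).det = 1 ∨
      ((x : GL (Fin N) F) : Matrix (Fin N) (Fin N) F).det = -1 := by
    intro x
    rw [det_eq_parity hf x]
    rcases Int.units_eq_one_or (Forms.parityHom (qf_nondeg hf) (exists_refls hf) (isoEquiv hf x)) with h | h <;>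
      simp [h]
  have hdneg : ∀ x : orthGroup J, ((negOne hf * x : orthGroup J) : GL (Fin N) F).1.det =
      -((x : GL (Fin N) F) : Matrix (Fin N) (Fin N) F).det := by
    intro x
    show (((negOne hf : GL (Fin N) F) : Matrix (Fin N) (Fin N) F) * ((x : GL (Fin N) F) : Matrix (Fin N) (Fin N) F)).det = _
    rw [negOne_mat, neg_one_mul, det_neg, Fintype.card_fin, hN.neg_one_pow, neg_one_mul]
  have hconj : ∀ C : ConjClasses Ω, ∃ x : orthGroup J, ((x : GL (Fin N) F) : Matrix (Fin N) (Fin N) F).det = 1 ∧
      x * Quotient.out (ConjClasses.mk (repr C : orthGroup J)) * x⁻¹ = (repr C : orthGroup J) := by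
    intro C
    obtain ⟨x, hx⟩ := isConj_iff.1 (ConjClasses.mk_eq_mk_iff_isConj.1
      (Quotient.out_eq (ConjClasses.mk (repr C : orthGroup J))))
    rcases hdet x with h | h
    · exact ⟨x, h, hx⟩
    · exact ⟨negOne hf * x, by rw [hdneg, h, neg_neg], by rw [hcent, hx]⟩
  choose x hx1 hx using hconj
  let f : ConjClasses Ω → {C : ConjClasses (orthGroup J) // Quotient.out C ∈ Ω} × ℤˣ := fun C =>
    (⟨ConjClasses.mk (repr C : orthGroup J), hmem _⟩, sp hf (x C))
  have hinj : Function.Injective f := by
    intro C C' e
    have e1 : ConjClasses.mk (repr C : orthGroup J) = ConjClasses.mk (repr C' : orthGroup J) :=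
      congrArg Subtype.val (congrArg Prod.fst e)
    have e2 : sp hf (x C) = sp hf (x C') := congrArg Prod.snd e
    have h1 := hx C'
    rw [← e1] at h1
    set z := x C' * (x C)⁻¹ with hz
    have hzm : z ∈ Ω := by
      rw [mem_commutator_iff hf]
      refine ⟨?_, by rw [hz, map_mul, map_inv, e2, mul_inv_cancel]⟩
      show (((x C' : GL (Fin N) F) : Matrix (Fin N) (Fin N) F) * (((x C)⁻¹ : GL (Fin N) F) : Matrix (Fin N) (Fin N) F)).det = 1
      have h0 : (((x C : GL (Fin N) F) : Matrix (Fin N) (Fin N) F) * (((x C)⁻¹ : GL (Fin N) F) : Matrix (Fin N) (Fin N) F)).det = 1 := by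
        rw [(x C : GL (Fin N) F).mul_inv, det_one]
      rw [det_mul, hx1, one_mul] at h0 ⊢
      exact h0
    rw [← hrepr C, ← hrepr C']
    refine ConjClasses.mk_eq_mk_iff_isConj.2 (isConj_iff.2 ⟨⟨z, hzm⟩, Subtype.ext ?_⟩)
    show z * (repr C : orthGroup J) * z⁻¹ = (repr C' : orthGroup J)
    rw [← h1]
    conv_lhs => rw [← hx C, hz]
    group
  refine (Nat.card_le_card_of_injective f hinj).trans ?_
  rw [Nat.card_prod, Nat.card_eq_fintype_card (α := ℤˣ), Fintype.card_units_int, mul_comm]

/-- The first odd exponent present at `c`. -/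
noncomputable def firstExp (D : Multiset (Item F)) (c : F) : ℕ :=
  if h : ∃ e, Odd e ∧ 0 < mult D c e then h.choose else 0

theorem firstExp_spec {D : Multiset (Item F)} {c : F} (h : ∃ e, Odd e ∧ 0 < mult D c e) :
    Odd (firstExp D c) ∧ 0 < mult D c (firstExp D c) := by
  rw [firstExp, dif_pos h]; exact h.choose_spec

/-- The flags reversed at the first exponents. -/
noncomputable def flipped (D : Multiset (Item F)) (al : F → ℕ → Bool) (t u : Bool) : F → ℕ → Bool := fun c e =>
  xor (al c e) (decide (e = firstExp D c ∧ (∃ e, Odd e ∧ 0 < mult D c e) ∧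
    ((t = true ∧ c = 1) ∨ (u = true ∧ c = -1))))

theorem adm_flipped {D : Multiset (Item F)} {al : F → ℕ → Bool} {n : ℕ} (h : Adm D al n) (t u : Bool) :
    Adm D (flipped D al t u) n := by
  refine ⟨h.h2, h.valid, h.size_eq, h.fixed, h.evenMult, fun c e he => ?_, fun c e => ?_⟩
  · simp only [flipped, h.alEven c e he, Bool.false_xor, decide_eq_false_iff_not]
    rintro ⟨rfl, hh, -⟩
    exact Nat.not_odd_iff_even.2 he (firstExp_spec hh).1
  · by_cases hp : e = firstExp D c ∧ (∃ e, Odd e ∧ 0 < mult D c e) ∧ ((t = true ∧ c = 1) ∨ (u = true ∧ c = -1))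
    · exact le_trans (Bool.toNat_le _) (hp.1 ▸ (firstExp_spec hp.2.1).2)
    · simp only [flipped, decide_eq_false hp, Bool.xor_false]
      exact h.alLe c e

/-- `4 k(Ω) ≤ W + 2 Z`. -/
theorem four_mul_card_le (hf : Form J) (hN : Odd N) :
    4 * Nat.card (ConjClasses (commutator (orthGroup J))) ≤
      W (Fintype.card F) allBits N 1 N + 2 * Z (Fintype.card F) (N - 1) N := by
  have hN1 : 1 ≤ N := hN.pos
  obtain ⟨hfin, hcard⟩ := card_encSet_le (F := F) (B := allBits) N N 1 N le_rfl (by omega)
  haveI := hfin
  set k1 : Fin (N + 1) := ⟨1, by omega⟩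
  let Cl := {C : ConjClasses (orthGroup J) // Quotient.out C ∈ commutator (orthGroup J)}
  haveI : Finite (ConjClasses (orthGroup J)) := Finite.of_surjective _ ConjClasses.mk_surjective
  have hne2 : (-1 : F) ≠ 1 := fun h => hf.h2 (by linear_combination -h)
  obtain ⟨ν, hν⟩ := FiniteField.exists_nonsquare (F := F) fun h => hf.h2 (by
    haveI := ringChar.of_eq h; exact CharTwo.two_eq_zero)
  have hν0 : ν ≠ 0 := fun h => hν (h ▸ IsSquare.zero)
  let rep : Cl → orthGroup J := fun C => Quotient.out C.1
  have hrep : ∀ C : Cl, ConjClasses.mk (rep C) = C.1 := fun C => Quotient.out_eq C.1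
  have hΩ : ∀ C : Cl, ((rep C : GL (Fin N) F) : Matrix (Fin N) (Fin N) F).det = 1 ∧ sp hf (rep C) = 1 :=
    fun C => (mem_commutator_iff hf _).1 C.2
  let Dt : Cl → Multiset (Item F) := fun C => dataOf (rep C : GL (Fin N) F)
  let al : Cl → F → ℕ → Bool := fun C => flag J (Dt C) (sym (rep C))
  have hal : ∀ C, Adm (Dt C) (al C) N := fun C => adm hf (rep C) _
  let fl : Cl → Bool → Bool → F → ℕ → Bool := fun C t u => flipped (Dt C) (al C) t u
  have hadm : ∀ C t u, Adm (Dt C) (fl C t u) N := fun C t u => adm_flipped (hal C) t u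
  let E : Cl → Bool → Bool → Fin (N + 1) → Lvl F := fun C t u => enc (Dt C) (fl C t u) N
  have hMw : ∀ C t u, Even (Mw (E C t u)) := by
    intro C t u
    have h := det_eq_Mw hf (rep C) (hadm C t u)
    rw [(hΩ C).1] at h
    exact (neg_one_pow_eq_one_iff_even hne2).1 h.symm
  let paired : Cl → Prop := fun C => ∃ e, Odd e ∧ 0 < mult (Dt C) (-1) e
  have hplus : ∀ C, ∃ e, Odd e ∧ 0 < mult (Dt C) 1 e := by
    intro C
    by_contra hno
    have hbit : ∀ k : Fin (N + 1), plusW k.1 (E C false false k).1 = 0 := by
      intro k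
      rcases Nat.eq_zero_or_pos k.1 with hk | hk
      · simp [plusW, hk]
      · have hm : mult (Dt C) 1 (2 * k.1 - 1) = 0 := by
          by_contra hne
          exact hno ⟨_, ⟨k.1 - 1, by omega⟩, Nat.pos_of_ne_zero hne⟩
        have h1 := mult_eq (hadm C false false) 1 (2 * k.1 - 1)
        rw [hm] at h1
        show (2 * k.1 - 1) * ((fl C false false 1 (2 * k.1 - 1)).toNat +
          (par (Dt C) (fl C false false) 1 (2 * k.1 - 1)).toNat) = 0
        rw [show (fl C false false 1 (2 * k.1 - 1)).toNat + (par (Dt C) (fl C false false) 1 (2 * k.1 - 1)).toNat = 0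
          by omega, mul_zero]
    have hev : Even N := by
      have hs := size_eq_levels (hadm C false false)
      have hd : ∀ k : Fin (N + 1), ∃ t, lwt k.1 (E C false false k) = 2 * t + minusW k.1 (E C false false k).1 := by
        intro k
        obtain ⟨d, -, hd, -, -⟩ := poly_valid (hadm C false false) k.1
        refine ⟨k.1 * d, ?_⟩
        have hb := hbit k
        rw [plusW] at hb
        rw [lwt, show (E C false false k).2.natDegree = 2 * d from hd, minusW, bitCount, Finset.card_filter,
          Fin.sum_univ_four]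
        simp only [ite_eq_toNat]
        linear_combination hb
      choose t ht using hd
      rw [← hs]
      show Even (∑ k : Fin (N + 1), lwt k.1 (E C false false k))
      simp only [ht, Finset.sum_add_distrib, ← Finset.mul_sum]
      exact (even_two_mul _).add (hMw C false false)
    exact Nat.not_even_iff_odd.2 hN hev
  have hfl : ∀ C t u t' u' (c : F) e, xor (fl C t u c e) (fl C t' u' c e) =
      decide (e = firstExp (Dt C) c ∧ (∃ e, Odd e ∧ 0 < mult (Dt C) c e) ∧
        ((xor t t' = true ∧ c = 1) ∨ (xor u u' = true ∧ c = -1))) := by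
    intro C t u t' u' c e
    have key : ∀ a E H P M t t' u u' : Bool, (P && M) = false →
        xor (xor a (E && (H && (t && P || u && M)))) (xor a (E && (H && (t' && P || u' && M)))) =
          (E && (H && (xor t t' && P || xor u u' && M))) := by decide
    simp only [fl, flipped, Bool.decide_and, Bool.decide_or, Bool.decide_eq_true]
    refine key _ _ _ _ _ _ _ _ _ ?_
    rw [Bool.and_eq_false_iff, decide_eq_false_iff_not, decide_eq_false_iff_not]
    by_cases h1 : c = 1
    · exact Or.inr fun h => hne2 (h.symm.trans h1)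
    · exact Or.inl h1
  have xne : ∀ a b : Bool, a ≠ b → xor a b = true := by decide
  have nef : ∀ a b : Bool, a = false → a ≠ b → b = true := by decide
  have beq : ∀ a b : Bool, xor a b = false → a = b := by decide
  have bx : ∀ a b p : Bool, xor (xor b p) (xor a p) = xor a b := by decide
  have hflag : ∀ C t u C' t' u', (u = true → paired C) → (u' = true → paired C') → E C t u = E C' t' u' →
      C = C' ∧ t = t' ∧ u = u' := by
    intro C t u C' t' u' hu hu' he
    obtain ⟨hD, hflags⟩ := enc_inj (hadm C t u) (hadm C' t' u') he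
    have hdiff : ∀ c : F, c * c = 1 → ∀ e, xor (al C c e) (al C' c e) =
        decide (e = firstExp (Dt C) c ∧ (∃ e, Odd e ∧ 0 < mult (Dt C) c e) ∧
          ((xor t t' = true ∧ c = 1) ∨ (xor u u' = true ∧ c = -1))) := by
      intro c hc e
      rw [← hfl C t u t' u' c e, hflags c hc e]
      simp only [fl, flipped, hD]
      exact (bx _ _ _).symm
    have hD' : dataOf (rep C : GL (Fin N) F) = dataOf (rep C' : GL (Fin N) F) := hD
    by_cases ht : t = t'
    · subst ht
      by_cases hu2 : u = u'
      · subst hu2
        refine ⟨Subtype.ext ?_, rfl, rfl⟩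
        rw [← hrep C, ← hrep C']
        refine ConjClasses.mk_eq_mk_iff_isConj.2 (isConj_of_eq hf hD' fun c hc e => ?_)
        have := hdiff c hc e
        simp only [Bool.xor_self, Bool.false_eq_true, false_and, or_self, and_false, decide_false] at this
        exact beq _ _ this
      · exfalso
        have hpair : paired C := by
          rcases Bool.eq_false_or_eq_true u with h | h
          · exact hu h
          · have : u' = true := nef u u' h hu2
            obtain ⟨e, he1, he2⟩ := hu' this
            exact ⟨e, he1, hD.symm ▸ he2⟩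
        obtain ⟨he1, he2⟩ := firstExp_spec hpair
        have hxu : xor u u' = true := xne u u' hu2
        refine no_single_flip hf hD' (c₀ := -1) (by norm_num) he1 he2 ?_ fun c hc e hne => ?_
        · intro h
          have := hdiff (-1) (by norm_num) (firstExp (Dt C) (-1))
          simp only [show al C (-1) _ = al C' (-1) _ from h, Bool.xor_self, hxu, (show ∃ e, Odd e ∧ 0 < mult (Dt C) (-1) e from hpair), and_true, true_and,
            or_true, decide_true] at this
          exact absurd this (by simp)
        · have := hdiff c hc e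
          rw [decide_eq_false] at this
          · exact beq _ _ this
          · rintro ⟨h1, -, ⟨h2, -⟩ | ⟨-, rfl⟩⟩
            · simp at h2
            · exact hne (by rw [h1])
    · exfalso
      have hxt : xor t t' = true := xne t t' ht
      obtain ⟨he1, he2⟩ := firstExp_spec (hplus C)
      by_cases hu2 : u = u'
      · refine no_single_flip hf hD' (c₀ := 1) (one_mul 1) he1 he2 ?_ fun c hc e hne => ?_
        · intro h
          have := hdiff 1 (one_mul 1) (firstExp (Dt C) 1)
          simp only [show al C 1 _ = al C' 1 _ from h, Bool.xor_self, hxt, hplus C, and_true, true_and,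
            true_or, decide_true] at this
          exact absurd this (by simp)
        · have := hdiff c hc e
          rw [decide_eq_false] at this
          · exact beq _ _ this
          · rintro ⟨h1, -, ⟨-, rfl⟩ | ⟨h2, -⟩⟩
            · exact hne (by rw [h1])
            · rw [hu2, Bool.xor_self] at h2; simp at h2
      · have hpair : paired C := by
          rcases Bool.eq_false_or_eq_true u with h | h
          · exact hu h
          · have : u' = true := nef u u' h hu2
            obtain ⟨e, he1, he2⟩ := hu' this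
            exact ⟨e, he1, hD.symm ▸ he2⟩
        obtain ⟨he1', he2'⟩ := firstExp_spec hpair
        have hxu : xor u u' = true := xne u u' hu2
        refine sp_flags_ne hf hD' he1' he2' ?_ (fun e hne => ?_) ((hΩ C).2.trans (hΩ C').2.symm)
        · intro h
          have := hdiff (-1) (by norm_num) (firstExp (Dt C) (-1))
          simp only [show al C (-1) _ = al C' (-1) _ from h, Bool.xor_self, hxu, (show ∃ e, Odd e ∧ 0 < mult (Dt C) (-1) e from hpair), and_true, true_and,
            or_true, decide_true] at this
          exact absurd this (by simp)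
        · have := hdiff (-1) (by norm_num) e
          rw [decide_eq_false (fun h => hne h.1)] at this
          exact beq _ _ this
  have hUnp : ∀ C t, ¬ paired C → Unp (E C t false) := fun C t h =>
    (unp_enc_iff (hadm C t false)).2 fun e he => Nat.eq_zero_of_not_pos fun hpos => h ⟨e, he, hpos⟩
  let P1 : Cl → Bool → F[X] := fun C t => poly (Dt C) (fl C t false) 1
  have hP1 : ∀ C t, (E C t false k1).2 = P1 C t := fun C t => rfl
  have hflag_mod : ∀ C t u C' t', ¬ paired C' → P1 C' t' ≠ 1 → E C t u ≠ modE ν k1 (E C' t' false) := by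
    intro C t u C' t' hp h1 he
    exact sp_mod_ne hf (g := rep C') (g' := rep C) (hadm C' t' false) (hadm C t u) hν (k1 := k1) rfl h1
      (hUnp C' t' hp) he ((hΩ C').2.trans (hΩ C).2.symm)
  have hmod_inj : ∀ C t C' t', P1 C t ≠ 1 → P1 C' t' ≠ 1 →
      modE ν k1 (E C t false) = modE ν k1 (E C' t' false) → E C t false = E C' t' false := by
    intro C t C' t' h1 h1' he
    funext k
    by_cases hk : k = k1
    · subst hk
      have h := congrFun he k1
      simp only [modE, Function.update_self, hP1] at h
      obtain ⟨j, hj⟩ := poly_valid (hadm C t false) 1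
      obtain ⟨j', hj'⟩ := poly_valid (hadm C' t' false) 1
      have pos : ∀ {P : F[X]} {j}, P ≠ 1 → P ∈ selfRec F j → 1 ≤ j := by
        intro P j hne hP
        rcases Nat.eq_zero_or_pos j with rfl | hp
        · exact absurd (hP.1.natDegree_eq_zero.1 (by rw [hP.2.1])) hne
        · exact hp
      obtain ⟨hm, hv⟩ := modP_spec ν (pos h1 hj) hj
      obtain ⟨hm', hv'⟩ := modP_spec ν (pos h1' hj') hj'
      have hP := congrArg Prod.snd h
      simp only at hP
      have hdeg : j = j' := by
        have := hm.2.1
        rw [hP, hm'.2.1] at this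
        omega
      subst hdeg
      have hev : (P1 C t).eval (-1) = (P1 C' t').eval (-1) := by
        have := congrArg (fun p => p.eval (-1)) hP
        simp only [P1] at this
        rw [hv, hv'] at this
        exact mul_left_cancel₀ hν0 this
      refine Prod.ext (congrArg Prod.fst h :) ?_
      rw [hP1, hP1]
      have e1 : (P1 C t).natDegree = (P1 C' t').natDegree := hj.2.1.trans hj'.2.1.symm
      simp only [modP, hev, e1, add_left_inj] at hP
      exact hP
    · have h := congrFun he k
      rwa [modE, modE, Function.update_of_ne hk, Function.update_of_ne hk] at h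
  -- the targets
  let Ev : Type _ := {g : encSet F allBits N 1 N // Even (Mw g.1)}
  let Od : Type _ := {g : encSet F allBits N 1 N // ¬ Even (Mw g.1)}
  let Zs : Type _ := {g : encSet F allBits N 1 N // (∀ k, (g.1 k).1 2 = false ∧ (g.1 k).1 3 = false) ∧ (g.1 k1).2 = 1}
  have hE : ∀ C t u, E C t u ∈ encSet F allBits N 1 N := fun C t u =>
    enc_mem (hadm C t u) fun k => Finset.mem_univ _
  have hM : ∀ C t, P1 C t ≠ 1 → modE ν k1 (E C t false) ∈ encSet F allBits N 1 N ∧
      Even (Mw (modE ν k1 (E C t false))) := by
    intro C t h1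
    obtain ⟨j, hj⟩ := poly_valid (hadm C t false) 1
    have hj1 : 1 ≤ j := by
      rcases Nat.eq_zero_or_pos j with rfl | hp
      · exact absurd (hj.1.natDegree_eq_zero.1 (by rw [hj.2.1])) h1
      · exact hp
    obtain ⟨hm, -⟩ := modP_spec ν hj1 hj
    obtain ⟨g1, g2, g3⟩ := hE C t false
    have hbits : ∀ k, (modE ν k1 (E C t false) k).1 = (E C t false k).1 := by
      intro k
      by_cases hk : k = k1
      · subst hk; rw [modE, Function.update_self]
      · rw [modE, Function.update_of_ne hk]
    refine ⟨⟨fun k => ⟨?_, Finset.mem_univ _⟩, fun k hk => ?_, ?_⟩, ?_⟩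
    · by_cases hk : k = k1
      · subst hk; rw [modE, Function.update_self]; exact ⟨j, hm⟩
      · rw [modE, Function.update_of_ne hk]; exact (g1 k).1
    · rw [modE, Function.update_of_ne (fun h => by rw [h] at hk; exact absurd hk (by show ¬ 1 < 1; omega))]
      exact g2 k hk
    · refine Eq.trans (Finset.sum_congr rfl fun k _ => ?_) g3
      rw [lwt, lwt, hbits]
      congr 2
      by_cases hk : k = k1
      · subst hk
        rw [modE, Function.update_self]
        exact hm.2.1.trans hj.2.1.symm
      · rw [modE, Function.update_of_ne hk]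
    · have := hMw C t false
      simp only [Mw, hbits]
      exact this
  let f : Cl × Bool × Bool → Ev ⊕ Zs := fun x =>
    if hp : x.2.2 = false ∨ paired x.1 then Sum.inl ⟨⟨_, hE x.1 x.2.1 x.2.2⟩, hMw x.1 x.2.1 x.2.2⟩
    else if h1 : P1 x.1 x.2.1 = 1 then Sum.inr ⟨⟨_, hE x.1 x.2.1 false⟩,
      fun k => ⟨((hUnp x.1 x.2.1 (fun h => hp (Or.inr h))) k).1, ((hUnp x.1 x.2.1 (fun h => hp (Or.inr h))) k).2.1⟩, h1⟩
    else Sum.inl ⟨⟨_, (hM x.1 x.2.1 h1).1⟩, (hM x.1 x.2.1 h1).2⟩
  have hinj : Function.Injective f := by
    rintro ⟨C, t, u⟩ ⟨C', t', u'⟩ e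
    have fin : ∀ {s s' : Bool}, (s = true → paired C) → (s' = true → paired C') → E C t s = E C' t' s' →
        C = C' ∧ t = t' ∧ s = s' := fun h h' he => hflag _ _ _ _ _ _ h h' he
    have hu : ∀ {s : Bool} {X : Cl}, s = false ∨ paired X → s = true → paired X := fun h hs =>
      h.resolve_left (by rw [hs]; simp)
    have hnu : ∀ {s : Bool} {X : Cl}, ¬ (s = false ∨ paired X) → s = true := fun h =>
      (Bool.eq_false_or_eq_true _).resolve_right fun h' => h (Or.inl h')
    simp only [f] at e
    by_cases hp : u = false ∨ paired C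
    · rw [dif_pos hp] at e
      by_cases hp' : u' = false ∨ paired C'
      · rw [dif_pos hp'] at e
        obtain ⟨rfl, rfl, rfl⟩ := fin (hu hp) (hu hp') (congrArg (fun x : Ev => x.1.1) (Sum.inl.inj e))
        rfl
      · rw [dif_neg hp'] at e
        by_cases h1' : P1 C' t' = 1
        · rw [dif_pos h1'] at e; exact absurd e Sum.inl_ne_inr
        · rw [dif_neg h1'] at e
          exact absurd (congrArg (fun x : Ev => x.1.1) (Sum.inl.inj e))
            (hflag_mod C t u C' t' (fun h => hp' (Or.inr h)) h1')
    · rw [dif_neg hp] at e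
      by_cases h1 : P1 C t = 1
      · rw [dif_pos h1] at e
        by_cases hp' : u' = false ∨ paired C'
        · rw [dif_pos hp'] at e; exact absurd e Sum.inr_ne_inl
        · rw [dif_neg hp'] at e
          by_cases h1' : P1 C' t' = 1
          · rw [dif_pos h1'] at e
            obtain ⟨rfl, rfl, -⟩ := fin (s := false) (s' := false) (by simp) (by simp)
              (congrArg (fun x : Zs => x.1.1) (Sum.inr.inj e))
            rw [hnu hp, hnu hp']
          · rw [dif_neg h1'] at e; exact absurd e Sum.inr_ne_inl
      · rw [dif_neg h1] at e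
        by_cases hp' : u' = false ∨ paired C'
        · rw [dif_pos hp'] at e
          exact absurd (congrArg (fun x : Ev => x.1.1) (Sum.inl.inj e)).symm
            (hflag_mod C' t' u' C t (fun h => hp (Or.inr h)) h1)
        · rw [dif_neg hp'] at e
          by_cases h1' : P1 C' t' = 1
          · rw [dif_pos h1'] at e; exact absurd e Sum.inl_ne_inr
          · rw [dif_neg h1'] at e
            obtain ⟨rfl, rfl, -⟩ := fin (s := false) (s' := false) (by simp) (by simp)
              (hmod_inj C t C' t' h1 h1' (congrArg (fun x : Ev => x.1.1) (Sum.inl.inj e)))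
            rw [hnu hp, hnu hp']
  have h4 := Nat.card_le_card_of_injective f hinj
  rw [Nat.card_prod, Nat.card_prod, Nat.card_eq_fintype_card (α := Bool), Fintype.card_bool, Nat.card_sum] at h4
  -- interchanging the signs
  let σb : (Fin 4 → Bool) → (Fin 4 → Bool) := fun b => ![b 2, b 3, b 0, b 1]
  let sw : (Fin (N + 1) → Lvl F) → (Fin (N + 1) → Lvl F) := fun g k => (σb (g k).1, (g k).2)
  have hσσ : ∀ b, σb (σb b) = b := fun b => by funext i; fin_cases i <;> rfl
  have hswap : ∀ g : encSet F allBits N 1 N, sw g.1 ∈ encSet F allBits N 1 N ∧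
      (Even (Mw g.1) → ¬ Even (Mw (sw g.1))) := by
    intro g
    obtain ⟨g1, g2, g3⟩ := g.2
    have hb : ∀ b, bitCount (σb b) = bitCount b := fun b => by
      simp only [bitCount, Finset.card_filter, Fin.sum_univ_four, ite_eq_toNat]
      show (b 2).toNat + (b 3).toNat + (b 0).toNat + (b 1).toNat = _
      ring
    refine ⟨⟨fun k => ⟨(g1 k).1, Finset.mem_univ _⟩, fun k hk => ?_, ?_⟩, fun hev hev' => ?_⟩
    · show (σb (g.1 k).1, (g.1 k).2) = _
      rw [g2 k hk]
      exact Prod.ext (funext fun i => by fin_cases i <;> rfl) rfl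
    · refine Eq.trans (Finset.sum_congr rfl fun k _ => ?_) g3
      show lwt k.1 (σb (g.1 k).1, (g.1 k).2) = _
      rw [lwt, lwt, hb]
    · refine Nat.not_even_iff_odd.2 hN ?_
      have hd : ∀ k : Fin (N + 1), ∃ t, lwt k.1 (g.1 k) =
          2 * t + minusW k.1 (g.1 k).1 + minusW k.1 (σb (g.1 k).1) := by
        intro k
        obtain ⟨d, -, hd, -, -⟩ := (g1 k).1
        refine ⟨k.1 * d, ?_⟩
        rw [lwt, hd, minusW, minusW, bitCount, Finset.card_filter, Fin.sum_univ_four]
        simp only [ite_eq_toNat]
        show _ = 2 * (k.1 * d) + _ + (2 * k.1 - 1) * (((g.1 k).1 0).toNat + ((g.1 k).1 1).toNat)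
        ring
      choose t ht using hd
      rw [← g3]
      simp only [ht, Finset.sum_add_distrib, ← Finset.mul_sum]
      exact ((even_two_mul _).add hev).add hev'
  have hEO : Nat.card Ev ≤ Nat.card Od := Nat.card_le_card_of_injective
    (fun g => (⟨⟨sw g.1.1, (hswap g.1).1⟩, (hswap g.1).2 g.2⟩ : Od)) fun g g' e => by
      have e1 : sw g.1.1 = sw g'.1.1 := congrArg (fun x : Od => x.1.1) e
      refine Subtype.ext (Subtype.ext (funext fun k => ?_))
      have := congrFun e1 k
      exact Prod.ext (by rw [← hσσ (g.1.1 k).1, ← hσσ (g'.1.1 k).1]; exact congrArg σb (congrArg Prod.fst this))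
        (congrArg Prod.snd this :)
  have hsum : Nat.card Ev + Nat.card Od = Nat.card (encSet F allBits N 1 N) := by
    rw [← Nat.card_sum]
    exact Nat.card_congr (Equiv.sumCompl _)
  -- the special encodings
  have hZ : Nat.card Zs ≤ Z (Fintype.card F) (N - 1) N := by
    have hfz : ∀ m, Finite (encSet F plusBits N 2 m) ∧
        Nat.card (encSet F plusBits N 2 m) ≤ W (Fintype.card F) plusBits (N - 1) 2 m := fun m =>
      card_encSet_le (F := F) (B := plusBits) N (N - 1) 2 m (by omega) (by omega)
    let T := (b : plusBits) × {_x : encSet F plusBits N 2 (N - bitCount b.1) // bitCount b.1 ≤ N}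
    haveI : ∀ b : plusBits, Finite (encSet F plusBits N 2 (N - bitCount b.1)) := fun b => (hfz _).1
    have hmemb : ∀ g : Zs, ∀ k, (g.1.1 k).1 ∈ plusBits := fun g k =>
      Finset.mem_filter.2 ⟨Finset.mem_univ _, g.2.1 k⟩
    have hw : ∀ g : Zs, bitCount (g.1.1 k1).1 + ∑ k, lwt k.1 (Function.update g.1.1 k1 (dflt F) k) = N := by
      intro g
      conv_rhs => rw [← g.1.2.2.2]
      rw [← Finset.add_sum_erase _ (fun k => lwt k.1 (g.1.1 k)) (Finset.mem_univ k1),
        ← Finset.add_sum_erase _ (fun k => lwt k.1 (Function.update g.1.1 k1 (dflt F) k)) (Finset.mem_univ k1),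
        Function.update_self, lwt_dflt, zero_add]
      congr 1
      · rw [lwt, g.2.2, natDegree_one]
        show _ = 1 * 0 + (2 * 1 - 1) * bitCount (g.1.1 k1).1
        omega
      · exact Finset.sum_congr rfl fun k hk => by rw [Function.update_of_ne (Finset.ne_of_mem_erase hk)]
    let fz : Zs → T := fun g => ⟨⟨_, hmemb g k1⟩, ⟨⟨Function.update g.1.1 k1 (dflt F),
      fun k => by
        rcases eq_or_ne k k1 with rfl | h
        · rw [Function.update_self]; exact ⟨valid_dflt, Finset.mem_filter.2 ⟨Finset.mem_univ _, rfl, rfl⟩⟩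
        · rw [Function.update_of_ne h]; exact ⟨(g.1.2.1 k).1, hmemb g k⟩,
      fun k hk => by
        rcases eq_or_ne k k1 with rfl | h
        · rw [Function.update_self]
        · rw [Function.update_of_ne h]
          exact g.1.2.2.1 k (by
            have : k.1 ≠ 1 := fun e => h (Fin.ext e)
            omega),
      by show _ = N - bitCount (g.1.1 k1).1; have := hw g; omega⟩,
      by have := hw g; show bitCount (g.1.1 k1).1 ≤ N; omega⟩⟩
    have hfzi : Function.Injective fz := by
      intro g g' e
      refine Subtype.ext (Subtype.ext (funext fun k => ?_))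
      rcases eq_or_ne k k1 with rfl | h
      · exact Prod.ext (congrArg (fun z : T => z.1.1) e) (g.2.2.trans g'.2.2.symm)
      · have := congrFun (congrArg (fun z : T => (z.2.1.1 : Fin (N + 1) → Lvl F)) e) k
        simp only [fz, Function.update_of_ne h] at this
        exact this
    refine (Nat.card_le_card_of_injective fz hfzi).trans ?_
    rw [Nat.card_sigma, Z, ← Finset.sum_coe_sort plusBits]
    refine Finset.sum_le_sum fun b _ => ?_
    split_ifs with hle
    · exact (Nat.card_le_card_of_injective (fun x => x.1) Subtype.val_injective).trans (hfz _).2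
    · haveI : IsEmpty {_x : encSet F plusBits N 2 (N - bitCount b.1) // bitCount b.1 ≤ N} := ⟨fun x => hle x.2⟩
      simp
  have h2 := card_commutator_classes_le hf hN
  change Nat.card (ConjClasses (commutator (orthGroup J))) ≤ 2 * Nat.card Cl at h2
  omega

end CfsgLib.ClassCountO
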