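import Cfsg.Agent.ClassCountO.Numeric

set_option autoImplicit false
set_option linter.style.haveILetI false

/-!
`W + 2 Z ≤ 29.2 q^n` in dimension `2 n + 1`: reduction to `q = 3`, a finite table and a tail.
-/

namespace CfsgLib.ClassCountO

open scoped Classical

variable {q : ℕ} {B : Finset (Fin 4 → Bool)}

/-- Bit patterns without bits at `-1`. -/
abbrev plusBits : Finset (Fin 4 → Bool) := Finset.univ.filter fun b => b 2 = false ∧ b 3 = false

/-- Encodings without bits at `-1` and with trivial first polynomial, `r` levels above the first. -/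
def Z (q r m : ℕ) : ℕ :=
  ∑ b ∈ plusBits, if bitCount b ≤ m then W q plusBits r 2 (m - bitCount b) else 0

/-- `W q / q^(m/2)` decreases in `q`. -/
theorem W_mono (hq : 3 ≤ q) : ∀ (r i m : ℕ), 1 ≤ i →
    W q B r i m * 3 ^ (m / 2) ≤ W 3 B r i m * q ^ (m / 2) := by
  intro r
  induction r with
  | zero =>
    intro i m _
    simp only [W]
    split_ifs with h
    · simp [h]
    · simp
  | succ r ih =>
    intro i m hi
    simp only [W, Finset.sum_mul]
    refine Finset.sum_le_sum fun b _ => Finset.sum_le_sum fun j _ => ?_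
    set w := 2 * i * j + (2 * i - 1) * bitCount b with hw
    split_ifs with h
    · have h' := ih (i + 1) (m - w) (by omega)
      have h2 : 2 * 1 * j ≤ 2 * i * j := Nat.mul_le_mul_right _ (by omega)
      obtain ⟨d, hd⟩ : ∃ d, m / 2 = (m - w) / 2 + j + d := ⟨m / 2 - ((m - w) / 2 + j), by omega⟩
      rw [hd]
      calc q ^ j * W q B r (i + 1) (m - w) * 3 ^ ((m - w) / 2 + j + d)
          = q ^ j * 3 ^ j * (W q B r (i + 1) (m - w) * 3 ^ ((m - w) / 2)) * 3 ^ d := by ring
        _ ≤ q ^ j * 3 ^ j * (W 3 B r (i + 1) (m - w) * q ^ ((m - w) / 2)) * q ^ d :=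
            Nat.mul_le_mul (Nat.mul_le_mul_left _ h') (Nat.pow_le_pow_left hq _)
        _ = _ := by ring
    · simp

theorem Z_mono (hq : 3 ≤ q) (r m : ℕ) : Z q r m * 3 ^ (m / 2) ≤ Z 3 r m * q ^ (m / 2) := by
  simp only [Z, Finset.sum_mul]
  refine Finset.sum_le_sum fun b _ => ?_
  split_ifs with h
  · obtain ⟨d, hd⟩ : ∃ d, m / 2 = (m - bitCount b) / 2 + d := ⟨m / 2 - (m - bitCount b) / 2, by omega⟩
    have h' := W_mono (q := q) (B := plusBits) hq r 2 (m - bitCount b) (by omega)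
    rw [hd, pow_add, pow_add, ← mul_assoc, ← mul_assoc]
    exact Nat.mul_le_mul h' (Nat.pow_le_pow_left hq _)
  · simp

/-- The first level, in odd dimension. -/
theorem first_level_odd (hq : 2 ≤ q) {r : ℕ} {bE bO : ℚ} (hE : ∀ M, Te q B r 2 M ≤ bE)
    (hO : ∀ M, To q B r 2 M ≤ bO) (n : ℕ) : (W q B (r + 1) 1 (2 * n + 1) : ℚ) ≤
      (∑ b ∈ B, (1 / q : ℚ) ^ (bitCount b / 2) * if Even (bitCount b) then q * bO else bE) * (q : ℚ) ^ n := by
  have hq' : (2 : ℚ) ≤ q := by exact_mod_cast hq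
  have hq0 : (q : ℚ) ≠ 0 := by linarith
  rw [W, Nat.cast_sum, Finset.sum_mul]
  refine Finset.sum_le_sum fun b _ => ?_
  rw [Nat.cast_sum]
  have key : ∀ (f : ℕ → ℚ) (σ : ℕ), (∀ a, 0 ≤ f a) →
      ∑ j ∈ Finset.range (2 * n + 1 + 1), (if j + σ ≤ n then f (n - (j + σ)) else 0) ≤
        ∑ a ∈ Finset.range (n + 1), f a := by
    intro f σ hf
    rw [← Finset.sum_filter]
    rw [← Finset.sum_image (f := f) (g := fun j => n - (j + σ)) (fun x hx y hy h => by
      simp only [Finset.coe_filter, Set.mem_setOf_eq, Finset.mem_range] at hx hy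
      simp only at h
      omega)]
    refine Finset.sum_le_sum_of_subset_of_nonneg (fun a ha => ?_) fun a _ _ => hf a
    obtain ⟨j, hj, rfl⟩ := Finset.mem_image.1 ha
    simp only [Finset.mem_range]; omega
  rcases Nat.even_or_odd' (bitCount b) with ⟨s, hs | hs⟩
  · rw [hs, if_pos (even_two_mul s), Nat.mul_div_cancel_left _ two_pos]
    refine le_trans (Finset.sum_le_sum (g := fun j => (1 / q : ℚ) ^ s * q * (q : ℚ) ^ n *
      (if j + s ≤ n then (W q B r 2 (2 * (n - (j + s)) + 1) : ℚ) / (q : ℚ) ^ (n - (j + s) + 1) else 0))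
      fun j _ => ?_) ?_
    · have e : 2 * 1 * j + (2 * 1 - 1) * (2 * s) = 2 * (j + s) := by omega
      rw [e]
      by_cases h : j + s ≤ n
      · rw [if_pos h, if_pos (by omega), show 2 * n + 1 - 2 * (j + s) = 2 * (n - (j + s)) + 1 by omega,
          Nat.cast_mul, Nat.cast_pow]
        obtain ⟨t, rfl⟩ := Nat.exists_eq_add_of_le h
        rw [Nat.add_sub_cancel_left, one_div, inv_pow]
        refine le_of_eq ?_
        field_simp
        ring
      · rw [if_neg h, if_neg (by omega)]; simp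
    · rw [← Finset.mul_sum,
        show (1 / q : ℚ) ^ s * (q * bO) * (q : ℚ) ^ n = (1 / q : ℚ) ^ s * q * (q : ℚ) ^ n * bO by ring]
      refine mul_le_mul_of_nonneg_left ?_ (by positivity)
      exact (key (fun a => (W q B r 2 (2 * a + 1) : ℚ) / (q : ℚ) ^ (a + 1)) s (fun a => by positivity)).trans
        (hO _)
  · have hne : ¬ Even (2 * s + 1) := Nat.not_even_iff_odd.2 ⟨s, rfl⟩
    rw [hs, if_neg hne, show (2 * s + 1) / 2 = s by omega]
    refine le_trans (Finset.sum_le_sum (g := fun j => (1 / q : ℚ) ^ s * (q : ℚ) ^ n *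
      (if j + s ≤ n then (W q B r 2 (2 * (n - (j + s))) : ℚ) / (q : ℚ) ^ (n - (j + s)) else 0))
      fun j _ => ?_) ?_
    · have e : 2 * 1 * j + (2 * 1 - 1) * (2 * s + 1) = 2 * (j + s) + 1 := by omega
      rw [e]
      by_cases h : j + s ≤ n
      · rw [if_pos h, if_pos (by omega), show 2 * n + 1 - (2 * (j + s) + 1) = 2 * (n - (j + s)) by omega,
          Nat.cast_mul, Nat.cast_pow]
        obtain ⟨t, rfl⟩ := Nat.exists_eq_add_of_le h
        rw [Nat.add_sub_cancel_left, one_div, inv_pow]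
        refine le_of_eq ?_
        field_simp
        ring
      · rw [if_neg h, if_neg (by omega)]; simp
    · rw [← Finset.mul_sum,
        show (1 / q : ℚ) ^ s * bE * (q : ℚ) ^ n = (1 / q : ℚ) ^ s * (q : ℚ) ^ n * bE by ring]
      refine mul_le_mul_of_nonneg_left ?_ (by positivity)
      exact (key (fun a => (W q B r 2 (2 * a) : ℚ) / (q : ℚ) ^ a) s (fun a => by positivity)).trans (hE _)

/-- The tail at `q = 3`, both parts. -/
theorem tail_three : ∀ (r i : ℕ), 9 ≤ i → ∀ M,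
    Te 3 Finset.univ r i M ≤ 1 / (1 - 3 * (1 / 3 : ℚ) ^ (i - 1)) ∧
      To 3 Finset.univ r i M ≤ 3 * (1 / 3 : ℚ) ^ (i - 1) := by
  intro r
  induction r with
  | zero =>
    intro i hi M
    obtain ⟨h1, h2⟩ := zero_level (q := 3) (B := Finset.univ) i M
    have hy : (1 / 3 : ℚ) ^ (i - 1) ≤ (1 / 3) ^ 8 := pow_le_pow_of_le_one (by norm_num) (by norm_num) (by omega)
    have hy0 : (0 : ℚ) ≤ (1 / 3) ^ (i - 1) := by positivity
    refine ⟨h1.trans ?_, by rw [h2]; linarith⟩
    rw [le_div_iff₀ (by norm_num at hy; linarith)]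
    linarith
  | succ r ih =>
    intro i hi M
    obtain ⟨hE, hO⟩ := ih (i + 1) (by omega) M
    obtain ⟨h1, h2⟩ := step_univ (q := 3) le_rfl (by omega) M hE hO
    rw [Nat.add_sub_cancel] at h1 h2
    set y : ℚ := (1 / 3) ^ (i - 1) with hy
    have hy0 : 0 ≤ y := by positivity
    have hy8 : y ≤ 1 / 6561 := (pow_le_pow_of_le_one (by norm_num) (by norm_num) (show 8 ≤ i - 1 by omega)).trans
      (by norm_num)
    have hxi : (1 / 3 : ℚ) ^ i = y / 3 := by
      rw [hy, show i = i - 1 + 1 by omega, pow_succ, Nat.add_sub_cancel]; ring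
    have hu : (1 / 3 : ℚ) ^ (2 * i - 1) = y * y / 3 := by
      rw [hy, show 2 * i - 1 = (i - 1) + (i - 1) + 1 by omega, pow_succ, pow_add]; ring
    have hu2 : (1 / 3 : ℚ) ^ (2 * (2 * i - 1)) = (y * y / 3) * (y * y / 3) := by
      rw [show 2 * (2 * i - 1) = (2 * i - 1) + (2 * i - 1) by omega, pow_add, hu]
    simp only [cE, cX, cY, ← hy, hxi, hu, hu2] at h1 h2
    rw [show 3 * (y / 3) = y by ring] at h1 h2
    set u := y * y / 3 with hudef
    have hu0 : 0 ≤ u := by positivity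
    have hu1 : u ≤ y / 19683 := by rw [hudef]; nlinarith
    have hv : 6 * u + u * u ≤ y / 2000 := by nlinarith
    have hD : (0 : ℚ) < 1 - y := by linarith
    have hD3 : (0 : ℚ) < 1 - 3 * y := by linarith
    constructor
    · refine h1.trans ?_
      rw [div_le_div_iff₀ hD hD3, one_mul]
      have e : 1 / (1 - y) ≤ 1 + 11 / 10 * y := by rw [div_le_iff₀ hD]; nlinarith
      have hp : 0 ≤ 1 / (1 - y) := by positivity
      nlinarith [mul_le_mul_of_nonneg_left e (show 0 ≤ 1 + 6 * u + u * u by positivity),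
        mul_nonneg hy0 hy0, mul_nonneg hu0 hy0]
    · refine h2.trans ?_
      rw [div_le_iff₀ hD]
      have e : 1 / (1 - y) ≤ 11 / 10 := by rw [div_le_iff₀ hD]; linarith
      nlinarith [mul_le_mul_of_nonneg_left e (show 0 ≤ y / 3 * (4 + 4 * u) by positivity),
        mul_nonneg hy0 hy0, mul_nonneg hu0 hy0]

/-- The bounds at level `9 - k`, `q = 3`. -/
def bd3 : ℕ → ℚ × ℚ
  | 0 => (1 / (1 - 3 * (1 / 3) ^ 8), 3 * (1 / 3) ^ 8)
  | k + 1 => ((cE (8 - k) * (bd3 k).1 + cX (8 - k) * (bd3 k).2) / (1 - (1 / 3) ^ (8 - k - 1)),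
      (cE (8 - k) * (bd3 k).2 + cY (8 - k) * (bd3 k).1) / (1 - (1 / 3) ^ (8 - k - 1)))

theorem bd3_spec : ∀ k, k ≤ 7 → (1 ≤ (bd3 k).1 ∧ 0 ≤ (bd3 k).2) ∧
    ∀ r M, Te 3 Finset.univ r (9 - k) M ≤ (bd3 k).1 ∧ To 3 Finset.univ r (9 - k) M ≤ (bd3 k).2 := by
  intro k
  induction k with
  | zero =>
    intro _
    exact ⟨by norm_num [bd3], fun r M => tail_three r 9 le_rfl M⟩
  | succ k ih =>
    intro hk
    obtain ⟨⟨hb1, hb2⟩, hb⟩ := ih (by omega)
    have hi : 2 ≤ 8 - k := by omega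
    have hy : (1 / 3 : ℚ) ^ (8 - k - 1) < 1 := pow_lt_one₀ (by norm_num) (by norm_num) (by omega)
    have hy0 : (0 : ℚ) ≤ (1 / 3 : ℚ) ^ (8 - k - 1) := by positivity
    have hE1 : 1 ≤ cE (8 - k) := by
      unfold cE; nlinarith [pow_nonneg (show (0 : ℚ) ≤ 1 / 3 by norm_num) (2 * (8 - k) - 1),
        pow_nonneg (show (0 : ℚ) ≤ 1 / 3 by norm_num) (2 * (2 * (8 - k) - 1))]
    have hX : 0 ≤ cX (8 - k) := by unfold cX; positivity
    have hY : 0 ≤ cY (8 - k) := by unfold cY; positivity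
    have h1 : 1 ≤ (bd3 (k + 1)).1 := by
      show (1 : ℚ) ≤ _ / _
      rw [one_le_div (by linarith)]
      nlinarith [mul_le_mul hE1 hb1 zero_le_one (by linarith), mul_nonneg hX hb2]
    have h2 : 0 ≤ (bd3 (k + 1)).2 := div_nonneg
      (add_nonneg (mul_nonneg (by linarith) hb2) (mul_nonneg hY (by linarith))) (by linarith)
    refine ⟨⟨h1, h2⟩, fun r M => ?_⟩
    rw [show 9 - (k + 1) = 8 - k by omega]
    match r with
    | 0 => exact ⟨(zero_level _ _).1.trans h1, (zero_level _ _).2.le.trans h2⟩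
    | r + 1 =>
      obtain ⟨hE, hO⟩ := hb r M
      rw [show 9 - k = 8 - k + 1 by omega] at hE hO
      exact step_univ le_rfl hi M hE hO

/-- `W ≤ 28.2 · 3^n` at `q = 3`. -/
theorem W_three_le (r n : ℕ) : (W 3 allBits (r + 1) 1 (2 * n + 1) : ℚ) ≤ 282 / 10 * (3 : ℚ) ^ n := by
  obtain ⟨-, hb⟩ := bd3_spec 7 le_rfl
  have h1 := first_level_odd (q := 3) (B := allBits) (by omega) (r := r) (fun M => (hb r M).1)
    (fun M => (hb r M).2) n
  rw [sum_bits (fun k => (1 / (3 : ℕ) : ℚ) ^ (k / 2) * if Even k then (3 : ℕ) * (bd3 7).2 else (bd3 7).1)] at h1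
  simp only [Nat.not_even_one, Even.zero, show Even 2 by decide, show ¬ Even 3 by decide,
    show Even 4 by decide, if_true, if_false, Nat.reduceDiv, pow_zero, one_mul, pow_one, Nat.cast_ofNat] at h1
  refine h1.trans (mul_le_mul_of_nonneg_right ?_ (by positivity))
  norm_num [bd3, cE, cX, cY]

/-- The factor of level `i` for `plusBits` at `t = 2/3`. -/
def cZ (i : ℕ) : ℚ := (1 + (2 / 3) ^ (2 * i - 1)) ^ 2 / (1 - 3 * (2 / 3) ^ (2 * i))

theorem sum_plusBits (g : ℕ → ℚ) : ∑ b ∈ plusBits, g (bitCount b) = g 0 + 2 * g 1 + g 2 := by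
  have h := (Finset.sum_comp (s := plusBits) g bitCount)
  rw [h]
  have hi : plusBits.image bitCount = {0, 1, 2} := by decide
  rw [hi]
  simp only [Finset.sum_insert, Finset.mem_insert, Finset.mem_singleton, Finset.sum_singleton,
    not_or, OfNat.ofNat_ne_zero, not_false_eq_true, nsmul_eq_mul,
    show (0 : ℕ) ≠ 1 by omega, show (0 : ℕ) ≠ 2 by omega, show (1 : ℕ) ≠ 2 by omega, and_true]
  have c : ∀ k : ℕ, k ∈ ({0, 1, 2} : Finset ℕ) → (plusBits.filter fun b => bitCount b = k).card = Nat.choose 2 k := by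
    decide
  rw [c 0 (by simp), c 1 (by simp), c 2 (by simp)]
  norm_num [Nat.choose]
  ring

theorem step_plus {r i : ℕ} (hi : 2 ≤ i) {C : ℚ} (hC0 : 0 ≤ C)
    (hC : ∀ m, (W 3 plusBits r (i + 1) m : ℚ) ≤ C * (3 / 2) ^ m) (m : ℕ) :
    (W 3 plusBits (r + 1) i m : ℚ) ≤ cZ i * C * (3 / 2) ^ m := by
  set t : ℚ := 2 / 3 with ht
  set ρ : ℚ := 3 * t ^ (2 * i) with hρ
  have hρ0 : 0 ≤ ρ := by positivity
  have hρ1 : ρ < 1 := by
    have : t ^ (2 * i) ≤ t ^ 4 := pow_le_pow_of_le_one (by positivity) (by norm_num [ht]) (by omega)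
    rw [hρ]; norm_num [ht] at this ⊢; linarith
  have hgeo : ∀ L, ∑ j ∈ Finset.range L, ρ ^ j ≤ 1 / (1 - ρ) := fun L => by
    rw [le_div_iff₀ (by linarith), geom_sum_mul_neg]; linarith [pow_nonneg hρ0 L]
  rw [W, Nat.cast_sum]
  calc ∑ b ∈ plusBits, ((∑ j ∈ Finset.range (m + 1), if 2 * i * j + (2 * i - 1) * bitCount b ≤ m then
        3 ^ j * W 3 plusBits r (i + 1) (m - (2 * i * j + (2 * i - 1) * bitCount b)) else 0 : ℕ) : ℚ)
      ≤ ∑ b ∈ plusBits, (t ^ (2 * i - 1)) ^ bitCount b * (C * (3 / 2) ^ m * (1 / (1 - ρ))) := by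
        refine Finset.sum_le_sum fun b _ => ?_
        rw [Nat.cast_sum]
        refine (Finset.sum_le_sum (g := fun j => (t ^ (2 * i - 1)) ^ bitCount b * (C * (3 / 2) ^ m) * ρ ^ j)
          fun j _ => ?_).trans ?_
        · split_ifs with h
          · push_cast
            refine (mul_le_mul_of_nonneg_left (hC _) (by positivity)).trans (le_of_eq ?_)
            obtain ⟨d, rfl⟩ := Nat.exists_eq_add_of_le h
            rw [Nat.add_sub_cancel_left, hρ, pow_add, pow_add, mul_pow, ← pow_mul, ← pow_mul]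
            have e1 : (3 / 2 : ℚ) ^ (2 * i * j) * t ^ (2 * i * j) = 1 := by rw [← mul_pow, ht]; norm_num
            have e2 : (3 / 2 : ℚ) ^ ((2 * i - 1) * bitCount b) * t ^ ((2 * i - 1) * bitCount b) = 1 := by
              rw [← mul_pow, ht]; norm_num
            linear_combination (-(3 : ℚ) ^ j * C * (3 / 2) ^ d) * e1 -
              ((3 : ℚ) ^ j * C * (3 / 2) ^ d * (3 / 2) ^ (2 * i * j) * t ^ (2 * i * j)) * e2
          · push_cast; positivity
        · rw [← Finset.mul_sum, mul_assoc]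
          exact mul_le_mul_of_nonneg_left (mul_le_mul_of_nonneg_left (hgeo _) (by positivity)) (by positivity)
    _ = _ := by
        rw [← Finset.sum_mul, sum_plusBits (fun k => (t ^ (2 * i - 1)) ^ k)]
        simp only [cZ, ← ht, ← hρ]
        ring

theorem tail_plus : ∀ (r i : ℕ), 6 ≤ i → ∀ m,
    (W 3 plusBits r i m : ℚ) ≤ 1 / (1 - 12 * (2 / 3 : ℚ) ^ (2 * i)) * (3 / 2) ^ m := by
  intro r
  induction r with
  | zero =>
    intro i hi m
    have hw : (2 / 3 : ℚ) ^ (2 * i) ≤ (2 / 3) ^ 12 := pow_le_pow_of_le_one (by norm_num) (by norm_num) (by omega)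
    have hw0 : (0 : ℚ) ≤ (2 / 3) ^ (2 * i) := by positivity
    have h1 : (1 : ℚ) ≤ 1 / (1 - 12 * (2 / 3) ^ (2 * i)) := by
      rw [le_div_iff₀ (by norm_num at hw; linarith)]; linarith
    rw [W]
    split_ifs with hm
    · subst hm; simpa using h1
    · push_cast; positivity
  | succ r ih =>
    intro i hi m
    set w : ℚ := (2 / 3) ^ (2 * i) with hw
    have hw0 : 0 ≤ w := by positivity
    have hw1 : w ≤ 4096 / 531441 := (pow_le_pow_of_le_one (by norm_num) (by norm_num)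
      (show 12 ≤ 2 * i by omega)).trans (by norm_num)
    have e1 : (2 / 3 : ℚ) ^ (2 * (i + 1)) = 4 / 9 * w := by rw [hw, mul_add, pow_add]; ring
    have e2 : (2 / 3 : ℚ) ^ (2 * i - 1) = 3 / 2 * w := by
      rw [hw]; conv_rhs => rw [show 2 * i = 2 * i - 1 + 1 by omega, pow_succ]
      ring
    refine (step_plus (by omega) (by rw [e1]; exact div_nonneg zero_le_one (by linarith))
      (ih (i + 1) (by omega)) m).trans (mul_le_mul_of_nonneg_right ?_ (by positivity))
    rw [cZ, e1, e2, ← hw, div_mul_div_comm, mul_one, div_le_div_iff₀ (by nlinarith) (by linarith)]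
    nlinarith [mul_le_mul_of_nonneg_left hw1 hw0, mul_le_mul_of_nonneg_left hw1 (mul_nonneg hw0 hw0)]

/-- `W ≤ 11.2 · (3/2)^m` for `plusBits` from level two on. -/
theorem W_plus_le (r m : ℕ) : (W 3 plusBits r 2 m : ℚ) ≤ 112 / 10 * (3 / 2) ^ m := by
  have hnum : cZ 2 * (cZ 3 * (cZ 4 * (cZ 5 * (1 / (1 - 12 * (2 / 3) ^ (2 * 6)))))) ≤ 112 / 10 := by
    norm_num [cZ]
  have h0 : ∀ (i m : ℕ) (C : ℚ), 1 ≤ C → (W 3 plusBits 0 i m : ℚ) ≤ C * (3 / 2) ^ m := by
    intro i m C hC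
    rw [W]
    split_ifs with hm
    · subst hm; simpa using hC
    · push_cast; positivity
  have c1 : (1 : ℚ) ≤ 1 / (1 - 12 * (2 / 3) ^ (2 * 6)) := by norm_num
  have k5 : ∀ r m, (W 3 plusBits r 5 m : ℚ) ≤ cZ 5 * (1 / (1 - 12 * (2 / 3) ^ (2 * 6))) * (3 / 2) ^ m := by
    intro r m
    cases r with
    | zero => exact h0 _ _ _ (by norm_num [cZ])
    | succ r => exact step_plus (by omega) (by norm_num) (tail_plus r 6 le_rfl) m
  have k4 : ∀ r m, (W 3 plusBits r 4 m : ℚ) ≤
      cZ 4 * (cZ 5 * (1 / (1 - 12 * (2 / 3) ^ (2 * 6)))) * (3 / 2) ^ m := by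
    intro r m
    cases r with
    | zero => exact h0 _ _ _ (by norm_num [cZ])
    | succ r => exact step_plus (by omega) (by norm_num [cZ]) (k5 r) m
  have k3 : ∀ r m, (W 3 plusBits r 3 m : ℚ) ≤
      cZ 3 * (cZ 4 * (cZ 5 * (1 / (1 - 12 * (2 / 3) ^ (2 * 6))))) * (3 / 2) ^ m := by
    intro r m
    cases r with
    | zero => exact h0 _ _ _ (by norm_num [cZ])
    | succ r => exact step_plus (by omega) (by norm_num [cZ]) (k4 r) m
  refine le_trans ?_ (mul_le_mul_of_nonneg_right hnum (by positivity))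
  cases r with
  | zero => exact h0 _ _ _ (by norm_num [cZ])
  | succ r => exact step_plus (by omega) (by norm_num [cZ]) (k3 r) m

/-- One row of the table. -/
def row (c : List ℕ) (M i : ℕ) (T : List ℕ) : List ℕ :=
  (List.range M).map fun m => ((List.range c.length).map fun k =>
    c.getD k 0 * ((List.range (m / (2 * i) + 1)).map fun j =>
      if 2 * i * j + (2 * i - 1) * k ≤ m then 3 ^ j * T.getD (m - (2 * i * j + (2 * i - 1) * k)) 0
      else 0).sum).sum

/-- The table of `W` at `q = 3`. -/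
def tbl (c : List ℕ) (M : ℕ) : ℕ → ℕ → List ℕ
  | 0, _ => (List.range M).map fun m => if m = 0 then 1 else 0
  | r + 1, i => row c M i (tbl c M r (i + 1))

theorem W_eq_tbl (c : List ℕ) (hc : ∀ g : ℕ → ℕ, ∑ b ∈ B, g (bitCount b) =
      ∑ k ∈ Finset.range c.length, c.getD k 0 * g k) (M : ℕ) :
    ∀ (r i m : ℕ), 1 ≤ i → m < M → W 3 B r i m = (tbl c M r i).getD m 0 := by
  intro r
  induction r with
  | zero =>
    intro i m _ hm
    simp [W, tbl, List.getD_eq_getElem?_getD, hm]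
  | succ r ih =>
    intro i m hi hm
    rw [W, hc fun k => ∑ j ∈ Finset.range (m + 1), if 2 * i * j + (2 * i - 1) * k ≤ m then
      3 ^ j * W 3 B r (i + 1) (m - (2 * i * j + (2 * i - 1) * k)) else 0]
    simp only [tbl, row, List.getD_eq_getElem?_getD, List.getElem?_map, List.getElem?_range hm, Option.map_some,
      Option.getD_some]
    rw [← List.sum_toFinset _ List.nodup_range, List.toFinset_range]
    refine Finset.sum_congr rfl fun k _ => ?_
    congr 1
    rw [← List.sum_toFinset _ List.nodup_range, List.toFinset_range]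
    rw [← Finset.sum_subset (Finset.range_mono (show m / (2 * i) + 1 ≤ m + 1 by
      have := Nat.div_le_self m (2 * i); omega)) fun j _ hj => if_neg fun h => hj (Finset.mem_range.2 (by
        have h' : j * (2 * i) ≤ m := by rw [mul_comm]; omega
        have := (Nat.le_div_iff_mul_le (by omega)).2 h'
        omega))]
    refine Finset.sum_congr rfl fun j _ => ?_
    split_ifs with h
    · rw [ih (i + 1) _ (by omega) (by omega), List.getD_eq_getElem?_getD]
    · rfl

theorem all_bits_count (g : ℕ → ℕ) :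
    ∑ b : Fin 4 → Bool, g (bitCount b) =
      ∑ k ∈ Finset.range [1, 4, 6, 4, 1].length, [1, 4, 6, 4, 1].getD k 0 * g k := by
  have h := sum_bits fun k => (g k : ℚ)
  simp only [List.length_cons, List.length_nil, Finset.sum_range_succ, Finset.sum_range_zero, zero_add,
    List.getD_cons_zero, List.getD_cons_succ]
  norm_num only [one_mul, show 1 + 1 = 2 from rfl, show 1 + 2 = 3 from rfl, show 1 + 3 = 4 from rfl]
  exact_mod_cast h

theorem plus_bits_count (g : ℕ → ℕ) :
    ∑ b ∈ plusBits, g (bitCount b) =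
      ∑ k ∈ Finset.range [1, 2, 1].length, [1, 2, 1].getD k 0 * g k := by
  have h := sum_plusBits fun k => (g k : ℚ)
  simp only [List.length_cons, List.length_nil, Finset.sum_range_succ, Finset.sum_range_zero, zero_add,
    List.getD_cons_zero, List.getD_cons_succ]
  norm_num only [one_mul, show 1 + 1 = 2 from rfl]
  exact_mod_cast h

/-- The check for small `n`. -/
def small (n : ℕ) : Bool :=
  let T := tbl [1, 4, 6, 4, 1] (2 * n + 2) (2 * n + 1) 1
  let P := tbl [1, 2, 1] (2 * n + 2) (2 * n) 2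
  decide (10 * (T.getD (2 * n + 1) 0 + 2 * (P.getD (2 * n + 1) 0 + 2 * P.getD (2 * n) 0 +
    if 1 ≤ n then P.getD (2 * n - 1) 0 else 0)) ≤ 292 * 3 ^ n)

theorem small_ok : ∀ n < 16, small n = true := by decide +kernel

theorem Z_eq (q r n : ℕ) : Z q r (2 * n + 1) = W q plusBits r 2 (2 * n + 1) + 2 * W q plusBits r 2 (2 * n) +
    if 1 ≤ n then W q plusBits r 2 (2 * n - 1) else 0 := by
  rw [Z, plus_bits_count fun k => if k ≤ 2 * n + 1 then W q plusBits r 2 (2 * n + 1 - k) else 0]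
  simp only [List.length_cons, List.length_nil, Finset.sum_range_succ, Finset.sum_range_zero, zero_add,
    List.getD_cons_zero, List.getD_cons_succ, one_mul, Nat.zero_le, if_true, Nat.sub_zero,
    show 1 ≤ 2 * n + 1 by omega, Nat.add_sub_cancel]
  rw [show 2 * n + 1 - 2 = 2 * n - 1 by omega]
  split_ifs <;> omega

/-- At `q = 3`. -/
theorem bound_three (n : ℕ) :
    10 * (W 3 allBits (2 * n + 1) 1 (2 * n + 1) + 2 * Z 3 (2 * n) (2 * n + 1)) ≤ 292 * 3 ^ n := by
  by_cases hn : n < 16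
  · have h := of_decide_eq_true (small_ok n hn)
    rw [W_eq_tbl [1, 4, 6, 4, 1] all_bits_count (2 * n + 2) _ _ _ le_rfl (by omega), Z_eq,
      W_eq_tbl [1, 2, 1] plus_bits_count (2 * n + 2) _ _ _ (by omega) (by omega),
      W_eq_tbl [1, 2, 1] plus_bits_count (2 * n + 2) _ _ _ (by omega) (by omega),
      W_eq_tbl [1, 2, 1] plus_bits_count (2 * n + 2) _ _ _ (by omega) (by omega)]
    exact h
  · have hn' : 16 ≤ n := by omega
    rw [Z_eq, if_pos (by omega)]
    have h1 := W_three_le (2 * n) n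
    have z1 := W_plus_le (2 * n) (2 * n + 1)
    have z2 := W_plus_le (2 * n) (2 * n)
    have z3 := W_plus_le (2 * n) (2 * n - 1)
    have e1 : (3 / 2 : ℚ) ^ (2 * n + 1) = 3 / 2 * (3 / 2) ^ (2 * n) := by ring
    have e3 : (3 / 2 : ℚ) ^ (2 * n - 1) = 2 / 3 * (3 / 2) ^ (2 * n) := by
      conv_rhs => rw [show 2 * n = 2 * n - 1 + 1 by omega, pow_succ]
      ring
    have e4 : (3 / 2 : ℚ) ^ (2 * n) = (3 / 4) ^ n * 3 ^ n := by rw [pow_mul, ← mul_pow]; norm_num
    have e5 : (3 / 4 : ℚ) ^ n ≤ (3 / 4) ^ 16 := pow_le_pow_of_le_one (by norm_num) (by norm_num) hn'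
    have h3 : (0 : ℚ) ≤ 3 ^ n := by positivity
    have e6 : (3 / 4 : ℚ) ^ n * 3 ^ n ≤ 10023 / 1000000 * 3 ^ n :=
      mul_le_mul_of_nonneg_right (e5.trans (by norm_num)) h3
    have : ((10 * (W 3 allBits (2 * n + 1) 1 (2 * n + 1) + 2 * (W 3 plusBits (2 * n) 2 (2 * n + 1) +
        2 * W 3 plusBits (2 * n) 2 (2 * n) + W 3 plusBits (2 * n) 2 (2 * n - 1))) : ℕ) : ℚ) ≤
        ((292 * 3 ^ n : ℕ) : ℚ) := by
      push_cast
      rw [e1, e4] at z1
      rw [e4] at z2
      rw [e3, e4] at z3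
      linarith
    exact_mod_cast this

/-- The numerical bound. -/
theorem W_add_Z_le (hq : 3 ≤ q) (n : ℕ) :
    10 * (W q allBits (2 * n + 1) 1 (2 * n + 1) + 2 * Z q (2 * n) (2 * n + 1)) ≤ 292 * q ^ n := by
  have h1 := W_mono (q := q) (B := allBits) hq (2 * n + 1) 1 (2 * n + 1) le_rfl
  have h2 := Z_mono (q := q) hq (2 * n) (2 * n + 1)
  rw [show (2 * n + 1) / 2 = n by omega] at h1 h2
  have h3 := Nat.mul_le_mul_right (q ^ n) (bound_three n)
  refine Nat.le_of_mul_le_mul_right ?_ (Nat.pow_pos (n := n) (by norm_num : 0 < 3))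
  nlinarith

end CfsgLib.ClassCountO
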