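import Cfsg.Agent.ClassCountO.SpinData
import Cfsg.Agent.ClassCountO.OddNumeric

set_option autoImplicit false
set_option linter.style.haveILetI false

/-!
The characteristic polynomial, determinant and spinor norm read off from the encodings; when two spinor norms differ.
-/

namespace CfsgLib.ClassCountO

open Polynomial Matrix CfsgLib.InvNorm
open CfsgLib.ClassCount (Item IsItem Decomp dataOf part)
open CfsgLib.ClassCountSp (Lvl selfRec Blk bB rho rho_one rho_sub rho_mul det_rho_ne Rt commute_aeval)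
open scoped Classical

variable {F : Type*} [Field F] {N : ℕ}

theorem charpoly_blockDiag {k : ℕ} {m : Fin k → Type} [∀ i, Fintype (m i)] [∀ i, DecidableEq (m i)]
    (M : ∀ i, Matrix (m i) (m i) F) : (Matrix.blockDiagonal' M).charpoly = ∏ i, (M i).charpoly := by
  have e : (Matrix.blockDiagonal' M).charmatrix = Matrix.blockDiagonal' fun i => (M i).charmatrix := by
    ext ⟨i, x⟩ ⟨j, y⟩
    by_cases h : i = j
    · subst h
      by_cases hxy : x = y
      · subst hxy; simp [charmatrix_apply_eq, blockDiagonal'_apply_eq]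
      · rw [charmatrix_apply_ne _ _ _ (by simp [hxy]), blockDiagonal'_apply_eq, blockDiagonal'_apply_eq,
          charmatrix_apply_ne _ _ _ hxy]
    · rw [charmatrix_apply_ne _ _ _ (by simp [h]), blockDiagonal'_apply_ne _ _ _ h, blockDiagonal'_apply_ne _ _ _ h,
        map_zero, neg_zero]
  rw [Matrix.charpoly, e, (Matrix.blockTriangular_blockDiagonal' _).det_fintype]
  refine Finset.prod_congr rfl fun i _ => ?_
  rw [Matrix.charpoly, ← Matrix.det_submatrix_equiv_self (Equiv.sigmaSubtype i).symm]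
  congr 1
  ext x y
  simp [Matrix.toSquareBlock_def, Equiv.sigmaSubtype, Matrix.blockDiagonal'_apply_eq]

/-- The characteristic polynomial is the product of the elementary divisors. -/
theorem charpoly_eq_prod {A : Matrix (Fin N) (Fin N) F} (d : Decomp A) :
    A.charpoly = ∏ i, d.P i ^ d.e i := by
  have hm : ∀ i, (d.P i ^ d.e i).Monic := fun i => (d.item i).monic.pow _
  let pb := fun i => AdjoinRoot.powerBasis' (hm i)
  let B := Pi.basis fun i => (pb i).basis
  haveI : ∀ i, Module.Finite F (AdjoinRoot (d.P i ^ d.e i)) := fun i => (pb i).finite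
  haveI : ∀ i, Module.Free F (AdjoinRoot (d.P i ^ d.e i)) := fun i => Module.Free.of_basis (pb i).basis
  let f : ((i : Fin d.k) → AdjoinRoot (d.P i ^ d.e i)) →ₗ[F] ((i : Fin d.k) → AdjoinRoot (d.P i ^ d.e i)) :=
    LinearMap.pi fun i => (LinearMap.mulLeft F (AdjoinRoot.root (d.P i ^ d.e i))).comp (LinearMap.proj i)
  have e1 : f = d.φ.conj (Matrix.toLin' A) := by
    refine LinearMap.ext fun w => funext fun i => ?_
    simp [f, LinearEquiv.conj_apply, d.map_mulVec]
  have e2 : LinearMap.toMatrix B B f =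
      Matrix.blockDiagonal' fun i => Algebra.leftMulMatrix (pb i).basis (AdjoinRoot.root (d.P i ^ d.e i)) := by
    ext ⟨i, x⟩ ⟨j, y⟩
    rw [LinearMap.toMatrix_apply, Pi.basis_repr]
    by_cases h : i = j
    · subst h
      simp [B, f, Matrix.blockDiagonal'_apply_eq, Algebra.leftMulMatrix_eq_repr_mul, Pi.basis_apply]
    · rw [Matrix.blockDiagonal'_apply_ne _ _ _ h]
      simp [B, f, Pi.basis_apply, Pi.single_eq_of_ne h]
  rw [← Matrix.charpoly_toLin', ← LinearEquiv.charpoly_conj d.φ, ← e1, ← LinearMap.charpoly_toMatrix f B, e2,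
    charpoly_blockDiag]
  refine Finset.prod_congr rfl fun i _ => ?_
  show (Algebra.leftMulMatrix (pb i).basis (AdjoinRoot.root (d.P i ^ d.e i))).charpoly = _
  rw [show AdjoinRoot.root (d.P i ^ d.e i) = (pb i).gen from (AdjoinRoot.powerBasis'_gen (hm i)).symm,
    charpoly_leftMulMatrix]
  show minpoly F (AdjoinRoot.powerBasis' (hm i)).gen = _
  rw [AdjoinRoot.powerBasis'_gen, AdjoinRoot.minpoly_root (hm i).ne_zero, (hm i).leadingCoeff, inv_one, map_one,
    mul_one]

variable [Fintype F] {D : Multiset (Item F)} {al : F → ℕ → Bool} {n : ℕ}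

/-- The weight of the bits at `1`. -/
def plusW (k : ℕ) (b : Fin 4 → Bool) : ℕ := (2 * k - 1) * ((b 0).toNat + (b 1).toNat)

/-- The weight of the bits at `-1`. -/
def minusW (k : ℕ) (b : Fin 4 → Bool) : ℕ := (2 * k - 1) * ((b 2).toNat + (b 3).toNat)

/-- Total weight at `1`. -/
def Pw (E : Fin (n + 1) → Lvl F) : ℕ := ∑ k : Fin (n + 1), plusW k.1 (E k).1

/-- Total weight at `-1`. -/
def Mw (E : Fin (n + 1) → Lvl F) : ℕ := ∑ k : Fin (n + 1), minusW k.1 (E k).1

/-- The characteristic polynomial of an encoding. -/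
noncomputable def cpoly (E : Fin (n + 1) → Lvl F) : F[X] :=
  (∏ k : Fin (n + 1), (E k).2 ^ k.1) * ((X - C 1) ^ Pw E * (X - C (-1)) ^ Mw E)

omit [Fintype F] in
theorem prod_eq_parts (E : Multiset (Item F)) (M : ℕ) (hM : ∀ it ∈ E, it.2 ≤ M) :
    (E.map fun it => it.1 ^ it.2).prod = ∏ e ∈ Finset.range (M + 1), part E e ^ e := by
  induction E using Multiset.induction with
  | empty => simp [part]
  | cons a E ih =>
    rw [Multiset.map_cons, Multiset.prod_cons, ih fun it hit => hM it (Multiset.mem_cons_of_mem hit),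
      ← Finset.prod_ite_eq_of_mem (Finset.range (M + 1)) a.2 (fun e => a.1 ^ e)
        (Finset.mem_range.2 (Nat.lt_succ_of_le (hM a (Multiset.mem_cons_self a E)))), ← Finset.prod_mul_distrib]
    refine Finset.prod_congr rfl fun e _ => ?_
    rw [part, part, Multiset.filter_cons]
    split_ifs with h
    · rw [Multiset.map_add, Multiset.prod_add, mul_pow]; simp
    · simp

theorem sum_odd_reindex (f : ℕ → ℕ) (M : ℕ) (he : ∀ e, Even e → f e = 0) (hb : ∀ e, M < e → f e = 0) :
    ∑ e ∈ Finset.range (M + 1), f e * e = ∑ k ∈ Finset.range (M + 1), f (2 * k - 1) * (2 * k - 1) := by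
  rw [← Finset.sum_filter_add_sum_filter_not (Finset.range (M + 1)) (fun e => Odd e) (fun e => f e * e),
    Finset.sum_eq_zero (s := (Finset.range (M + 1)).filter fun e => ¬ Odd e) fun e he' => by
      rw [he e (Nat.not_odd_iff_even.1 (Finset.mem_filter.1 he').2), zero_mul], add_zero,
    ← Finset.sum_filter_add_sum_filter_not (Finset.range (M + 1)) (fun k => 1 ≤ k ∧ 2 * k - 1 ≤ M)
      (fun k => f (2 * k - 1) * (2 * k - 1)),
    Finset.sum_eq_zero (s := (Finset.range (M + 1)).filter fun k => ¬ (1 ≤ k ∧ 2 * k - 1 ≤ M)) fun k hk => by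
      have hk' := (Finset.mem_filter.1 hk).2
      rcases Nat.eq_zero_or_pos k with rfl | hk1
      · simp
      · rw [hb _ (by omega), zero_mul], add_zero]
  refine Finset.sum_nbij' (fun e => (e + 1) / 2) (fun k => 2 * k - 1) ?_ ?_ ?_ ?_ ?_
  · intro e he
    simp only [Finset.coe_filter, Finset.mem_range, Set.mem_setOf_eq, Finset.mem_filter] at he ⊢
    obtain ⟨he1, ⟨j, rfl⟩⟩ := he
    omega
  · intro k hk
    simp only [Finset.coe_filter, Finset.mem_range, Set.mem_setOf_eq, Finset.mem_filter] at hk ⊢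
    exact ⟨by omega, ⟨k - 1, by omega⟩⟩
  · intro e he
    simp only [Finset.coe_filter, Finset.mem_range, Set.mem_setOf_eq, Finset.mem_filter] at he
    obtain ⟨-, ⟨j, rfl⟩⟩ := he
    omega
  · intro k hk
    simp only [Finset.coe_filter, Finset.mem_range, Set.mem_setOf_eq, Finset.mem_filter] at hk
    omega
  · intro e he
    simp only [Finset.mem_filter, Finset.mem_range] at he
    obtain ⟨-, ⟨j, rfl⟩⟩ := he
    rw [show 2 * ((2 * j + 1 + 1) / 2) - 1 = 2 * j + 1 by omega]

theorem le_of_mem (h : Adm D al n) {it : Item F} (hit : it ∈ D) : it.2 ≤ n := by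
  obtain ⟨D', rfl⟩ := Multiset.exists_cons_of_mem hit
  have hs := h.size_eq
  rw [ClassCount.size_cons] at hs
  have : 1 * it.2 ≤ it.1.natDegree * it.2 := Nat.mul_le_mul_right _ (h.valid it hit).deg_pos
  omega

/-- The data determine the encoded characteristic polynomial. -/
theorem prod_eq_cpoly (h : Adm D al n) : (D.map fun it => it.1 ^ it.2).prod = cpoly (enc D al n) := by
  rw [prod_eq_parts D n fun it hit => le_of_mem h hit]
  have hpart : ∀ e, part D e = poly D al e *
      ((X - C 1) ^ ((al 1 e).toNat + (par D al 1 e).toNat) *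
        (X - C (-1)) ^ ((al (-1) e).toNat + (par D al (-1) e).toNat)) := by
    intro e
    rw [part_eq h, poly, mult_eq h 1, mult_eq h (-1)]
    ring
  simp only [hpart, mul_pow, ← pow_mul, Finset.prod_mul_distrib, Finset.prod_pow_eq_pow_sum]
  have hz : ∀ c : F, c * c = 1 → ∀ e, Even e ∨ n < e → (al c e).toNat + (par D al c e).toNat = 0 := by
    intro c hc e he
    rcases he with he | he
    · rw [h.alEven c e he, par_even h hc he]; rfl
    · have h1 := mult_eq h c e
      rw [mult_zero h c (Or.inr he)] at h1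
      omega
  rw [sum_odd_reindex _ n (fun e he => hz 1 (one_mul 1) e (Or.inl he)) fun e he => hz 1 (one_mul 1) e (Or.inr he),
    sum_odd_reindex _ n (fun e he => hz (-1) (by norm_num) e (Or.inl he))
      fun e he => hz (-1) (by norm_num) e (Or.inr he), cpoly]
  rw [Finset.prod_range, Pw, Mw, Finset.sum_range, Finset.sum_range]
  congr 1
  congr 1
  · congr 1
    refine Finset.sum_congr rfl fun k _ => ?_
    rw [plusW, mul_comm]; rfl
  · congr 1
    refine Finset.sum_congr rfl fun k _ => ?_
    rw [minusW, mul_comm]; rfl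

variable {J : Matrix (Fin N) (Fin N) F}

theorem charpoly_eq_cpoly (hf : Form J) (g : orthGroup J) {al : F → ℕ → Bool}
    (h : Adm (dataOf (g : GL (Fin N) F)) al N) :
    ((g : GL (Fin N) F) : Matrix (Fin N) (Fin N) F).charpoly = cpoly (enc (dataOf (g : GL (Fin N) F)) al N) := by
  obtain ⟨d⟩ := ClassCount.exists_decomp _ (Matrix.GeneralLinearGroup.det_ne_zero (g : GL (Fin N) F))
  rw [charpoly_eq_prod d, ← prod_eq_cpoly h, ClassCount.dataOf_eq d, Decomp.data, Multiset.map_map]
  rfl

/-- The determinant is the parity of the weight at `-1`. -/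
theorem det_eq_Mw (hf : Form J) (g : orthGroup J) {al : F → ℕ → Bool}
    (h : Adm (dataOf (g : GL (Fin N) F)) al N) :
    ((g : GL (Fin N) F) : Matrix (Fin N) (Fin N) F).det = (-1) ^ Mw (enc (dataOf (g : GL (Fin N) F)) al N) := by
  rw [Matrix.det_eq_sign_charpoly_coeff, Fintype.card_fin, charpoly_eq_cpoly hf g h]
  set E := enc (dataOf (g : GL (Fin N) F)) al N with hE
  have hsz := size_eq_levels h
  rw [← hE] at hsz
  have h0 : (cpoly E).coeff 0 = (-1) ^ Pw E := by
    rw [cpoly, ← constantCoeff_apply, map_mul, map_prod, map_mul, map_pow, map_pow, map_sub, map_sub]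
    simp only [constantCoeff_apply, coeff_X_zero, coeff_C_zero, zero_sub, neg_neg, one_pow, mul_one]
    rw [Finset.prod_eq_one fun k _ => by
      obtain ⟨d, -, -, hd0, -⟩ := poly_valid h k.1
      rw [← constantCoeff_apply, map_pow, constantCoeff_apply]
      show (poly (dataOf (g : GL (Fin N) F)) al k.1).coeff 0 ^ k.1 = 1
      rw [hd0, one_pow], one_mul]
  rw [h0, ← pow_add]
  obtain ⟨t, ht⟩ : ∃ t, N = 2 * t + Pw E + Mw E := by
    have hd : ∀ k : Fin (N + 1), ∃ t, lwt k.1 (E k) = 2 * t + plusW k.1 (E k).1 + minusW k.1 (E k).1 := by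
      intro k
      obtain ⟨d, -, hd, -, -⟩ := poly_valid h k.1
      refine ⟨k.1 * d, ?_⟩
      rw [lwt, show (E k).2.natDegree = 2 * d from hd, plusW, minusW, bitCount, Finset.card_filter, Fin.sum_univ_four]
      simp only [ite_eq_toNat]
      ring
    choose t ht using hd
    refine ⟨∑ k, t k, ?_⟩
    conv_lhs => rw [← hsz]
    simp only [ht, Finset.sum_add_distrib, ← Finset.mul_sum, Pw, Mw]
  rw [show N + Pw E = 2 * (t + Pw E) + Mw E by omega, pow_add, pow_mul]
  simp

/-- No odd blocks at `-1`, on encodings. -/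
def Unp (E : Fin (n + 1) → Lvl F) : Prop :=
  ∀ k : Fin (n + 1), (E k).1 2 = false ∧ (E k).1 3 = false ∧ (Odd k.1 → (E k).2.eval (-1) ≠ 0)

theorem unp_enc_iff (h : Adm D al n) : Unp (enc D al n) ↔ ∀ e, Odd e → mult D (-1) e = 0 := by
  have hc : (-1 : F) * -1 = 1 := by norm_num
  constructor
  · intro hU e he
    by_cases hle : e ≤ n
    · have he0 : 1 ≤ e := he.pos
      have h1 := (hU ⟨e, Nat.lt_succ_of_le hle⟩).2.2 he
      obtain ⟨i, hi⟩ := he
      obtain ⟨h2, h3, -⟩ := hU ⟨i + 1, by omega⟩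
      have h2' : al (-1) (2 * (i + 1) - 1) = false := h2
      have h3' : par D al (-1) (2 * (i + 1) - 1) = false := h3
      rw [show 2 * (i + 1) - 1 = e by omega] at h2' h3'
      have hv : evp D al (-1) e = 0 := by
        by_contra hne
        refine h1 ?_
        show (poly D al e).eval (-1) = 0
        simp [poly, hne]
      have := mult_eq h (-1) e
      rw [hv, h2', h3'] at this
      exact this
    · exact mult_zero h _ (Or.inr (by omega))
  · intro hz k
    have hall : ∀ e, Odd e → al (-1) e = false ∧ par D al (-1) e = false ∧ evp D al (-1) e = 0 := by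
      intro e he
      have h1 := mult_eq h (-1) e
      rw [hz e he] at h1
      refine ⟨?_, ?_, by omega⟩
      · cases hb : al (-1) e
        · rfl
        · rw [hb, Bool.toNat_true] at h1; omega
      · cases hb : par D al (-1) e
        · rfl
        · rw [hb, Bool.toNat_true] at h1; omega
    refine ⟨?_, ?_, fun hk => ?_⟩
    · show al (-1) (2 * k.1 - 1) = false
      rcases Nat.even_or_odd (2 * k.1 - 1) with he | he
      · exact h.alEven _ _ he
      · exact (hall _ he).1
    · show par D al (-1) (2 * k.1 - 1) = false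
      rcases Nat.even_or_odd (2 * k.1 - 1) with he | he
      · exact par_even h hc he
      · exact (hall _ he).2.1
    · show (poly D al k.1).eval (-1) ≠ 0
      rw [poly, (hall _ hk).2.2, mul_zero, pow_zero, mul_one, eval_mul, eval_pow, eval_sub, eval_X, eval_C]
      refine mul_ne_zero (away_eval h k.1 hc) (pow_ne_zero _ fun h0 => h.h2 ?_)
      linear_combination -h0

/-- Multiply the value at `-1` by `ν`. -/
noncomputable def modP (ν : F) (P : F[X]) : F[X] :=
  P + C ((ν - 1) * (-1) ^ (P.natDegree / 2) * P.eval (-1)) * X ^ (P.natDegree / 2)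

omit [Fintype F] in
theorem modP_spec (ν : F) {P : F[X]} {j : ℕ} (hj : 1 ≤ j) (hP : P ∈ selfRec F j) :
    modP ν P ∈ selfRec F j ∧ (modP ν P).eval (-1) = ν * P.eval (-1) := by
  obtain ⟨hm, hd, h0, hs⟩ := hP
  set c := (ν - 1) * (-1) ^ (P.natDegree / 2) * P.eval (-1) with hcdef
  have hj2 : P.natDegree / 2 = j := by omega
  have hdeg : (C c * X ^ j).degree < P.degree := by
    refine lt_of_le_of_lt (degree_C_mul_X_pow_le j c) ?_
    rw [degree_eq_natDegree hm.ne_zero, hd]
    exact_mod_cast (by omega : j < 2 * j)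
  have hmod : modP ν P = P + C c * X ^ j := by rw [modP, ← hcdef, hj2]
  have hn : (P + C c * X ^ j).natDegree = 2 * j := by
    rw [natDegree_eq_of_degree_eq (degree_add_eq_left_of_degree_lt hdeg), hd]
  refine ⟨?_, ?_⟩
  · rw [hmod]
    have hc0 : (P + C c * X ^ j).coeff 0 = 1 := by
      rw [coeff_add, h0, coeff_C_mul, coeff_X_pow, if_neg (by omega), mul_zero, add_zero]
    refine ⟨hm.add_of_left hdeg, hn, hc0, ?_⟩
    rw [SemisimpleSU.star, Polynomial.map_id, RingHom.id_apply, h0, inv_one, map_one, one_mul, reverse, hd] at hs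
    rw [SemisimpleSU.star, Polynomial.map_id, RingHom.id_apply, hc0, inv_one, map_one, one_mul, reverse, hn,
      reflect_add, reflect_C_mul_X_pow, revAt_le (by omega), hs, show 2 * j - j = j by omega]
  · rw [hmod, eval_add, eval_mul, eval_C, eval_pow, eval_X, hcdef, hj2]
    have : (-1 : F) ^ j * (-1) ^ j = 1 := by rw [← mul_pow, neg_one_mul, neg_neg, one_pow]
    linear_combination (ν - 1) * P.eval (-1) * this

/-- Modify the first level. -/
noncomputable def modE (ν : F) (k1 : Fin (n + 1)) (E : Fin (n + 1) → Lvl F) : Fin (n + 1) → Lvl F :=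
  Function.update E k1 ((E k1).1, modP ν (E k1).2)

theorem unp_data (hf : Form J) (g : orthGroup J) (hU : ∀ e, Odd e → mult (dataOf (g : GL (Fin N) F)) (-1) e = 0) :
    ∃ m, ((g : GL (Fin N) F) : Matrix (Fin N) (Fin N) F).charpoly.rootMultiplicity (-1) = 2 * m ∧
      (sp hf g : ℤ) = quadraticChar F (2 ^ N * (-1) ^ (N + m) *
        kap ((g : GL (Fin N) F) : Matrix (Fin N) (Fin N) F).charpoly) := by
  obtain ⟨d⟩ := ClassCount.exists_decomp _ (Matrix.GeneralLinearGroup.det_ne_zero (g : GL (Fin N) F))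
  have hev : ∀ j : Rt d (-1 : F), Even (d.e j.1) := by
    intro j
    by_contra hodd
    have h1 := hU _ (Nat.not_even_iff_odd.1 hodd)
    rw [← blk_card d] at h1
    exact (Fintype.card_pos_iff.2 ⟨(⟨j, rfl⟩ : Blk d (-1) (d.e j.1))⟩).ne' h1
  obtain ⟨m, R, L, hLR, hRL, hsq⟩ := exists_hyperbolic d (hf.ctx g) hev
  obtain ⟨hr, hsp⟩ := sp_formula hf g hLR hRL
  refine ⟨m, hr, hsp.trans ?_⟩
  set P := ((g : GL (Fin N) F) : Matrix (Fin N) (Fin N) F).charpoly
  have hk : kap P ≠ 0 := (kap_spec (Matrix.charpoly_monic _).ne_zero).2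
  have h1 : (-1 : F) ≠ 0 := neg_ne_zero.2 one_ne_zero
  have hG : (Rᵀ * J * R).det ≠ 0 := by
    intro h0
    rw [h0, mul_zero, quadraticChar_zero] at hsp
    exact (sp hf g).ne_zero hsp
  obtain ⟨t, ht⟩ := hsq
  refine qchar_eq_of_isSquare (mul_ne_zero (mul_ne_zero (mul_ne_zero (pow_ne_zero _ hf.h2) (pow_ne_zero _ h1)) hk) hG)
    (mul_ne_zero (mul_ne_zero (pow_ne_zero _ hf.h2) (pow_ne_zero _ h1)) hk) ?_
  refine ⟨2 ^ N * kap P * ((-1) ^ (N + m) * t), ?_⟩
  have e1 : ((-1 : F) ^ m) * (-1) ^ m = 1 := by rw [← mul_pow, neg_one_mul, neg_neg, one_pow]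
  rw [show N + 2 * m = N + m + m by ring, pow_add _ (N + m) m]
  linear_combination (2 : F) ^ N * 2 ^ N * kap P * kap P * ((-1) ^ (N + m) * (-1) ^ (N + m)) * ht

/-- Changing the value at `-1` of the first level by a non-square changes the spinor norm. -/
theorem sp_mod_ne (hf : Form J) {g g' : orthGroup J} {al al' : F → ℕ → Bool}
    (h : Adm (dataOf (g : GL (Fin N) F)) al N) (h' : Adm (dataOf (g' : GL (Fin N) F)) al' N) {ν : F}
    (hν : ¬ IsSquare ν) {k1 : Fin (N + 1)} (hk1 : k1.1 = 1)
    (hpos : (poly (dataOf (g : GL (Fin N) F)) al 1) ≠ 1)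
    (hU : Unp (enc (dataOf (g : GL (Fin N) F)) al N))
    (he : enc (dataOf (g' : GL (Fin N) F)) al' N = modE ν k1 (enc (dataOf (g : GL (Fin N) F)) al N)) :
    sp hf g ≠ sp hf g' := by
  set E := enc (dataOf (g : GL (Fin N) F)) al N with hE
  obtain ⟨j, hj⟩ := poly_valid h 1
  have hj1 : 1 ≤ j := by
    rcases Nat.eq_zero_or_pos j with rfl | hp
    · exact absurd (hj.1.natDegree_eq_zero.1 (by rw [hj.2.1])) hpos
    · exact hp
  have hEk : (E k1).2 = poly (dataOf (g : GL (Fin N) F)) al 1 := by
    show poly _ al k1.1 = _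
    rw [hk1]
  obtain ⟨hmem, hval⟩ := modP_spec ν hj1 hj
  have hν0 : ν ≠ 0 := fun h0 => hν (h0 ▸ IsSquare.zero)
  have hP1 : (E k1).2.eval (-1) ≠ 0 := (hU k1).2.2 (by rw [hk1]; exact odd_one)
  have hU' : Unp (enc (dataOf (g' : GL (Fin N) F)) al' N) := by
    rw [he]
    intro k
    by_cases hk : k = k1
    · subst hk
      rw [modE, Function.update_self]
      exact ⟨(hU k).1, (hU k).2.1, fun _ => by rw [hEk, hval]; exact mul_ne_zero hν0 (hEk ▸ hP1)⟩
    · rw [modE, Function.update_of_ne hk]; exact hU k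
  obtain ⟨m, hm, hs⟩ := unp_data hf g ((unp_enc_iff h).1 hU)
  obtain ⟨m', hm', hs'⟩ := unp_data hf g' ((unp_enc_iff h').1 hU')
  set R : F[X] := (∏ k ∈ Finset.univ.erase k1, (E k).2 ^ k.1) * ((X - C 1) ^ Pw E * (X - C (-1)) ^ Mw E) with hR
  have hc1 : ((g : GL (Fin N) F) : Matrix (Fin N) (Fin N) F).charpoly = (E k1).2 * R := by
    rw [charpoly_eq_cpoly hf g h, ← hE, cpoly, ← Finset.mul_prod_erase _ _ (Finset.mem_univ k1), hk1, pow_one, hR,
      mul_assoc]
  have hc2 : ((g' : GL (Fin N) F) : Matrix (Fin N) (Fin N) F).charpoly = modP ν (E k1).2 * R := by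
    rw [charpoly_eq_cpoly hf g' h', he, cpoly, ← Finset.mul_prod_erase _ _ (Finset.mem_univ k1), hk1, pow_one,
      show modE ν k1 E k1 = ((E k1).1, modP ν (E k1).2) from Function.update_self .., hR, mul_assoc]
    congr 1
    congr 1
    · exact Finset.prod_congr rfl fun k hk => by rw [modE, Function.update_of_ne (Finset.ne_of_mem_erase hk)]
    · have e1 : ∀ k, (modE ν k1 E k).1 = (E k).1 := by
        intro k
        by_cases hk : k = k1
        · subst hk; rw [modE, Function.update_self]
        · rw [modE, Function.update_of_ne hk]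
      simp only [Pw, Mw, e1]
  have hR0 : R ≠ 0 := fun h0 => (Matrix.charpoly_monic ((g : GL (Fin N) F) : Matrix (Fin N) (Fin N) F)).ne_zero
    (by rw [hc1, h0, mul_zero])
  obtain ⟨hRs, hkR⟩ := kap_spec hR0
  have key : ∀ P : F[X], P.eval (-1) ≠ 0 → (P * R).rootMultiplicity (-1) = R.rootMultiplicity (-1) ∧
      kap (P * R) = P.eval (-1) * kap R := by
    intro P hP
    have := rootMultiplicity_of_eq (P := P * R) (Q := P * awayPoly R) (a := R.rootMultiplicity (-1))
      (by conv_lhs => rw [← hRs]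
          ring) (by rw [eval_mul]; exact mul_ne_zero hP hkR)
    rwa [eval_mul] at this
  have k1' := key _ hP1
  have k2' := key (modP ν (E k1).2) (by rw [hEk, hval]; exact mul_ne_zero hν0 (hEk ▸ hP1))
  rw [hc1, k1'.1] at hm
  rw [hc1, k1'.2] at hs
  rw [hc2, k2'.1] at hm'
  rw [hc2, k2'.2, hEk, hval, ← hEk] at hs'
  obtain rfl : m = m' := by omega
  intro heq
  rw [heq, hs'] at hs
  rw [show 2 ^ N * (-1 : F) ^ (N + m) * (ν * (E k1).2.eval (-1) * kap R) =
    ν * (2 ^ N * (-1) ^ (N + m) * ((E k1).2.eval (-1) * kap R)) by ring, map_mul,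
    quadraticChar_neg_one_iff_not_isSquare.2 hν] at hs
  have hne : (2 : F) ^ N * (-1) ^ (N + m) * ((E k1).2.eval (-1) * kap R) ≠ 0 :=
    mul_ne_zero (mul_ne_zero (pow_ne_zero _ hf.h2) (pow_ne_zero _ (neg_ne_zero.2 one_ne_zero))) (mul_ne_zero hP1 hkR)
  rcases quadraticChar_dichotomy hne with h1 | h1 <;> rw [h1] at hs <;> norm_num at hs

/-- Equal data with flags differing at one block of each sign give different spinor norms. -/
theorem sp_flags_ne (hf : Form J) {g g' : orthGroup J}
    (hD : dataOf (g : GL (Fin N) F) = dataOf (g' : GL (Fin N) F)) {e₀ : ℕ} (he₀ : Odd e₀)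
    (hpos : 0 < mult (dataOf (g : GL (Fin N) F)) (-1) e₀)
    (hdiff : flag J (dataOf (g : GL (Fin N) F)) (sym g) (-1) e₀ ≠
      flag J (dataOf (g' : GL (Fin N) F)) (sym g') (-1) e₀)
    (hsame : ∀ e, e ≠ e₀ → flag J (dataOf (g : GL (Fin N) F)) (sym g) (-1) e =
      flag J (dataOf (g' : GL (Fin N) F)) (sym g') (-1) e) : sp hf g ≠ sp hf g' := by
  set D := dataOf (g : GL (Fin N) F) with hDdef
  set A₀ : Matrix (Fin N) (Fin N) F := ((base J D : GL (Fin N) F) : Matrix (Fin N) (Fin N) F) with hA₀
  have hc : Ctx J A₀ := hf.ctx (base J D)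
  let d : Decomp A₀ := baseDec J D
  have hd0 : d = baseDec J D := rfl
  set e₁ := mIdem A₀ with he₁
  have hee : e₁ * e₁ = e₁ := mIdem_mul_self A₀
  have hade : adj J e₁ = e₁ := adj_mIdem hc
  obtain ⟨r, R, L, hLR, hRL⟩ := exists_factor e₁ hee
  have h2F := hf.h2
  have hm1 : (-1 : F) * -1 = 1 := by norm_num
  set c₀ : F := 2 ^ N * (-1) ^ (N + r) * kap A₀.charpoly * (Rᵀ * J * R).det
  have main : ∀ x : orthGroup J, dataOf (x : GL (Fin N) F) = D → ∃ b : F, b ≠ 0 ∧
      (sp hf x : ℤ) = quadraticChar F (c₀ * b) ∧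
      IsSquare (b * ∏ p ∈ pmBlocks d, (if p.1 = -1 then (rho d p.1 p.2 (sym x)).det else 1) ^ p.2) := by
    intro x hx
    obtain ⟨hu, hs, hcm, -⟩ := sym_props hf x
    have hsp := conjr_spec x
    rw [hx] at hcm hsp
    set P : Matrix (Fin N) (Fin N) F := (conjr x : Matrix (Fin N) (Fin N) F) with hP
    set Pi : Matrix (Fin N) (Fin N) F := ((conjr x)⁻¹ : GL (Fin N) F).1
    have p1 : P * Pi = 1 := (conjr x).mul_inv
    have p2 : Pi * P = 1 := (conjr x).inv_mul
    set A : Matrix (Fin N) (Fin N) F := ((x : GL (Fin N) F) : Matrix (Fin N) (Fin N) F)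
    have hA : A = P * A₀ * Pi := by rw [hsp, mul_assoc, p1, mul_one]
    have hch : A.charpoly = A₀.charpoly := by
      rw [hA, show Pi = P⁻¹ from Matrix.coe_units_inv (conjr x)]; exact Matrix.charpoly_units_conj (conjr x) A₀
    have hev : mIdem A = P * e₁ * Pi := by
      rw [he₁, mIdem, mIdem, hch, hA]
      generalize idPoly A₀.charpoly = f
      induction f using Polynomial.induction_on' with
      | add a b ha hb => rw [map_add, map_add, ha, hb, mul_add, add_mul]
      | monomial k a =>
        rw [aeval_monomial, aeval_monomial, ← Algebra.smul_def, ← Algebra.smul_def, Matrix.mul_smul, Matrix.smul_mul]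
        congr 1
        induction k with
        | zero => rw [pow_zero, pow_zero, mul_one, p1]
        | succ k ih =>
          rw [pow_succ, ih, pow_succ]
          calc P * A₀ ^ k * Pi * (P * A₀ * Pi) = P * A₀ ^ k * (Pi * P) * A₀ * Pi := by simp only [mul_assoc]
            _ = P * (A₀ ^ k * A₀) * Pi := by rw [p2, mul_one]; simp only [mul_assoc]
    obtain ⟨-, hsx⟩ := sp_formula hf x (R := P * R) (L := L * Pi)
      (by rw [Matrix.mul_assoc, ← Matrix.mul_assoc Pi, p2, Matrix.one_mul, hLR])
      (by rw [hev, ← hRL]; simp only [Matrix.mul_assoc])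
    set h := sym x
    have hJe : Rᵀ * J = Rᵀ * J * e₁ := by
      have h1 : e₁ᵀ * J = J * e₁ := by
        calc e₁ᵀ * J = J * adj J e₁ := by
              rw [adj, ← Matrix.mul_assoc, ← Matrix.mul_assoc, Matrix.mul_nonsing_inv _ hc.hJ, Matrix.one_mul]
          _ = J * e₁ := by rw [hade]
      rw [Matrix.mul_assoc, ← h1, ← Matrix.mul_assoc, ← transpose_mul, ← hRL, Matrix.mul_assoc R L R, hLR,
        Matrix.mul_one]
    have hG : (P * R)ᵀ * J * (P * R) = Rᵀ * J * R * (L * h * R) := by
      have h1 : Pᵀ * J * P = J * h := by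
        show Pᵀ * J * P = J * (adj J P * P)
        rw [adj]
        simp only [← Matrix.mul_assoc]
        rw [Matrix.mul_nonsing_inv _ hc.hJ, Matrix.one_mul]
      calc (P * R)ᵀ * J * (P * R) = Rᵀ * (Pᵀ * J * P) * R := by rw [transpose_mul]; simp only [Matrix.mul_assoc]
        _ = Rᵀ * J * e₁ * (h * R) := by rw [h1, ← hJe]; simp only [Matrix.mul_assoc]
        _ = _ := by rw [← hRL]; simp only [Matrix.mul_assoc]
    set h' := h * e₁ + (1 - e₁)
    have hdet : h'.det = (L * h * R).det := by
      have e1 : h' = 1 + ((h - 1) * R) * L := by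
        rw [Matrix.mul_assoc, hRL]; show h * e₁ + (1 - e₁) = _; noncomm_ring
      rw [e1, Matrix.det_one_add_mul_comm, ← Matrix.mul_assoc, Matrix.mul_sub, Matrix.sub_mul, Matrix.mul_one, hLR,
        add_sub_cancel]
    rw [hch, hG, det_mul, ← hdet, ← mul_assoc] at hsx
    have hb : h'.det ≠ 0 := by
      intro h0
      rw [h0, mul_zero, quadraticChar_zero] at hsx
      exact (sp hf x).ne_zero hsx
    refine ⟨h'.det, hb, hsx, ?_⟩
    have heA : Commute e₁ A₀ := (commute_mIdem (Commute.refl A₀)).symm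
    have hhe : Commute h e₁ := commute_mIdem hcm
    have hh'A : Commute h' A₀ := (hcm.mul_left heA).add_left ((Commute.one_left A₀).sub_left heA)
    have hh's : adj J h' = h' := by
      have h1 : adj J (1 - e₁) = 1 - e₁ := by
        have h1 : adj J (1 - e₁) + adj J e₁ = 1 := by rw [← adj_add, sub_add_cancel, adj_one hc.hJ]
        rw [hade] at h1
        exact eq_sub_of_add_eq h1
      rw [adj_add, adj_mul hc.hJ, hade, hs, h1, ← hhe.eq]
    have hu' : IsUnit h' := (Matrix.isUnit_iff_isUnit_det _).2 (isUnit_iff_ne_zero.2 hb)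
    convert isSquare_det_mul_prod d hc hu' hh'A hh's using 3 with p
    have hr : ∀ c k, rho d c k h' = rho d c k h * rho d c k e₁ + (1 - rho d c k e₁) := by
      intro c k
      rw [← rho_one d c k, ← rho_mul d hcm heA, ← rho_sub]
      ext i j
      simp [ClassCountSp.rho, ClassCountSp.E_add, Matrix.toSquareBlock_def, h']
    rcases isEmpty_or_nonempty (Blk d p.1 p.2) with hem | hne
    · congr 1
      split_ifs <;> simp
    · obtain ⟨j⟩ := hne
      obtain ⟨hid1, hid0⟩ := idPoly_at d h2F j.1.1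
      have hrho : rho d p.1 p.2 e₁ = (idPoly A₀.charpoly).eval p.1 • 1 := by rw [he₁, mIdem, rho_aeval]
      have hpos' := (d.item j.1.1).pos
      split_ifs with hp1
      · have h0 : (idPoly A₀.charpoly - 1).eval p.1 = 0 := dvd_iff_isRoot.1 (by
          have := hid1 (by rw [j.1.2, hp1])
          rw [j.1.2] at this
          exact (dvd_pow_self _ (by simp only at hpos'; omega)).trans this)
        rw [eval_sub, eval_one, sub_eq_zero] at h0
        rw [hr, hrho, h0, one_smul, Matrix.mul_one, sub_self, add_zero]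
      · have h0 : (idPoly A₀.charpoly).eval p.1 = 0 := dvd_iff_isRoot.1 (by
          have := hid0 (by
            rw [j.1.2]
            intro h'
            exact hp1 (C_injective (sub_right_injective h')))
          rw [j.1.2] at this
          exact (dvd_pow_self _ (by simp only at hpos'; omega)).trans this)
        rw [hr, hrho, h0, zero_smul, Matrix.mul_zero, sub_zero, zero_add, det_one]
  obtain ⟨b, hb0, hb, hbs⟩ := main g rfl
  obtain ⟨b', hb0', hb', hbs'⟩ := main g' hD.symm
  obtain ⟨hu, hs, hcm, -⟩ := sym_props hf g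
  obtain ⟨hu', hs', hcm', -⟩ := sym_props hf g'
  rw [← hD] at hcm' hsame hdiff
  intro heq
  rw [heq, hb'] at hb
  set w : orthGroup J → F × ℕ → F := fun x p => if p.1 = -1 then (rho d p.1 p.2 (sym x)).det else 1 with hw
  have hwne : ∀ p, w g p ≠ 0 ∧ w g' p ≠ 0 := fun p => by
    simp only [hw]
    split_ifs
    · exact ⟨det_rho_ne d hu hcm p.1 p.2, det_rho_ne d hu' hcm' p.1 p.2⟩
    · exact ⟨one_ne_zero, one_ne_zero⟩
  have hval : ∀ p ∈ pmBlocks d, quadraticChar F (w g p * w g' p) ^ p.2 =
      if p = (-1, e₀) then (-1 : ℤ) else 1 := by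
    intro p _
    by_cases hp1 : p.1 = -1
    · have hr := det_rho_ne d hu hcm p.1 p.2
      have hr' := det_rho_ne d hu' hcm' p.1 p.2
      have hne := mul_ne_zero hr hr'
      simp only [hw, if_pos hp1]
      rcases Nat.eq_zero_or_pos (mult D p.1 p.2) with hm0 | hmpos
      · haveI : IsEmpty (Blk d p.1 p.2) := Fintype.card_eq_zero_iff.1 (by
          rw [blk_card d, hDdef, base_data g, ← hDdef]; exact hm0)
        rw [if_neg (by rintro rfl; simp only at hm0; omega)]
        simp
      rcases Nat.even_or_odd p.2 with he | he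
      · rw [if_neg (by rintro rfl; exact Nat.not_even_iff_odd.2 he₀ he)]
        rcases quadraticChar_dichotomy hne with h1 | h1 <;> simp [h1, he.neg_one_pow]
      · have hodd : quadraticChar F ((rho d p.1 p.2 (sym g)).det * (rho d p.1 p.2 (sym g')).det) ^ p.2 =
            quadraticChar F ((rho d p.1 p.2 (sym g)).det * (rho d p.1 p.2 (sym g')).det) := by
          rcases quadraticChar_dichotomy hne with h1 | h1 <;> simp [h1, he.neg_one_pow]
        rw [hodd]
        have hB : (bB d J p.1 p.2).det ≠ 0 := bB_det_ne d hc (by rw [hp1]; exact hm1) p.2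
        have hq : quadraticChar F ((bB d J p.1 p.2 * rho d p.1 p.2 (sym g)).det) *
            quadraticChar F ((bB d J p.1 p.2 * rho d p.1 p.2 (sym g')).det) =
            quadraticChar F ((rho d p.1 p.2 (sym g)).det * (rho d p.1 p.2 (sym g')).det) := by
          rw [← map_mul, det_mul, det_mul, show (bB d J p.1 p.2).det * (rho d p.1 p.2 (sym g)).det *
            ((bB d J p.1 p.2).det * (rho d p.1 p.2 (sym g')).det) = (bB d J p.1 p.2).det ^ 2 *
              ((rho d p.1 p.2 (sym g)).det * (rho d p.1 p.2 (sym g')).det) by ring, map_mul,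
            quadraticChar_sq_one' hB, one_mul]
        rw [← hq]
        have hz : (bB d J p.1 p.2 * rho d p.1 p.2 (sym g)).det ≠ 0 := by rw [det_mul]; exact mul_ne_zero hB hr
        have hz' : (bB d J p.1 p.2 * rho d p.1 p.2 (sym g')).det ≠ 0 := by rw [det_mul]; exact mul_ne_zero hB hr'
        have hflag : ∀ x : orthGroup J, flag J D (sym x) (-1) p.2 =
            decide (IsSquare (bB d J p.1 p.2 * rho d p.1 p.2 (sym x)).det) := by
          intro x
          rw [hp1] at hmpos ⊢
          simp [flag, he, hmpos]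
          rfl
        by_cases hpe : p = (-1, e₀)
        · rw [if_pos hpe]
          have hd' := hdiff
          rw [show e₀ = p.2 by rw [hpe], hflag, hflag, ne_eq, decide_eq_decide] at hd'
          rcases em (IsSquare (bB d J p.1 p.2 * rho d p.1 p.2 (sym g)).det) with h1 | h1
          · rw [(quadraticChar_one_iff_isSquare hz).2 h1,
              quadraticChar_neg_one_iff_not_isSquare.2 (fun h2 => hd' ⟨fun _ => h2, fun _ => h1⟩), one_mul]
          · rw [quadraticChar_neg_one_iff_not_isSquare.2 h1,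
              (quadraticChar_one_iff_isSquare hz').2
                (by_contra fun h2 => hd' ⟨fun h => absurd h h1, fun h => absurd h h2⟩), mul_one]
        · rw [if_neg hpe]
          have hd' := hsame p.2 (fun h => hpe (Prod.ext hp1 h))
          rw [hflag, hflag, decide_eq_decide] at hd'
          rcases em (IsSquare (bB d J p.1 p.2 * rho d p.1 p.2 (sym g)).det) with h1 | h1
          · rw [(quadraticChar_one_iff_isSquare hz).2 h1, (quadraticChar_one_iff_isSquare hz').2 (hd'.1 h1), one_mul]
          · rw [quadraticChar_neg_one_iff_not_isSquare.2 h1,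
              quadraticChar_neg_one_iff_not_isSquare.2 (fun h2 => h1 (hd'.2 h2))]
            norm_num
    · simp only [hw, if_neg hp1, mul_one, map_one, one_pow]
      rw [if_neg (fun h => hp1 (by rw [h]))]
  have hmem : ((-1 : F), e₀) ∈ pmBlocks d := by
    refine Finset.mem_product.2 ⟨by simp, ?_⟩
    by_contra hk
    haveI : IsEmpty (Blk d (-1) e₀) := ⟨fun i => hk (Finset.mem_image.2 ⟨i.1.1, Finset.mem_univ _, i.2⟩)⟩
    have := blk_card d (-1 : F) e₀
    rw [Fintype.card_eq_zero, hDdef, base_data g, ← hDdef] at this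
    omega
  have h1 : ∏ p ∈ pmBlocks d, quadraticChar F (w g p * w g' p) ^ p.2 = -1 := by
    rw [Finset.prod_congr rfl hval, Finset.prod_ite_eq' _ _ _, if_pos hmem]
  have hprod : ∀ x : orthGroup J, (∀ p, w x p ≠ 0) → ∀ b : F, b ≠ 0 →
      IsSquare (b * ∏ p ∈ pmBlocks d, w x p ^ p.2) →
      quadraticChar F b = ∏ p ∈ pmBlocks d, quadraticChar F (w x p) ^ p.2 := by
    intro x hx b hb hsq
    rw [qchar_eq_of_isSquare hb (Finset.prod_ne_zero_iff.2 fun p _ => pow_ne_zero _ (hx p)) hsq, map_prod]
    exact Finset.prod_congr rfl fun p _ => map_pow _ _ _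
  have h2 : ∏ p ∈ pmBlocks d, quadraticChar F (w g p * w g' p) ^ p.2 =
      quadraticChar F b * quadraticChar F b' := by
    rw [hprod g (fun p => (hwne p).1) b hb0 hbs, hprod g' (fun p => (hwne p).2) b' hb0' hbs', ← Finset.prod_mul_distrib]
    exact Finset.prod_congr rfl fun p _ => by rw [map_mul, mul_pow]
  rw [h1] at h2
  have hc0 : quadraticChar F c₀ ≠ 0 := by
    intro h0
    rw [map_mul, h0, zero_mul] at hb'
    exact (sp hf g').ne_zero hb'
  replace hb : quadraticChar F c₀ * quadraticChar F b' = quadraticChar F c₀ * quadraticChar F b := by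
    rw [← map_mul, ← map_mul]; exact hb
  have hbb : quadraticChar F b' = quadraticChar F b := mul_left_cancel₀ hc0 hb
  rw [hbb] at h2
  have := quadraticChar_sq_one hb0
  rw [sq] at this
  rw [this] at h2
  norm_num at h2

end CfsgLib.ClassCountO
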