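import Cfsg.Agent.ClassCountO.Lower

set_option autoImplicit false
set_option linter.style.haveILetI false

/-!
At least `2 q^n` classes in an orthogonal group of dimension `2 n + 1`.
-/

namespace CfsgLib.ClassCountO

open Polynomial Matrix
open scoped Classical

variable {F : Type*} [Field F] [Fintype F] {N : ℕ} {J : Matrix (Fin N) (Fin N) F}

/-- Every monic polynomial of degree `n` is reached in dimension `2 n + 1`. -/
theorem exists_isometry_odd (hf : Form J) {n : ℕ} (hN : N = 2 * n + 1) (g : F[X]) (hg : g.Monic)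
    (hn : g.natDegree = n) :
    ∃ x : orthGroup J, (((x : GL (Fin N) F) : Matrix (Fin N) (Fin N) F) +
      (((x⁻¹ : orthGroup J) : GL (Fin N) F) : Matrix (Fin N) (Fin N) F)).charpoly = g * g * (X - C 2) := by
  have h2 := hf.h2
  set a := g.rootMultiplicity 2
  obtain ⟨g0, hg0, hg0d⟩ := exists_eq_pow_rootMultiplicity_mul_and_not_dvd g hg.ne_zero 2
  obtain ⟨g1, hg1, hg1d⟩ := exists_eq_pow_rootMultiplicity_mul_and_not_dvd g0
    (fun h => hg.ne_zero (by rw [hg0, h, mul_zero])) (-2)
  set b := g0.rootMultiplicity (-2)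
  have hg0m : g0.Monic := (((monic_X_sub_C (2 : F)).pow _).of_mul_monic_left (hg0 ▸ hg))
  have hg1m : g1.Monic := (((monic_X_sub_C (-2 : F)).pow _).of_mul_monic_left (hg1 ▸ hg0m))
  have hg1a : g1.eval 2 ≠ 0 := fun h => hg0d (by
    rw [hg1]; exact (dvd_iff_isRoot.2 h).mul_left _)
  have hg1b : g1.eval (-2) ≠ 0 := fun h => hg1d (dvd_iff_isRoot.2 h)
  have hdeg : n = a + (b + g1.natDegree) := by
    rw [← hn, hg0, ((monic_X_sub_C (2 : F)).pow _).natDegree_mul hg0m, hg1,
      ((monic_X_sub_C (-2 : F)).pow _).natDegree_mul hg1m, natDegree_pow, natDegree_X_sub_C, mul_one,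
      natDegree_pow, natDegree_X_sub_C, mul_one]
  set m := g1.natDegree
  obtain ⟨B1, x1, y1, hB1, hiso, hxy, hch, s, hs, hdet⟩ := exists_model h2 g1 hg1m (n := m) rfl
  -- the diagonal part, one entry free
  let ι := (Fin (2 * a + 1) ⊕ Fin (2 * b))
  let c : ι → F := fun i => if (finSumFinEquiv i).1 = 0 then B1.det * J.det else 1
  have hB1d : B1.det ≠ 0 := by
    rw [hdet]
    exact mul_ne_zero (mul_ne_zero hs hs) (mul_ne_zero (pow_ne_zero _ (neg_ne_zero.2 one_ne_zero)) (mul_ne_zero hg1a hg1b))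
  have hJ0 : J.det ≠ 0 := hf.hJ.ne_zero
  have hsq : IsSquare (B1.det * (∏ i, c i) * J.det) := by
    obtain ⟨i0, hi0⟩ : ∃ i : ι, (finSumFinEquiv i).1 = 0 :=
      ⟨finSumFinEquiv.symm ⟨0, Nat.succ_pos _ |>.trans_le (by omega : 1 ≤ 2 * a + 1 + 2 * b)⟩, by simp⟩
    have hc : ∏ i, c i = B1.det * J.det := by
      rw [Finset.prod_eq_single i0 (fun i _ hne => if_neg fun h => hne (finSumFinEquiv.injective (Fin.ext (h.trans hi0.symm))))
        (by simp)]
      exact if_pos hi0
    rw [hc]; exact ⟨B1.det * J.det, by ring⟩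
  let x2 : Matrix ι ι F := fromBlocks 1 0 0 (-1)
  let B : Matrix ((Fin m ⊕ Fin m) ⊕ ι) ((Fin m ⊕ Fin m) ⊕ ι) F := fromBlocks B1 0 0 (diagonal c)
  let x : Matrix ((Fin m ⊕ Fin m) ⊕ ι) ((Fin m ⊕ Fin m) ⊕ ι) F := fromBlocks x1 0 0 x2
  let y : Matrix ((Fin m ⊕ Fin m) ⊕ ι) ((Fin m ⊕ Fin m) ⊕ ι) F := fromBlocks y1 0 0 x2
  have hx2 : x2 * x2 = 1 := by
    show fromBlocks 1 0 0 (-1) * fromBlocks 1 0 0 (-1) = 1
    rw [fromBlocks_multiply]
    simp [fromBlocks_one]
  have hx2d : x2 = diagonal (Sum.elim 1 (-1)) := by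
    rw [← fromBlocks_diagonal]
    show fromBlocks (1 : Matrix (Fin (2 * a + 1)) (Fin (2 * a + 1)) F) 0 0 (-1) = _
    congr 1
    rw [← diagonal_one, diagonal_neg]; rfl
  have hxB : xᵀ * B * x = B := by
    simp only [x, B, fromBlocks_transpose, fromBlocks_multiply, transpose_zero, Matrix.zero_mul, Matrix.mul_zero,
      zero_add, add_zero, hiso]
    congr 1
    rw [hx2d, diagonal_transpose, diagonal_mul_diagonal, diagonal_mul_diagonal]
    congr 1; funext i; rcases i with i | i <;> simp
  have hxy' : x * y = 1 := by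
    simp only [x, y, fromBlocks_multiply, Matrix.zero_mul, Matrix.mul_zero, zero_add, add_zero, hxy, hx2]
    exact fromBlocks_one
  have hch' : (x + y).charpoly = g * g * (X - C 2) := by
    have e2 : (x2 + x2).charpoly = (X - C 2) ^ (2 * a + 1) * (X - C (-2)) ^ (2 * b) := by
      rw [hx2d, diagonal_add, charpoly_diagonal, Fintype.prod_sum_type]
      simp [show (1 : F) + 1 = 2 by norm_num, show (-1 : F) + -1 = -2 by norm_num]
    simp only [x, y, fromBlocks_add, add_zero, Matrix.charpoly_fromBlocks_zero₂₁, hch, e2]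
    conv_rhs => rw [hg0, hg1]
    rw [pow_succ, pow_mul, pow_mul, sq, sq, mul_pow, mul_pow]
    ring
  -- transport
  obtain ⟨e⟩ : Nonempty (((Fin m ⊕ Fin m) ⊕ ι) ≃ Fin N) := ⟨Fintype.equivFinOfCardEq (by
    simp [ι, Fintype.card_sum]; omega)⟩
  have hBd : B.det = B1.det * ∏ i, c i := by simp [B]
  have hc0 : ∀ i, c i ≠ 0 := fun i => by
    simp only [c]; split_ifs
    · exact mul_ne_zero hB1d hJ0
    · exact one_ne_zero
  obtain ⟨w, hw⟩ := ClassCountSp.exists_congr_symm h2 (B.submatrix e.symm e.symm) J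
    (by rw [transpose_submatrix]; congr 1; simp [B, fromBlocks_transpose, hB1]) hf.hT
    (by rw [det_submatrix_equiv_self, hBd]; exact mul_ne_zero hB1d (Finset.prod_ne_zero_iff.2 fun i _ => hc0 i))
    hJ0 (by rw [det_submatrix_equiv_self, hBd]; exact hsq)
  have hw0 : w.det ≠ 0 := ClassCountSp.det_ne_of_congr hJ0 hw
  let W' : GL (Fin N) F := Matrix.GeneralLinearGroup.mkOfDetNeZero w hw0
  set x' := x.submatrix e.symm e.symm with hx'
  set y' := y.submatrix e.symm e.symm with hy'
  have hxy2 : x' * y' = 1 := by rw [hx', hy', submatrix_mul_equiv, hxy', submatrix_one_equiv]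
  let u : GL (Fin N) F := ⟨x', y', hxy2, mul_eq_one_comm.1 hxy2⟩
  let v : GL (Fin N) F := W'⁻¹ * u * W'
  have hwi : (w : Matrix (Fin N) (Fin N) F) * (↑W'⁻¹ : Matrix (Fin N) (Fin N) F) = 1 := W'.mul_inv
  have hv : v ∈ orthGroup J := by
    show ((↑W'⁻¹ : Matrix (Fin N) (Fin N) F) * x' * w)ᵀ * J * ((↑W'⁻¹ : Matrix (Fin N) (Fin N) F) * x' * w) = J
    conv_rhs => rw [← hw]
    conv_lhs => rw [← hw]
    have hx'B : x'ᵀ * B.submatrix e.symm e.symm * x' = B.submatrix e.symm e.symm := by
      rw [hx', transpose_submatrix, submatrix_mul_equiv, submatrix_mul_equiv, hxB]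
    calc ((↑W'⁻¹ : Matrix (Fin N) (Fin N) F) * x' * w)ᵀ * (wᵀ * B.submatrix e.symm e.symm * w) *
          ((↑W'⁻¹ : Matrix (Fin N) (Fin N) F) * x' * w)
        = wᵀ * (x'ᵀ * ((w * (↑W'⁻¹ : Matrix (Fin N) (Fin N) F))ᵀ * B.submatrix e.symm e.symm *
            (w * (↑W'⁻¹ : Matrix (Fin N) (Fin N) F))) * x') * w := by
          simp only [transpose_mul, mul_assoc]
      _ = _ := by rw [hwi, transpose_one, one_mul, mul_one, hx'B]
  refine ⟨⟨v, hv⟩, ?_⟩
  show ((v : Matrix (Fin N) (Fin N) F) + ((v⁻¹ : GL (Fin N) F) : Matrix (Fin N) (Fin N) F)).charpoly = _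
  simp only [v, _root_.mul_inv_rev, inv_inv, Units.val_mul]
  rw [← mul_assoc _ (↑u⁻¹ : Matrix (Fin N) (Fin N) F), ← add_mul, ← mul_add, Matrix.charpoly_mul_comm, ← mul_assoc]
  show (w * (↑W'⁻¹ : Matrix (Fin N) (Fin N) F) * (x' + y')).charpoly = _
  rw [hwi, one_mul, hx', hy']
  show ((x + y).submatrix e.symm e.symm).charpoly = _
  exact (Matrix.charpoly_reindex e (x + y)).trans hch'

/-- `2 q^n ≤ k(O(J))` in dimension `2 n + 1`. -/
theorem card_lower_odd (hf : Form J) {n : ℕ} (hN : N = 2 * n + 1) :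
    2 * Fintype.card F ^ n ≤ Nat.card (ConjClasses (orthGroup J)) := by
  have h2 := hf.h2
  haveI : Finite (ConjClasses (orthGroup J)) := Finite.of_surjective _ ConjClasses.mk_surjective
  let pol : (Fin n → F) → F[X] := fun a => X ^ n + ((degreeLTEquiv F n).symm a : F[X])
  have hlt : ∀ a, ((degreeLTEquiv F n).symm a : F[X]).degree < (n : WithBot ℕ) := fun a =>
    mem_degreeLT.1 ((degreeLTEquiv F n).symm a).2
  have hmon : ∀ a, (pol a).Monic := fun a => monic_X_pow_add (hlt a)
  have hdeg : ∀ a, (pol a).natDegree = n := by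
    intro a
    refine natDegree_eq_of_degree_eq_some ?_
    rw [degree_add_eq_left_of_degree_lt (by rw [degree_X_pow]; exact hlt a), degree_X_pow]
  choose x hx using fun a => exists_isometry_odd hf hN (pol a) (hmon a) (hdeg a)
  let S : orthGroup J → Matrix (Fin N) (Fin N) F := fun y =>
    ((y : GL (Fin N) F) : Matrix (Fin N) (Fin N) F) + ((y⁻¹ : orthGroup J) : GL (Fin N) F).1
  have hinv : ∀ y z : orthGroup J, IsConj y z → (S y).charpoly = (S z).charpoly := by
    intro y z e
    obtain ⟨c, rfl⟩ := isConj_iff.1 e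
    simp only [S, _root_.mul_inv_rev, inv_inv, ← mul_assoc c]
    simp only [Subgroup.coe_mul, Units.val_mul]
    rw [← add_mul, ← mul_add, Matrix.charpoly_mul_comm, ← mul_assoc, ← Units.val_mul, ← Subgroup.coe_mul,
      inv_mul_cancel, Subgroup.coe_one, Units.val_one, one_mul]
  let neg : orthGroup J → orthGroup J := fun y => ⟨-(y : GL (Fin N) F), by
    show ((-(y : GL (Fin N) F) : GL (Fin N) F) : Matrix (Fin N) (Fin N) F)ᵀ * J *
      ((-(y : GL (Fin N) F) : GL (Fin N) F) : Matrix (Fin N) (Fin N) F) = J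
    simp only [Units.val_neg, transpose_neg, Matrix.neg_mul, Matrix.mul_neg, neg_neg]
    exact y.2⟩
  have hneg : ∀ y, S (neg y) = -S y := fun y => by
    show ((-(y : GL (Fin N) F) : GL (Fin N) F) : Matrix (Fin N) (Fin N) F) +
      ((-(y : GL (Fin N) F) : GL (Fin N) F)⁻¹ : GL (Fin N) F).1 = _
    simp only [inv_neg, Units.val_neg, S, Subgroup.coe_inv]
    abel
  have hnn : ∀ a b : Fin n → F, pol a * pol a * (X - C 2) = pol b * pol b * (X - C 2) → a = b := by
    intro a b h
    rcases mul_self_eq_mul_self_iff.1 (mul_right_cancel₀ (X_sub_C_ne_zero (2 : F)) h) with h | h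
    · exact (degreeLTEquiv F n).symm.injective (Subtype.ext (add_left_cancel h))
    · exfalso
      have := congrArg Polynomial.leadingCoeff h
      rw [leadingCoeff_neg, (hmon a).leadingCoeff, (hmon b).leadingCoeff] at this
      exact h2 (by linear_combination this)
  have hne : ∀ a b, (S (x a)).charpoly ≠ (S (neg (x b))).charpoly := by
    intro a b h
    have h' : ((S (x a)).charpoly).rootMultiplicity 2 = ((S (neg (x b))).charpoly).rootMultiplicity 2 := by rw [h]
    have hc : (-(S (x b))).charpoly = (-1) ^ N * ((S (x b)).charpoly).comp (-X) := by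
      rw [Matrix.charpoly, Matrix.charpoly]
      have hm : (charmatrix (-(S (x b)))) = -((charmatrix (S (x b))).map fun p => p.comp (-X)) := by
        ext i j
        rcases eq_or_ne i j with rfl | hij
        · simp [charmatrix_apply_eq]; ring
        · simp [charmatrix_apply_ne _ _ _ hij]
      rw [hm, det_neg, Fintype.card_fin]
      congr 1
      exact (RingHom.map_det (compRingHom (-X : F[X])) (charmatrix (S (x b)))).symm
    rw [hneg, hc] at h'
    simp only [S, hx] at h'
    have hn22 : (-2 : F) ≠ 2 := fun h => by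
      have h4 : (2 : F) * 2 = 0 := by linear_combination -h
      exact (mul_self_eq_zero.1 h4 |> h2)
    have hev : ∀ P : F[X], P ≠ 0 → Even ((P * P).rootMultiplicity 2) := fun P hP => by
      rw [rootMultiplicity_mul (mul_ne_zero hP hP)]; exact ⟨_, rfl⟩
    have p0 : ∀ a, pol a ≠ 0 := fun a => (hmon a).ne_zero
    have q0 : ∀ a, (pol a).comp (-X) ≠ 0 := fun a h0 => by
      rcases comp_eq_zero_iff.1 h0 with h0 | ⟨-, h0⟩
      · exact p0 a h0
      · have := congrArg (fun p : F[X] => p.coeff 1) h0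
        simp at this
    have e1 : (pol a * pol a * (X - C 2)).rootMultiplicity 2 = (pol a * pol a).rootMultiplicity 2 + 1 := by
      rw [rootMultiplicity_mul (mul_ne_zero (mul_ne_zero (p0 a) (p0 a)) (X_sub_C_ne_zero _)),
        rootMultiplicity_X_sub_C_self]
    have e2 : ((-1 : F[X]) ^ N * (pol b * pol b * (X - C 2)).comp (-X)).rootMultiplicity 2 =
        ((pol b).comp (-X) * (pol b).comp (-X)).rootMultiplicity 2 := by
      have e : (-1 : F[X]) ^ N * (pol b * pol b * (X - C 2)).comp (-X) =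
          (pol b).comp (-X) * (pol b).comp (-X) * (C ((-1 : F) ^ N) * (-(X + C 2))) := by
        rw [mul_comp, mul_comp, sub_comp, X_comp, C_comp, map_pow, map_neg, map_one]; ring
      have hev2 : (C ((-1 : F) ^ N) * (-(X + C 2))).eval 2 ≠ 0 := by
        rw [eval_mul, eval_C, eval_neg, eval_add, eval_X, eval_C]
        refine mul_ne_zero (pow_ne_zero _ (neg_ne_zero.2 one_ne_zero)) (neg_ne_zero.2 fun h => hn22 ?_)
        linear_combination -h
      rw [e, rootMultiplicity_mul (mul_ne_zero (mul_ne_zero (q0 b) (q0 b)) (fun h0 => hev2 (by rw [h0, eval_zero]))),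
        rootMultiplicity_eq_zero hev2, add_zero]
    rw [e1, e2] at h'
    have := hev _ (q0 b)
    rw [← h'] at this
    exact Nat.even_add_one.1 this (hev _ (p0 a))
  let f : (Fin n → F) × Bool → ConjClasses (orthGroup J) := fun p =>
    ConjClasses.mk (if p.2 then x p.1 else neg (x p.1))
  have hinj : Function.Injective f := by
    rintro ⟨a, t⟩ ⟨b, u⟩ e
    have h := hinv _ _ (ConjClasses.mk_eq_mk_iff_isConj.1 e)
    cases t <;> cases u <;> simp only [if_true, if_false, Bool.false_eq_true] at h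
    · have e' := ConjClasses.mk_eq_mk_iff_isConj.1 e
      simp only [Bool.false_eq_true, if_false] at e'
      have h' : IsConj (x a) (x b) := by
        obtain ⟨c, hc⟩ := isConj_iff.1 e'
        refine isConj_iff.2 ⟨c, ?_⟩
        have := congrArg neg hc
        have hn : ∀ y, neg (neg y) = y := fun y => Subtype.ext (neg_neg _)
        rw [hn] at this
        rw [← this]
        apply Subtype.ext
        show (c : GL (Fin N) F) * (x a : GL (Fin N) F) * (c : GL (Fin N) F)⁻¹ =
          -((c : GL (Fin N) F) * -(x a : GL (Fin N) F) * (c : GL (Fin N) F)⁻¹)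
        simp only [mul_neg, neg_mul, neg_neg]
      have h'' := hinv _ _ h'
      simp only [S, hx] at h''
      rw [hnn a b h'']
    · exact absurd h.symm (hne b a)
    · exact absurd h (hne a b)
    · simp only [S, hx] at h
      rw [hnn a b h]
  have h5 := Nat.card_le_card_of_injective f hinj
  rw [Nat.card_prod, Nat.card_fun, Nat.card_fin, Nat.card_eq_fintype_card, Nat.card_eq_fintype_card (α := Bool),
    Fintype.card_bool, mul_comm] at h5
  exact h5

end CfsgLib.ClassCountO
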