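import Cfsg.Agent.ClassCountO.OddCount
import Cfsg.Agent.ClassCountO.OddLower
import Cfsg.Agent.S4200

set_option autoImplicit false
set_option linter.style.haveILetI false

/-!
Class number bounds for the spinor kernel of the standard form in odd dimension.
-/

namespace CfsgLib.ClassCountO

open Matrix
open scoped Classical

variable {F : Type*} [Field F]

theorem card_classes_commutator_congr {G H : Type*} [Group G] [Group H] (ψ : G ≃* H) :
    Nat.card (ConjClasses (commutator G)) = Nat.card (ConjClasses (commutator H)) := by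
  have hmap : (commutator G).map ψ.toMonoidHom = commutator H := by
    rw [commutator_def, commutator_def, Subgroup.map_commutator,
      Subgroup.map_top_of_surjective ψ.toMonoidHom ψ.surjective]
  let θ := ((commutator G).equivMapOfInjective ψ.toMonoidHom ψ.injective).trans (MulEquiv.subgroupCongr hmap)
  refine Nat.card_congr (Equiv.ofBijective (ConjClasses.map θ.toMonoidHom) ⟨?_, ?_⟩)
  · intro a b hab
    obtain ⟨a, rfl⟩ := ConjClasses.mk_surjective a
    obtain ⟨b, rfl⟩ := ConjClasses.mk_surjective b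
    obtain ⟨c, hc⟩ := isConj_iff.1 (ConjClasses.mk_eq_mk_iff_isConj.1 hab)
    refine ConjClasses.mk_eq_mk_iff_isConj.2 (isConj_iff.2 ⟨θ.symm c, θ.injective ?_⟩)
    simp only [map_mul, map_inv, MulEquiv.apply_symm_apply]
    exact hc
  · exact ConjClasses.map_surjective θ.surjective

/-- The matrix of `x₀² + Σ xᵢ yᵢ`. -/
def sOdd (F : Type*) [Field F] (m : ℕ) : Matrix (Unit ⊕ (Fin m ⊕ Fin m)) (Unit ⊕ (Fin m ⊕ Fin m)) F :=
  fromBlocks 1 0 0 (sPlus F m)

theorem quadFormOdd_eq (m : ℕ) (v : Unit ⊕ (Fin m ⊕ Fin m) → F) :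
    Cfsg.quadFormOdd m F v = v ⬝ᵥ sOdd F m *ᵥ v := by
  have h := quadFormPlus_eq m (v ∘ Sum.inr)
  rw [sOdd, fromBlocks_mulVec, dotProduct, Fintype.sum_sum_type]
  simp only [zero_mulVec, add_zero, zero_add, Sum.elim_inl, Sum.elim_inr, Fintype.sum_unique, one_mulVec]
  rw [dotProduct] at h
  simp only [Cfsg.quadFormPlus, Function.comp_apply] at h
  rw [Cfsg.quadFormOdd, h]
  simp [sq]

theorem det_odd_ne (h2 : (2 : F) ≠ 0) (m : ℕ) : (sOdd F m + (sOdd F m)ᵀ).det ≠ 0 := by
  rw [sOdd, fromBlocks_transpose, fromBlocks_add, transpose_zero, transpose_zero, add_zero, add_zero,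
    det_fromBlocks_zero₂₁]
  refine mul_ne_zero ?_ (det_plus_ne m)
  rw [det_unique, transpose_one, Matrix.add_apply, one_apply_eq]
  rwa [one_add_one_eq_two]

/-- The isometry group in matrix terms, as an isomorphism. -/
theorem exists_equiv {ι : Type} [Fintype ι] [DecidableEq ι] (h2 : (2 : F) ≠ 0) (Q : (ι → F) → F)
    (S : Matrix ι ι F) (hQ : ∀ v, Q v = v ⬝ᵥ S *ᵥ v) {N : ℕ} (e : ι ≃ Fin N) :
    Nonempty (Cfsg.isometryGroup F Q ≃* orthGroup ((S + Sᵀ).submatrix e.symm e.symm)) := by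
  let φ : GL ι F ≃* GL (Fin N) F := Units.mapEquiv (Matrix.reindexAlgEquiv F F e).toMulEquiv
  have hmap : (Cfsg.isometryGroup F Q).map φ.toMonoidHom = orthGroup ((S + Sᵀ).submatrix e.symm e.symm) := by
    ext g
    obtain ⟨g, rfl⟩ := φ.surjective g
    rw [Subgroup.mem_map_equiv, MulEquiv.symm_apply_apply, mem_iff_gram h2 Q S hQ]
    show _ ↔ ((g : Matrix ι ι F).submatrix e.symm e.symm)ᵀ * _ * (g : Matrix ι ι F).submatrix e.symm e.symm = _
    rw [transpose_submatrix, submatrix_mul_equiv, submatrix_mul_equiv]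
    exact (Equiv.injective (Matrix.reindex e e)).eq_iff.symm
  exact ⟨((Cfsg.isometryGroup F Q).equivMapOfInjective φ.toMonoidHom φ.injective).trans
    (MulEquiv.subgroupCongr hmap)⟩

variable [Fintype F]

/-- `q^n / 2 ≤ k(Ω_{2n+1}(q)) ≤ 7.3 q^n`. -/
theorem bounds_odd (h2 : (2 : F) ≠ 0) (hq : 3 ≤ Fintype.card F) {n : ℕ} (hn : 2 ≤ n) :
    Fintype.card F ^ n ≤ 2 * Nat.card (ConjClasses ↥(Cfsg.Omega F (Cfsg.quadFormOdd n F))) ∧
      10 * Nat.card (ConjClasses ↥(Cfsg.Omega F (Cfsg.quadFormOdd n F))) ≤ 73 * Fintype.card F ^ n := by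
  have hcard : Fintype.card (Unit ⊕ (Fin n ⊕ Fin n)) = 2 * n + 1 := by simp; omega
  let e := Fintype.equivFinOfCardEq hcard
  have hf := form_of_det h2 (sOdd F n) e (det_odd_ne h2 n)
  have hO := card_classes_eq h2 _ (sOdd F n) (quadFormOdd_eq n) e
  obtain ⟨ψ⟩ := exists_equiv h2 _ (sOdd F n) (quadFormOdd_eq n) e
  constructor
  · have hidx : (Cfsg.Omega F (Cfsg.quadFormOdd n F)).index = 4 := by
      rw [← StdForms.coe_oddQ]
      exact Forms.index_omega_odd h2 (StdForms.oddQ_nondegenerate h2 n) (by rw [hcard]; omega)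
    have h1 := card_lower_odd hf (n := n) rfl
    have h4 := (Cfsg.Agent.S4200.result (Cfsg.Omega F (Cfsg.quadFormOdd n F))).2.1
    rw [hO, hidx] at h4
    omega
  · have h1 := four_mul_card_le hf (N := 2 * n + 1) ⟨n, rfl⟩
    rw [← card_classes_commutator_congr ψ, Nat.add_sub_cancel] at h1
    have h3 := W_add_Z_le hq n
    show 10 * Nat.card (ConjClasses (commutator (Cfsg.isometryGroup F (Cfsg.quadFormOdd n F)))) ≤ _
    omega

end CfsgLib.ClassCountO
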