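import Cfsg.Agent.ClassCountO.Transfer
import Cfsg.Agent.Forms.OrthIndex
import Cfsg.Agent.Spinor.StdForms

set_option autoImplicit false
set_option linter.style.haveILetI false

/-!
The spinor norm on the isometry group of a symmetric matrix: it is the class of `det G · det (1 - g)` on a
subspace with Gram matrix `G` carrying all of `1 - g`, whenever `1 - g` is invertible there.
-/

namespace CfsgLib.ClassCountO

open Matrix CfsgLib.InvNorm
open scoped Classical

variable {F : Type*} [Field F] {N : ℕ} {J : Matrix (Fin N) (Fin N) F}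

/-- The quadratic form `v ↦ vᵀ J v / 2`. -/
noncomputable def qf (J : Matrix (Fin N) (Fin N) F) : QuadraticForm F (Fin N → F) :=
  LinearMap.BilinMap.toQuadraticMap (Matrix.toLinearMap₂' F ((2 : F)⁻¹ • J))

theorem qf_apply (v : Fin N → F) : qf J v = v ⬝ᵥ ((2 : F)⁻¹ • J) *ᵥ v := by
  simp [qf, Matrix.toLinearMap₂'_apply', LinearMap.BilinMap.toQuadraticMap_apply, smul_mulVec]

theorem qf_polar (hf : Form J) (v w : Fin N → F) : QuadraticMap.polar (⇑(qf J)) v w = v ⬝ᵥ J *ᵥ w := by
  have hs : w ⬝ᵥ J *ᵥ v = v ⬝ᵥ J *ᵥ w := by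
    rw [dotProduct_mulVec, ← mulVec_transpose, hf.hT, dotProduct_comm]
  simp only [qf, LinearMap.BilinMap.polar_toQuadraticMap, Matrix.toLinearMap₂'_apply', smul_mulVec,
    dotProduct_smul, smul_eq_mul, hs]
  rw [← add_mul, ← two_mul, mul_inv_cancel₀ hf.h2, one_mul]

theorem qf_nondeg (hf : Form J) : (QuadraticMap.polarBilin (qf J)).Nondegenerate := by
  refine StdForms.nondegenerate_of_sep (qf J) fun x hx => ?_
  have h1 : x ᵥ* J = 0 := by
    funext j
    have := hx (Pi.single j 1)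
    rw [qf_polar hf, dotProduct_mulVec, dotProduct_single, mul_one] at this
    exact this
  by_contra hne
  exact hf.hJ.ne_zero (Matrix.exists_vecMul_eq_zero_iff.1 ⟨x, hne, h1⟩)

theorem refl_qf (hf : Form J) (v : Fin N → F) : Cfsg.reflectionMatrix (⇑(qf J)) v =
    1 - (qf J v)⁻¹ • (replicateCol Unit v * (replicateCol Unit v)ᵀ * J) := by
  rw [Cfsg.reflectionMatrix, Matrix.mul_assoc]
  congr 2
  ext i j
  rw [Matrix.mul_apply, Fintype.sum_unique, vecMulVec_apply, Cfsg.polarVec, qf_polar hf, mulVec_single_one]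
  simp [dotProduct, Matrix.mul_apply]

theorem iso_eq (hf : Form J) : Cfsg.isometryGroup F ⇑(qf J) = orthGroup J := by
  ext g
  rw [mem_iff_gram hf.h2 (⇑(qf J)) ((2 : F)⁻¹ • J) qf_apply g, transpose_smul, hf.hT, ← add_smul, ← two_mul,
    mul_inv_cancel₀ hf.h2, one_smul]
  rfl

/-- The two descriptions of the group. -/
noncomputable def isoEquiv (hf : Form J) : orthGroup J ≃* Cfsg.isometryGroup F ⇑(qf J) :=
  MulEquiv.subgroupCongr (iso_eq hf).symm

theorem isoEquiv_mat (hf : Form J) (g : orthGroup J) :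
    Spinor.mat (qf J) (isoEquiv hf g) = ((g : GL (Fin N) F) : Matrix (Fin N) (Fin N) F) := rfl

theorem exists_refls (hf : Form J) (g : Cfsg.isometryGroup F ⇑(qf J)) : ∃ vs, Spinor.IsReflProd (qf J) g vs :=
  Spinor.exists_isReflProd hf.h2 (qf_nondeg hf) g

variable [Fintype F]

/-- The spinor norm. -/
noncomputable def sp (hf : Form J) : orthGroup J →* ℤˣ :=
  (Forms.spinHom (qf_nondeg hf) (exists_refls hf)).comp (isoEquiv hf).toMonoidHom

theorem mem_commutator_congr {G : Type*} [Group G] {H K : Subgroup G} (h : H = K) (g : H) :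
    g ∈ commutator H ↔ MulEquiv.subgroupCongr h g ∈ commutator K := by
  subst h
  exact Iff.rfl

theorem det_eq_parity (hf : Form J) (g : orthGroup J) :
    ((g : GL (Fin N) F) : Matrix (Fin N) (Fin N) F).det =
      ((Forms.parityHom (qf_nondeg hf) (exists_refls hf) (isoEquiv hf g) : ℤ) : F) := by
  obtain ⟨vs, hvs⟩ := exists_refls hf (isoEquiv hf g)
  rw [Forms.parityHom_eq _ _ hvs, ← isoEquiv_mat hf g, hvs.2]
  have hv0 := hvs.1
  clear hvs
  induction vs with
  | nil => simp
  | cons v vs ih =>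
    rw [List.map_cons, List.prod_cons, det_mul, ih (fun u hu => hv0 u (List.mem_cons_of_mem _ hu)), List.length_cons,
      pow_succ', Units.val_mul, Units.val_neg, Units.val_one, Int.cast_mul, Int.cast_neg, Int.cast_one]
    congr 1
    have hv := hv0 v List.mem_cons_self
    rw [refl_qf hf, sub_eq_add_neg, ← neg_smul, Matrix.mul_assoc, ← Matrix.smul_mul,
      Matrix.det_one_add_mul_comm, Matrix.mul_smul, det_unique]
    simp only [Matrix.add_apply, Matrix.one_apply_eq, Matrix.smul_apply, smul_eq_mul]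
    have hq : ((replicateCol Unit v)ᵀ * J * replicateCol Unit v) (default : Unit) default = 2 * qf J v := by
      rw [qf_apply, Matrix.mul_assoc, smul_mulVec, dotProduct_smul, smul_eq_mul, ← mul_assoc,
        mul_inv_cancel₀ hf.h2, one_mul]
      simp [Matrix.mul_apply, dotProduct, Matrix.mulVec]
    rw [hq]
    field_simp
    ring

/-- The commutator subgroup. -/
theorem mem_commutator_iff (hf : Form J) (g : orthGroup J) :
    g ∈ commutator (orthGroup J) ↔
      ((g : GL (Fin N) F) : Matrix (Fin N) (Fin N) F).det = 1 ∧ sp hf g = 1 := by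
  rw [mem_commutator_congr (iso_eq hf).symm g, det_eq_parity hf g]
  show isoEquiv hf g ∈ Cfsg.Omega F ⇑(qf J) ↔ _
  rw [Forms.omega_eq_ker (qf_nondeg hf) (exists_refls hf) hf.h2, MonoidHom.mem_ker, MonoidHom.prod_apply,
    Prod.mk_eq_one]
  refine and_congr ?_ Iff.rfl
  rcases Int.units_eq_one_or (Forms.parityHom (qf_nondeg hf) (exists_refls hf) (isoEquiv hf g)) with h | h
  · simp [h]
  · simp [h]
    intro hh
    exact hf.h2 (by linear_combination -hh)

omit [Fintype F] in
/-- A product of reflections as `1 - M W⁻¹ Mᵀ J` with `W + Wᵀ = Mᵀ J M`. -/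
theorem exists_wall (hf : Form J) : ∀ vs : List (Fin N → F), (∀ v ∈ vs, qf J v ≠ 0) →
    ∃ (ι : Type) (_ : Fintype ι) (_ : DecidableEq ι) (M : Matrix (Fin N) ι F) (W : Matrix ι ι F),
      W.det = (vs.map fun v => qf J v).prod ∧ W + Wᵀ = Mᵀ * J * M ∧
        (vs.map fun v => Cfsg.reflectionMatrix (⇑(qf J)) v).prod = 1 - M * W⁻¹ * Mᵀ * J := by
  intro vs
  induction vs with
  | nil => exact fun _ => ⟨Fin 0, inferInstance, inferInstance, 0, 0, by simp, by simp [Subsingleton.elim _ (0 : Matrix (Fin 0) (Fin 0) F)], by simp⟩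
  | cons v vs ih =>
    intro hv0
    obtain ⟨ι, _, _, M, W, hW, hWT, hprod⟩ := ih fun u hu => hv0 u (List.mem_cons_of_mem _ hu)
    have hv := hv0 v List.mem_cons_self
    set c := replicateCol Unit v with hc
    set a := qf J v with ha
    have hWu : IsUnit W.det := isUnit_iff_ne_zero.2 (by
      rw [hW]
      exact Spinor.prod_quad_ne_zero fun u hu => hv0 u (List.mem_cons_of_mem _ hu))
    have hcc : cᵀ * J * c = (2 * a) • (1 : Matrix Unit Unit F) := by
      ext i j
      rw [ha, qf_apply, smul_mulVec, dotProduct_smul, smul_eq_mul, ← mul_assoc, mul_inv_cancel₀ hf.h2, one_mul,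
        Matrix.mul_assoc]
      simp [hc, Matrix.mul_apply, dotProduct, Matrix.mulVec]
    refine ⟨Unit ⊕ ι, inferInstance, inferInstance, fromCols c M,
      fromBlocks (a • (1 : Matrix Unit Unit F)) (cᵀ * J * M) 0 W, ?_, ?_, ?_⟩
    · rw [det_fromBlocks_zero₂₁, hW, List.map_cons, List.prod_cons, det_smul, det_one, Fintype.card_unit, pow_one,
        mul_one]
    · rw [fromBlocks_transpose, fromBlocks_add, transpose_zero, add_zero, zero_add, hWT, transpose_fromCols,
        fromRows_mul, fromRows_mul_fromCols, hcc, transpose_smul, transpose_one, ← add_smul, ← two_mul]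
      simp only [transpose_mul, transpose_transpose, hf.hT, Matrix.mul_assoc]
    · have hinv : (fromBlocks (a • (1 : Matrix Unit Unit F)) (cᵀ * J * M) 0 W)⁻¹ =
          fromBlocks (a⁻¹ • (1 : Matrix Unit Unit F)) (-(a⁻¹ • (cᵀ * J * M * W⁻¹))) 0 W⁻¹ := by
        refine Matrix.inv_eq_right_inv ?_
        rw [fromBlocks_multiply]
        simp only [Matrix.zero_mul, Matrix.mul_zero, add_zero, zero_add, Matrix.mul_nonsing_inv _ hWu,
          Matrix.smul_mul, Matrix.mul_smul, Matrix.one_mul, Matrix.mul_one, smul_smul, smul_neg,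
          mul_inv_cancel₀ hv, inv_mul_cancel₀ hv, one_smul, neg_add_cancel, smul_zero, fromBlocks_one]
      rw [hinv, List.map_cons, List.prod_cons, hprod, refl_qf hf, ← hc, ← ha, transpose_fromCols,
        fromCols_mul_fromBlocks, fromCols_mul_fromRows]
      simp only [Matrix.mul_zero, add_zero, Matrix.smul_mul, Matrix.mul_smul, Matrix.one_mul, Matrix.mul_one,
        Matrix.mul_neg, Matrix.neg_mul, Matrix.add_mul, Matrix.sub_mul, Matrix.mul_sub, Matrix.mul_assoc]
      abel

theorem qchar_eq_of_isSquare {a b : F} (ha : a ≠ 0) (hb : b ≠ 0) (h : IsSquare (a * b)) :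
    quadraticChar F a = quadraticChar F b := by
  have h1 := (quadraticChar_one_iff_isSquare (mul_ne_zero ha hb)).2 h
  rw [map_mul] at h1
  rcases quadraticChar_dichotomy ha with ha' | ha' <;> rcases quadraticChar_dichotomy hb with hb' | hb' <;>
    rw [ha', hb'] at h1 ⊢ <;> norm_num at h1

/-- The spinor norm of an element living on the image of the idempotent `R L`. -/
theorem sp_eq (hf : Form J) (g : orthGroup J) {r : ℕ} {R : Matrix (Fin N) (Fin r) F}
    {L : Matrix (Fin r) (Fin N) F} (hLR : L * R = 1) (hadj : adj J (R * L) = R * L)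
    {D : Matrix (Fin N) (Fin N) F} (hD : D = 1 - ((g : GL (Fin N) F) : Matrix (Fin N) (Fin N) F))
    (h1 : R * L * D = D) (h2 : D * (R * L) = D) (hd : (L * D * R).det ≠ 0) :
    (sp hf g : ℤ) = quadraticChar F ((L * D * R).det * (Rᵀ * J * R).det) := by
  obtain ⟨vs, hvs⟩ := exists_refls hf (isoEquiv hf g)
  obtain ⟨ι, _, _, M, W, hW, hWT, hprod⟩ := exists_wall hf vs hvs.1
  have hJ := hf.hJ
  set e := R * L with he
  have hee : e * e = e := by rw [he, Matrix.mul_assoc, ← Matrix.mul_assoc L, hLR, Matrix.one_mul]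
  have hD' : D = M * W⁻¹ * Mᵀ * J := by
    rw [hD, ← isoEquiv_mat hf g, hvs.2, hprod, sub_sub_cancel]
  have hWne : W.det ≠ 0 := hW ▸ Spinor.prod_quad_ne_zero hvs.1
  have hJe : eᵀ * J = J * e := by
    calc eᵀ * J = J * adj J e := by rw [adj, ← Matrix.mul_assoc, ← Matrix.mul_assoc, Matrix.mul_nonsing_inv _ hJ, Matrix.one_mul]
      _ = J * e := by rw [hadj]
  set G := Rᵀ * J * R with hG
  set Gi := L * J⁻¹ * Lᵀ with hGi
  have hGGi : G * Gi = 1 := by
    calc G * Gi = Rᵀ * (J * e) * J⁻¹ * Lᵀ := by simp only [hG, hGi, he, Matrix.mul_assoc]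
      _ = Rᵀ * eᵀ * (J * J⁻¹) * Lᵀ := by rw [← hJe]; simp only [Matrix.mul_assoc]
      _ = 1 := by
        rw [Matrix.mul_nonsing_inv _ hJ, Matrix.mul_one, ← transpose_mul, ← transpose_mul, ← transpose_one]
        congr 1
        rw [he, Matrix.mul_assoc, hLR, Matrix.mul_one, hLR]
  have hRG : R * Gi * Rᵀ * J = e := by
    calc R * Gi * Rᵀ * J = e * J⁻¹ * (eᵀ * J) := by simp only [hGi, he, transpose_mul, Matrix.mul_assoc]
      _ = e * (J⁻¹ * J) * e := by rw [hJe]; simp only [Matrix.mul_assoc]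
      _ = e := by rw [Matrix.nonsing_inv_mul _ hJ, Matrix.mul_one, hee]
  set e' := 1 - e with he'
  have hJe' : e'ᵀ * J = J * e' := by
    rw [he', transpose_sub, transpose_one, Matrix.sub_mul, hJe, Matrix.mul_sub, Matrix.one_mul, Matrix.mul_one]
  have he'D : e' * D = 0 := by rw [he', Matrix.sub_mul, Matrix.one_mul, h1, sub_self]
  have hDe' : D * e' = 0 := by rw [he', Matrix.mul_sub, Matrix.mul_one, h2, sub_self]
  set U := W⁻¹
  set M' := Rᵀ * J * M with hM'
  set K := Mᵀ * J * R with hK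
  set M2 := e' * M with hM2
  have hZ : M' * U * K = G * (L * D * R) := by
    calc M' * U * K = Rᵀ * J * D * R := by rw [hD']; simp only [hM', hK, Matrix.mul_assoc]
      _ = Rᵀ * J * (e * D) * R := by rw [h1]
      _ = G * (L * D * R) := by simp only [hG, he, Matrix.mul_assoc]
  have hM'M2 : M' * U * M2ᵀ = 0 := by
    calc M' * U * M2ᵀ = M' * U * (Mᵀ * (e'ᵀ * J) * J⁻¹) := by
          rw [hM2, transpose_mul, Matrix.mul_assoc Mᵀ, Matrix.mul_assoc e'ᵀ, Matrix.mul_nonsing_inv _ hJ,
            Matrix.mul_one]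
      _ = Rᵀ * J * (D * e') * J⁻¹ := by rw [hJe', hD']; simp only [hM', Matrix.mul_assoc]
      _ = 0 := by rw [hDe', Matrix.mul_zero, Matrix.zero_mul]
  have hM2M2 : M2 * U * M2ᵀ = 0 := by
    calc M2 * U * M2ᵀ = e' * M * U * (Mᵀ * (e'ᵀ * J) * J⁻¹) := by
          rw [hM2, transpose_mul, Matrix.mul_assoc Mᵀ, Matrix.mul_assoc e'ᵀ, Matrix.mul_nonsing_inv _ hJ,
            Matrix.mul_one]
      _ = e' * D * e' * J⁻¹ := by rw [hJe', hD']; simp only [Matrix.mul_assoc]
      _ = 0 := by rw [he'D, Matrix.zero_mul, Matrix.zero_mul]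
  have hsplit : K * Gi * M' + M2ᵀ * J * M2 = Mᵀ * J * M := by
    have e1 : K * Gi * M' = Mᵀ * J * (R * Gi * Rᵀ * J) * M := by simp only [hK, hM', Matrix.mul_assoc]
    have e2 : M2ᵀ * J * M2 = Mᵀ * (e'ᵀ * J) * e' * M := by simp only [hM2, transpose_mul, Matrix.mul_assoc]
    have e3 : e' * e' = e' := by
      rw [he', Matrix.mul_sub, Matrix.mul_one, Matrix.sub_mul, Matrix.one_mul, hee, sub_self, sub_zero]
    rw [e1, e2, hRG, hJe', ← Matrix.add_mul]
    congr 1
    rw [Matrix.mul_assoc Mᵀ (J * e'), Matrix.mul_assoc J e', e3, ← Matrix.mul_assoc Mᵀ J, ← Matrix.mul_add, he',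
      add_sub_cancel, Matrix.mul_one]
  set h : F := (2 : F)⁻¹ with hh
  let X : Matrix (ι ⊕ Fin r) (ι ⊕ Fin r) F := fromBlocks W K M' 0
  let X1 : Matrix (ι ⊕ Fin r) (ι ⊕ Fin r) F := fromBlocks (W - h • (K * Gi * M')) K M' 0
  let X2 : Matrix (ι ⊕ Fin r) (ι ⊕ Fin r) F := fromBlocks (W - h • (Mᵀ * J * M)) K M' 0
  have hX : X.det = W.det * ((-1) ^ r * (G.det * (L * D * R).det)) := by
    letI : Invertible W := Matrix.invertibleOfIsUnitDet _ (isUnit_iff_ne_zero.2 hWne)
    show (fromBlocks W K M' 0).det = _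
    rw [det_fromBlocks₁₁, Matrix.invOf_eq_nonsing_inv, zero_sub, det_neg, Fintype.card_fin, hZ, det_mul]
  have hX1 : X1.det = X.det := by
    have e1 : fromBlocks 1 (-(h • (K * Gi))) 0 1 * X = X1 := by
      simp only [X, X1, fromBlocks_multiply, Matrix.one_mul, Matrix.zero_mul, Matrix.mul_zero, zero_add, add_zero,
        Matrix.neg_mul, Matrix.smul_mul, sub_eq_add_neg]
    rw [← e1, det_mul, det_fromBlocks_zero₂₁, det_one, det_one, one_mul, one_mul]
  have hX2 : X2.det = X1.det := by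
    let P : Matrix (ι ⊕ Fin r) (Fin N) F := fromRows (U * M2ᵀ) 0
    let Q : Matrix (Fin N) (ι ⊕ Fin r) F := fromCols (-(h • (J * M2))) 0
    have hWU : W * U = 1 := Matrix.mul_nonsing_inv _ (isUnit_iff_ne_zero.2 hWne)
    have e1 : X1 * P = fromRows M2ᵀ 0 := by
      simp only [X1, P, fromBlocks_mul_fromRows, Matrix.mul_zero, add_zero, ← Matrix.mul_assoc, hM'M2,
        Matrix.sub_mul, hWU, Matrix.one_mul, Matrix.smul_mul]
      congr 1
      rw [Matrix.mul_assoc (K * Gi) M' U, Matrix.mul_assoc (K * Gi), hM'M2, Matrix.mul_zero, smul_zero, sub_zero]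
    have e2 : X1 * (1 + P * Q) = X2 := by
      rw [Matrix.mul_add, Matrix.mul_one, ← Matrix.mul_assoc, e1]
      simp only [Q, X1, X2, fromRows_mul_fromCols, Matrix.mul_zero, Matrix.zero_mul, fromBlocks_add, add_zero]
      congr 1
      rw [← hsplit, smul_add, Matrix.mul_neg, Matrix.mul_smul, ← Matrix.mul_assoc]
      simp only [Matrix.mul_assoc]
      abel
    have e3 : Q * P = 0 := by
      simp only [Q, P, fromCols_mul_fromRows, Matrix.mul_zero, add_zero, Matrix.neg_mul, Matrix.smul_mul]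
      rw [Matrix.mul_assoc J, ← Matrix.mul_assoc M2, hM2M2, Matrix.mul_zero, smul_zero, neg_zero]
    rw [← e2, det_mul, Matrix.det_one_add_mul_comm, e3, add_zero, det_one, mul_one]
  let S : Matrix (ι ⊕ Fin r) (ι ⊕ Fin r) F := X2 * fromBlocks 1 0 0 (-1)
  have hSd : S.det = W.det * (G.det * (L * D * R).det) := by
    show (X2 * _).det = _
    rw [det_mul, hX2, hX1, hX, det_fromBlocks_zero₂₁, det_one, one_mul, det_neg, det_one, mul_one, Fintype.card_fin,
      mul_assoc, mul_comm ((-1 : F) ^ r * _), ← mul_assoc ((-1 : F) ^ r), ← mul_pow, neg_one_mul, neg_neg, one_pow,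
      one_mul]
  have hGne : G.det ≠ 0 := Matrix.det_ne_zero_of_right_inverse hGGi
  have hS0 : S.det ≠ 0 := by rw [hSd]; exact mul_ne_zero hWne (mul_ne_zero hGne hd)
  have hsk : Sᵀ = -S := by
    have hSb : S = fromBlocks (W - h • (Mᵀ * J * M)) (-K) M' 0 := by
      simp only [S, X2, fromBlocks_multiply, Matrix.mul_one, Matrix.mul_zero, Matrix.mul_neg, add_zero, zero_add,
        neg_zero]
    have hKT : M'ᵀ = K := by simp only [hM', hK, transpose_mul, transpose_transpose, hf.hT, Matrix.mul_assoc]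
    have hKT' : Kᵀ = M' := by rw [← hKT, transpose_transpose]
    rw [hSb, fromBlocks_transpose, fromBlocks_neg, transpose_zero, neg_neg, neg_zero, hKT, transpose_neg, hKT']
    congr 1
    have hs : (Mᵀ * J * M)ᵀ = Mᵀ * J * M := by simp only [transpose_mul, transpose_transpose, hf.hT, Matrix.mul_assoc]
    rw [transpose_sub, transpose_smul, hs, eq_neg_iff_add_eq_zero,
      show Wᵀ - h • (Mᵀ * J * M) + (W - h • (Mᵀ * J * M)) = (W + Wᵀ) - (h + h) • (Mᵀ * J * M) by module, hWT,
      hh, ← two_mul, mul_inv_cancel₀ hf.h2, one_smul, sub_self]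
  have hsq := isSquare_det_alt hf.h2 S hsk hS0
  rw [hSd, mul_comm G.det] at hsq
  show (Forms.spinHom (qf_nondeg hf) (exists_refls hf) (isoEquiv hf g) : ℤ) = _
  rw [Forms.spinHom_eq _ _ hvs, ← hW]
  exact qchar_eq_of_isSquare hWne (mul_ne_zero hd hGne) hsq

/-- Minus the identity. -/
def negOne (hf : Form J) : orthGroup J :=
  ⟨-1, by
    show ((-1 : GL (Fin N) F) : Matrix (Fin N) (Fin N) F)ᵀ * J * ((-1 : GL (Fin N) F) : Matrix (Fin N) (Fin N) F) = J
    simp [Units.val_neg, transpose_neg]⟩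

omit [Fintype F] in
theorem negOne_mat (hf : Form J) :
    ((negOne hf : GL (Fin N) F) : Matrix (Fin N) (Fin N) F) = -1 := by
  simp [negOne, Units.val_neg]

/-- Where `1 + g` is invertible. -/
theorem sp_one_add (hf : Form J) (g : orthGroup J)
    (h : (1 + ((g : GL (Fin N) F) : Matrix (Fin N) (Fin N) F)).det ≠ 0) :
    (sp hf g : ℤ) = quadraticChar F (2 ^ N * (1 + ((g : GL (Fin N) F) : Matrix (Fin N) (Fin N) F)).det) := by
  set A := ((g : GL (Fin N) F) : Matrix (Fin N) (Fin N) F) with hA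
  have key : ∀ x : orthGroup J, (1 - ((x : GL (Fin N) F) : Matrix (Fin N) (Fin N) F)).det ≠ 0 →
      (sp hf x : ℤ) = quadraticChar F ((1 - ((x : GL (Fin N) F) : Matrix (Fin N) (Fin N) F)).det * J.det) := by
    intro x hx
    have h1 : adj J ((1 : Matrix (Fin N) (Fin N) F) * 1) = 1 * 1 := by rw [Matrix.mul_one, adj_one hf.hJ]
    have := sp_eq hf x (R := 1) (L := 1) (Matrix.one_mul 1) h1 rfl (by simp) (by simp) (by simpa using hx)
    simpa using this
  have e1 : ((negOne hf * g : orthGroup J) : GL (Fin N) F).1 = -A := by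
    show ((negOne hf : GL (Fin N) F) : Matrix (Fin N) (Fin N) F) * A = -A
    rw [negOne_mat, neg_one_mul]
  have h2N : (1 - ((negOne hf : GL (Fin N) F) : Matrix (Fin N) (Fin N) F)).det = 2 ^ N := by
    rw [negOne_mat, sub_neg_eq_add, ← two_smul F (1 : Matrix (Fin N) (Fin N) F), det_smul, det_one, mul_one,
      Fintype.card_fin]
  have k1 := key (negOne hf) (by rw [h2N]; exact pow_ne_zero _ hf.h2)
  have k2 := key (negOne hf * g) (by rw [e1, sub_neg_eq_add]; exact h)
  rw [e1, sub_neg_eq_add] at k2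
  rw [h2N] at k1
  rw [map_mul, Units.val_mul, k1, ← mul_comm] at k2
  have hne : quadraticChar F (2 ^ N * J.det) ^ 2 = 1 :=
    quadraticChar_sq_one (mul_ne_zero (pow_ne_zero _ hf.h2) hf.hJ.ne_zero)
  calc (sp hf g : ℤ) = (sp hf g : ℤ) * quadraticChar F (2 ^ N * J.det) ^ 2 := by rw [hne, mul_one]
    _ = quadraticChar F ((1 + A).det * J.det) * quadraticChar F (2 ^ N * J.det) := by rw [← k2]; ring
    _ = quadraticChar F (2 ^ N * (1 + A).det) * quadraticChar F J.det ^ 2 := by simp only [map_mul]; ring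
    _ = _ := by rw [quadraticChar_sq_one hf.hJ.ne_zero, mul_one]

/-- An involution `1 - 2 R L`. -/
theorem sp_invol (hf : Form J) (g : orthGroup J) {r : ℕ} {R : Matrix (Fin N) (Fin r) F}
    {L : Matrix (Fin r) (Fin N) F} (hLR : L * R = 1) (hadj : adj J (R * L) = R * L)
    (hg : ((g : GL (Fin N) F) : Matrix (Fin N) (Fin N) F) = 1 - (2 : F) • (R * L)) :
    (sp hf g : ℤ) = quadraticChar F (2 ^ r * (Rᵀ * J * R).det) := by
  have hee : R * L * (R * L) = R * L := by rw [Matrix.mul_assoc, ← Matrix.mul_assoc L, hLR, Matrix.one_mul]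
  have hd : L * ((2 : F) • (R * L)) * R = (2 : F) • (1 : Matrix (Fin r) (Fin r) F) := by
    rw [Matrix.mul_smul, Matrix.smul_mul, ← Matrix.mul_assoc, hLR, Matrix.one_mul, hLR]
  rw [sp_eq hf g hLR hadj (D := (2 : F) • (R * L)) (by rw [hg, sub_sub_cancel]) (by rw [Matrix.mul_smul, hee])
    (by rw [Matrix.smul_mul, hee]) (by rw [hd, det_smul, det_one, mul_one]; exact pow_ne_zero _ hf.h2), hd,
    det_smul, det_one, mul_one, Fintype.card_fin]

end CfsgLib.ClassCountO
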