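import Cfsg.Agent.ClassCountO.Spin

set_option autoImplicit false
set_option linter.style.haveILetI false

/-!
The spinor norm of an isometry through its characteristic polynomial and the Gram matrix of its generalised
eigenspace at `-1`.
-/

namespace CfsgLib.ClassCountO

open Polynomial Matrix CfsgLib.InvNorm
open CfsgLib.ClassCount (Item IsItem Decomp)
open CfsgLib.ClassCountSp (gen φ_gen φ_aeval_gen_self φ_aeval_gen_ne aeval_ann exists_rep Rt Blk E rho rho_one rho_sub
  rho_mul cst cst_mk bf commute_aeval bf_pow)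
open scoped Classical

variable {F : Type*} [Field F]

/-- What remains of `P` away from `-1`. -/
noncomputable def awayPoly (P : F[X]) : F[X] := P /ₘ (X - C (-1)) ^ P.rootMultiplicity (-1)

/-- Its value at `-1`. -/
noncomputable def kap (P : F[X]) : F := (awayPoly P).eval (-1)

theorem kap_spec {P : F[X]} (hP : P ≠ 0) :
    (X - C (-1)) ^ P.rootMultiplicity (-1) * awayPoly P = P ∧ kap P ≠ 0 :=
  ⟨pow_mul_divByMonic_rootMultiplicity_eq P (-1), eval_divByMonic_pow_rootMultiplicity_ne_zero (-1) hP⟩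

theorem rootMultiplicity_of_eq {P Q : F[X]} {a : ℕ} (h : P = (X - C (-1)) ^ a * Q) (hQ : Q.eval (-1) ≠ 0) :
    P.rootMultiplicity (-1) = a ∧ kap P = Q.eval (-1) := by
  have hQ0 : Q ≠ 0 := fun h0 => hQ (by rw [h0, eval_zero])
  have ha : P.rootMultiplicity (-1) = a := by
    rw [h, rootMultiplicity_mul (mul_ne_zero (pow_ne_zero _ (X_sub_C_ne_zero _)) hQ0),
      rootMultiplicity_X_sub_C_pow, rootMultiplicity_eq_zero hQ, add_zero]
  refine ⟨ha, ?_⟩
  rw [kap, awayPoly, ha, h, mul_divByMonic_cancel_left _ ((monic_X_sub_C _).pow _)]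

theorem exists_idPoly (P : F[X]) : ∃ f : F[X], P = 0 ∨
    ((X - C (-1)) ^ P.rootMultiplicity (-1) ∣ f - 1 ∧ awayPoly P ∣ f) := by
  rcases eq_or_ne P 0 with h | h
  · exact ⟨0, Or.inl h⟩
  obtain ⟨-, hk⟩ := kap_spec h
  have hcop : IsCoprime ((X - C (-1)) ^ P.rootMultiplicity (-1)) (awayPoly P) :=
    ((irreducible_X_sub_C _).coprime_iff_not_dvd.2 fun hd => hk (dvd_iff_isRoot.1 hd)).pow_left
  obtain ⟨u, v, huv⟩ := hcop
  exact ⟨v * awayPoly P, Or.inr ⟨⟨-u, by linear_combination huv⟩, dvd_mul_left _ _⟩⟩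

/-- A polynomial that is `1` at the generalised eigenspace at `-1` and `0` elsewhere. -/
noncomputable def idPoly (P : F[X]) : F[X] := (exists_idPoly P).choose

theorem idPoly_spec {P : F[X]} (hP : P ≠ 0) :
    (X - C (-1)) ^ P.rootMultiplicity (-1) ∣ idPoly P - 1 ∧ awayPoly P ∣ idPoly P :=
  (exists_idPoly P).choose_spec.resolve_left hP

variable {N : ℕ} {J A : Matrix (Fin N) (Fin N) F}

/-- The projection to the generalised eigenspace at `-1`. -/
noncomputable def mIdem (A : Matrix (Fin N) (Fin N) F) : Matrix (Fin N) (Fin N) F := aeval A (idPoly A.charpoly)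

theorem aeval_zero_of_dvd {f : F[X]} (h : A.charpoly ∣ f) : aeval A f = 0 := by
  obtain ⟨g, rfl⟩ := h
  rw [map_mul, Matrix.aeval_self_charpoly, zero_mul]

theorem mIdem_mul_self (A : Matrix (Fin N) (Fin N) F) : mIdem A * mIdem A = mIdem A := by
  obtain ⟨h1, h2⟩ := idPoly_spec A.charpoly_monic.ne_zero
  rw [mIdem, ← map_mul, ← sub_eq_zero, ← map_sub]
  refine aeval_zero_of_dvd ?_
  conv_lhs => rw [← (kap_spec A.charpoly_monic.ne_zero).1]
  rw [show idPoly A.charpoly * idPoly A.charpoly - idPoly A.charpoly =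
    (idPoly A.charpoly - 1) * idPoly A.charpoly by ring]
  exact mul_dvd_mul h1 h2

theorem mIdem_ann (A : Matrix (Fin N) (Fin N) F) :
    aeval A ((X - C (-1) : F[X]) ^ A.charpoly.rootMultiplicity (-1)) * mIdem A = 0 := by
  rw [mIdem, ← map_mul]
  refine aeval_zero_of_dvd ?_
  conv_lhs => rw [← (kap_spec A.charpoly_monic.ne_zero).1]
  exact mul_dvd_mul_left _ (idPoly_spec A.charpoly_monic.ne_zero).2

theorem one_sub_mIdem (A : Matrix (Fin N) (Fin N) F) :
    ∃ z, 1 - mIdem A = z * aeval A ((X - C (-1) : F[X]) ^ A.charpoly.rootMultiplicity (-1)) := by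
  obtain ⟨⟨w, hw⟩, -⟩ := idPoly_spec A.charpoly_monic.ne_zero
  refine ⟨aeval A (-w), ?_⟩
  rw [mIdem, ← map_mul, ← map_one (aeval (R := F) A), ← map_sub]
  congr 1
  linear_combination -hw

theorem commute_mIdem {x : Matrix (Fin N) (Fin N) F} (hx : Commute x A) : Commute x (mIdem A) :=
  commute_aeval hx _

theorem adj_mIdem (hc : Ctx J A) : adj J (mIdem A) = mIdem A := by
  set e := mIdem A with he
  set a := A.charpoly.rootMultiplicity (-1)
  obtain ⟨z, hz⟩ := one_sub_mIdem A
  have hann := mIdem_ann A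
  rw [← he] at hz hann
  have hcB : Commute (adj J A) A := hc.inv_mul.trans hc.mul_inv.symm
  have hadjn : adj J (aeval A ((X - C (-1) : F[X]) ^ a)) = adj J A ^ a * aeval A ((X - C (-1) : F[X]) ^ a) := by
    rw [hc.adj_aeval, map_pow, map_pow, map_neg, map_one, sub_neg_eq_add, map_add, map_add, aeval_X, aeval_X,
      map_one, map_one]
    have h1 : adj J A + 1 = adj J A * (A + 1) := by rw [mul_add, hc.inv_mul, mul_one, add_comm]
    rw [h1, Commute.mul_pow (hcB.add_right (Commute.one_right _))]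
  set n := aeval A ((X - C (-1) : F[X]) ^ a) with hn
  have hBn : Commute (adj J A ^ a) n := commute_aeval (hcB.pow_left a) _
  have hAe : Commute (adj J A ^ a) e := commute_mIdem (hcB.pow_left a)
  have h0 : n * adj J e = 0 := by
    have h1 : adj J e * (adj J A ^ a * n) = 0 := by
      rw [← hadjn, ← adj_mul hc.hJ, hann]; simp [adj]
    have h2 : Commute n (adj J e) := by
      have : Commute (adj J e) A := hc.commute_adj (commute_mIdem (Commute.refl A)).symm
      exact (commute_aeval this _).symm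
    have h3 : Commute (adj J A ^ a) (adj J e) := by
      have he' : Commute (adj J A) (adj J e) := by
        show _ = _
        rw [← adj_mul hc.hJ, ← adj_mul hc.hJ, (commute_mIdem (Commute.refl A)).eq]
      exact he'.pow_left a
    rw [hBn.eq, ← mul_assoc, ← h2.eq, mul_assoc, ← h3.eq, ← mul_assoc, ← hBn.eq] at h1
    have hu : A ^ a * adj J A ^ a = 1 := by
      rw [← hcB.symm.mul_pow, hc.mul_inv, one_pow]
    calc n * adj J e = A ^ a * adj J A ^ a * (n * adj J e) := by rw [hu, one_mul]
      _ = A ^ a * (adj J A ^ a * n * adj J e) := by simp only [mul_assoc]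
      _ = 0 := by rw [h1, mul_zero]
  have hee' : adj J e = e * adj J e := by
    have h1 : (1 - e) * adj J e = 0 := by rw [hz, mul_assoc, h0, mul_zero]
    rw [sub_mul, one_mul, sub_eq_zero] at h1
    exact h1
  conv_rhs => rw [← hc.adj_adj e, hee', adj_mul hc.hJ, hc.adj_adj]
  exact hee'

/-- `x ↦ L x R` on a polynomial matrix. -/
theorem charpoly_split {r : ℕ} {R : Matrix (Fin N) (Fin r) F} {L : Matrix (Fin r) (Fin N) F} (hLR : L * R = 1)
    (hRL : R * L = mIdem A) :
    A.charpoly.rootMultiplicity (-1) = r ∧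
      kap A.charpoly = (-1) ^ (N + r) * ((1 + A) * (1 - mIdem A) + mIdem A).det ∧
      ((1 + A) * (1 - mIdem A) + mIdem A).det ≠ 0 ∧
      ((1 - mIdem A) + (1 - A) * mIdem A).det = 2 ^ r := by
  set e := mIdem A with he
  set a := A.charpoly.rootMultiplicity (-1)
  have hcA : Commute A e := commute_mIdem (Commute.refl A)
  have hee : e * e = e := mIdem_mul_self A
  have hmul : ∀ x y : Matrix (Fin N) (Fin N) F, Commute y e → L * x * R * (L * y * R) = L * (x * y) * R := by
    intro x y hy
    calc L * x * R * (L * y * R) = L * x * (R * L) * y * R := by simp only [Matrix.mul_assoc]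
      _ = L * x * (e * y) * R := by rw [hRL]; simp only [Matrix.mul_assoc]
      _ = L * x * y * (e * R) := by rw [← hy.eq]; simp only [Matrix.mul_assoc]
      _ = _ := by rw [← hRL, Matrix.mul_assoc R L R, hLR, Matrix.mul_one]; simp only [Matrix.mul_assoc]
  set Ar := L * A * R
  set nr := L * (A + 1) * R with hnr
  have hnr' : nr = Ar + 1 := by rw [hnr, Matrix.mul_add, Matrix.mul_one, Matrix.add_mul, hLR]
  have hc1 : Commute (A + 1) e := hcA.add_left (Commute.one_left e)
  have hpow : ∀ k, nr ^ k = L * (A + 1) ^ k * R := by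
    intro k
    induction k with
    | zero => rw [pow_zero, pow_zero, Matrix.mul_one, hLR]
    | succ k ih => rw [pow_succ, ih, hnr, hmul _ _ hc1, pow_succ]
  have hnil : IsNilpotent nr := by
    refine ⟨a, ?_⟩
    have h1 := mIdem_ann A
    rw [map_pow, map_neg, map_one, sub_neg_eq_add, map_add, aeval_X, map_one, ← he] at h1
    rw [hpow, show R = e * R by rw [← hRL, Matrix.mul_assoc, hLR, Matrix.mul_one], Matrix.mul_assoc,
      ← Matrix.mul_assoc _ e, h1, Matrix.zero_mul, Matrix.mul_zero]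
  have hchar : Ar.charpoly = (X - C (-1)) ^ r := by
    have h1 : nr.charpoly = X ^ r := by
      have h := Matrix.isNilpotent_charpoly_sub_pow_of_isNilpotent hnil
      rw [Fintype.card_fin] at h
      exact sub_eq_zero.1 h.eq_zero
    have h2 : Ar = nr - Matrix.scalar (Fin r) (1 : F) := by rw [hnr', map_one, add_sub_cancel_right]
    rw [h2, Matrix.charpoly_sub_scalar, h1, Polynomial.pow_comp, X_comp]
    simp
  -- polynomial matrices
  let Xm : Matrix (Fin N) (Fin N) F[X] := Matrix.charmatrix A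
  let Ep : Matrix (Fin N) (Fin N) F[X] := e.map C
  have hXE : Commute Xm Ep := by
    show (Matrix.scalar (Fin N) (X : F[X]) - A.map C) * e.map C = e.map C * (Matrix.scalar (Fin N) (X : F[X]) - A.map C)
    rw [sub_mul, mul_sub, (Matrix.scalar_commute (X : F[X]) (fun r' => Commute.all _ r') (e.map C)).eq,
      ← Matrix.map_mul, ← Matrix.map_mul, hcA.eq]
  have hEE : Ep * Ep = Ep := by show e.map C * e.map C = _; rw [← Matrix.map_mul, hee]
  have hsplit : Xm = (Xm * (1 - Ep) + Ep) * ((1 - Ep) + Xm * Ep) := by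
    have c1 : Ep * (1 - Ep) = 0 := by rw [mul_sub, mul_one, hEE, sub_self]
    have c2 : (1 - Ep) * (1 - Ep) = 1 - Ep := by rw [sub_mul, one_mul, c1, sub_zero]
    have c3 : (1 - Ep) * Xm = Xm * (1 - Ep) := ((Commute.one_right Xm).sub_right hXE).eq.symm
    have c4 : (1 - Ep) * Ep = 0 := by rw [sub_mul, one_mul, hEE, sub_self]
    have c5 : Xm * (1 - Ep) * (Xm * Ep) = 0 := by
      rw [mul_assoc, ← mul_assoc (1 - Ep), c3, mul_assoc Xm (1 - Ep), c4, mul_zero, mul_zero]
    have c6 : Ep * (Xm * Ep) = Xm * Ep := by rw [← mul_assoc, ← hXE.eq, mul_assoc, hEE]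
    rw [add_mul, mul_add, mul_add, mul_assoc Xm (1 - Ep) (1 - Ep), c2, c5, c1, c6, add_zero, zero_add, ← mul_add,
      sub_add_cancel, mul_one]
  have hdet2 : ((1 - Ep) + Xm * Ep).det = Ar.charpoly := by
    have h1 : (1 - Ep) + Xm * Ep = 1 + ((Xm - 1) * R.map C) * L.map C := by
      rw [Matrix.mul_assoc, ← Matrix.map_mul, hRL]
      show 1 - Ep + Xm * Ep = 1 + (Xm - 1) * Ep
      noncomm_ring
    rw [h1, Matrix.det_one_add_mul_comm, Matrix.charpoly, ← Matrix.mul_assoc, Matrix.mul_sub, Matrix.sub_mul,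
      Matrix.mul_one, ← Matrix.map_mul (L := L) , hLR, Matrix.map_one _ C_0 C_1, add_sub_cancel]
    congr 1
    show L.map C * (Matrix.scalar (Fin N) (X : F[X]) - A.map C) * R.map C =
      Matrix.scalar (Fin r) (X : F[X]) - (L * A * R).map C
    rw [Matrix.mul_sub, Matrix.sub_mul, Matrix.map_mul, Matrix.map_mul]
    congr 1
    rw [Matrix.scalar_apply, Matrix.scalar_apply, ← smul_one_eq_diagonal, ← smul_one_eq_diagonal, Matrix.mul_smul,
      Matrix.mul_one, Matrix.smul_mul, ← Matrix.map_mul, hLR, Matrix.map_one _ C_0 C_1]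
  set Q := (Xm * (1 - Ep) + Ep).det
  have hP : A.charpoly = (X - C (-1)) ^ r * Q := by
    rw [Matrix.charpoly, show A.charmatrix = Xm from rfl, hsplit, det_mul, hdet2, hchar, mul_comm]
  have hQe : Q.eval (-1) = (-1) ^ (N + r) * ((1 + A) * (1 - e) + e).det := by
    have h0 : Q.eval (-1) = ((-1 - A) * (1 - e) + e).det := by
      rw [← coe_evalRingHom, RingHom.map_det, map_add, map_mul, map_sub, map_one]
      have hE : (evalRingHom (-1 : F)).mapMatrix Ep = e := by ext i j; simp [Ep]
      have hX : (evalRingHom (-1 : F)).mapMatrix Xm = -1 - A := by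
        ext i j
        simp only [Xm, RingHom.mapMatrix_apply, Matrix.map_apply, charmatrix_apply, Matrix.sub_apply,
          Matrix.neg_apply, coe_evalRingHom, eval_sub, eval_C]
        rcases eq_or_ne i j with rfl | hne
        · simp
        · simp [hne]
      rw [hE, hX]
    have h1 : (-1 - A) * (1 - e) + e = ((2 : F) • e - 1) * ((1 + A) * (1 - e) + e) := by
      have c0 : e * ((1 + A) * (1 - e) + e) = e := by
        rw [mul_add, ← mul_assoc, ((Commute.one_right e).add_right hcA.symm).eq, mul_assoc, mul_sub e, mul_one, hee,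
          sub_self, mul_zero, zero_add]
      conv_rhs => rw [sub_mul, smul_mul_assoc, c0, one_mul, two_smul]
      noncomm_ring
    have h2 : ((2 : F) • e - 1).det = (-1) ^ (N + r) := by
      have : (2 : F) • e - 1 = -(1 + (-(2 : F) • R) * L) := by
        rw [Matrix.smul_mul, hRL, neg_smul]; abel
      rw [this, det_neg, Matrix.det_one_add_mul_comm, Matrix.mul_smul, hLR, Fintype.card_fin, pow_add]
      congr 1
      rw [show (1 : Matrix (Fin r) (Fin r) F) + -(2 : F) • 1 = (-1 : F) • 1 by module, det_smul, det_one, mul_one,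
        Fintype.card_fin]
    rw [h0, h1, det_mul, h2]
  have hne : ((1 + A) * (1 - e) + e).det ≠ 0 := by
    intro h0
    obtain ⟨v, hv0, hv⟩ := Matrix.exists_mulVec_eq_zero_iff.2 h0
    have h3 : e *ᵥ v = 0 := by
      have := congrArg (e *ᵥ ·) hv
      rw [mulVec_mulVec, mulVec_zero] at this
      rwa [mul_add, ← mul_assoc, ((Commute.one_right e).add_right hcA.symm).eq, mul_assoc, mul_sub e, mul_one, hee,
        sub_self, mul_zero, zero_add] at this
    have h4 : (A + 1) *ᵥ v = 0 := by
      rw [add_mulVec, ← mulVec_mulVec, sub_mulVec, one_mulVec, h3, sub_zero, add_zero, add_comm] at hv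
      exact hv
    obtain ⟨z, hz⟩ := one_sub_mIdem A
    have h5 := congrArg (· *ᵥ v) hz
    simp only [sub_mulVec, one_mulVec, ← he, h3, sub_zero] at h5
    apply hv0
    rcases Nat.eq_zero_or_pos a with ha0 | hpos
    · have hk := (kap_spec A.charpoly_monic.ne_zero).2
      have h6 : aeval A A.charpoly *ᵥ v = kap A.charpoly • v := by
        have hev : A *ᵥ v = (-1 : F) • v := by
          rw [add_mulVec, one_mulVec] at h4
          rw [neg_one_smul, eq_neg_of_add_eq_zero_left h4]
        rw [ClassCountSp.aeval_eigen hev, kap, awayPoly, show A.charpoly.rootMultiplicity (-1) = 0 from ha0, pow_zero,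
          divByMonic_one]
      rw [Matrix.aeval_self_charpoly, zero_mulVec] at h6
      exact (smul_eq_zero.1 h6.symm).resolve_left hk
    · rw [h5, map_pow, map_neg, map_one, sub_neg_eq_add, map_add, aeval_X, map_one,
        ← mulVec_mulVec, show A.charpoly.rootMultiplicity (-1) = a - 1 + 1 by omega, pow_succ, ← mulVec_mulVec, h4,
        mulVec_zero, mulVec_zero]
  have hQ0 : Q.eval (-1) ≠ 0 := by
    rw [hQe]
    exact mul_ne_zero (pow_ne_zero _ (neg_ne_zero.2 one_ne_zero)) hne
  obtain ⟨hr, hk⟩ := rootMultiplicity_of_eq hP hQ0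
  refine ⟨hr, by rw [hk, hQe], hne, ?_⟩
  have h1 : (1 - e) + (1 - A) * e = 1 + ((-A) * R) * L := by
    rw [Matrix.mul_assoc, hRL]; noncomm_ring
  rw [h1, Matrix.det_one_add_mul_comm, ← Matrix.mul_assoc, Matrix.mul_neg, Matrix.neg_mul, ← sub_eq_add_neg]
  have h2 := congrArg (Polynomial.eval (1 : F)) hchar
  rw [Matrix.eval_charpoly, map_one, eval_pow, eval_sub, eval_X, eval_C] at h2
  rw [h2]
  norm_num

variable [Fintype F]

/-- The spinor norm through the eigenspace at `-1`. -/
theorem sp_formula (hf : Form J) (g : orthGroup J) {r : ℕ} {R : Matrix (Fin N) (Fin r) F}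
    {L : Matrix (Fin r) (Fin N) F} (hLR : L * R = 1)
    (hRL : R * L = mIdem ((g : GL (Fin N) F) : Matrix (Fin N) (Fin N) F)) :
    ((g : GL (Fin N) F) : Matrix (Fin N) (Fin N) F).charpoly.rootMultiplicity (-1) = r ∧
      (sp hf g : ℤ) = quadraticChar F (2 ^ N * (-1) ^ (N + r) *
        kap ((g : GL (Fin N) F) : Matrix (Fin N) (Fin N) F).charpoly * (Rᵀ * J * R).det) := by
  set A := ((g : GL (Fin N) F) : Matrix (Fin N) (Fin N) F)
  have hc := hf.ctx g
  set e := mIdem A with he
  obtain ⟨hr, hk, hne, h2r⟩ := charpoly_split hLR hRL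
  refine ⟨hr, ?_⟩
  have hee : e * e = e := mIdem_mul_self A
  have hade : adj J e = e := adj_mIdem hc
  have hinv : (1 - (2 : F) • e) * (1 - (2 : F) • e) = 1 := by
    rw [sub_mul, mul_sub, one_mul, one_mul, mul_sub, mul_one, Matrix.smul_mul, Matrix.mul_smul, hee]
    module
  let iu : GL (Fin N) F := ⟨1 - (2 : F) • e, 1 - (2 : F) • e, hinv, hinv⟩
  have hiu : iu ∈ orthGroup J := by
    show (1 - (2 : F) • e)ᵀ * J * (1 - (2 : F) • e) = J
    have : (1 - (2 : F) • e)ᵀ * J = J * (1 - (2 : F) • e) := by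
      have hJe : eᵀ * J = J * e := by
        calc eᵀ * J = J * adj J e := by
              rw [adj, ← Matrix.mul_assoc, ← Matrix.mul_assoc, Matrix.mul_nonsing_inv _ hf.hJ, Matrix.one_mul]
          _ = J * e := by rw [hade]
      rw [transpose_sub, transpose_one, transpose_smul, Matrix.sub_mul, Matrix.one_mul, Matrix.smul_mul, hJe,
        Matrix.mul_sub, Matrix.mul_one, Matrix.mul_smul]
    rw [this, Matrix.mul_assoc, hinv, Matrix.mul_one]
  let i : orthGroup J := ⟨iu, hiu⟩
  let g1 : orthGroup J := g * i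
  have hi2 : i * i = 1 := Subtype.ext (Units.ext hinv)
  have hg : g = g1 * i := by rw [show g1 = g * i from rfl, mul_assoc, hi2, mul_one]
  have hdet1 : (1 + ((g1 : GL (Fin N) F) : Matrix (Fin N) (Fin N) F)).det =
      ((1 + A) * (1 - e) + e).det * 2 ^ r := by
    rw [← h2r, ← det_mul]
    congr 1
    show 1 + A * (1 - (2 : F) • e) = _
    have hcA : Commute A e := commute_mIdem (Commute.refl A)
    have c1 : e * (1 - e) = 0 := by rw [mul_sub, mul_one, hee, sub_self]
    have c2 : (1 - e) * (1 - e) = 1 - e := by rw [sub_mul, one_mul, c1, sub_zero]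
    have c3 : (1 - e) * ((1 - A) * e) = 0 := by
      rw [← mul_assoc, ← (((Commute.one_left (1 - e)).sub_left ((Commute.one_right A).sub_right hcA))).eq, mul_assoc,
        sub_mul 1 e e, one_mul, hee, sub_self, mul_zero]
    have c4 : e * ((1 - A) * e) = (1 - A) * e := by
      rw [← mul_assoc, ← ((Commute.one_left e).sub_left hcA).eq, mul_assoc, hee]
    rw [add_mul, mul_add, mul_add, mul_assoc (1 + A) (1 - e), c2, mul_assoc (1 + A) (1 - e), c3, c1, c4, mul_zero,
      add_zero, zero_add, two_smul]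
    noncomm_ring
  have hdet1' : (1 + ((g1 : GL (Fin N) F) : Matrix (Fin N) (Fin N) F)).det ≠ 0 := by
    rw [hdet1]; exact mul_ne_zero hne (pow_ne_zero _ hf.h2)
  rw [hg, map_mul, Units.val_mul, sp_one_add hf g1 hdet1', hdet1,
    sp_invol hf i hLR (by rw [hRL]; exact hade) (by rw [hRL]), ← map_mul]
  refine qchar_eq_of_isSquare ?_ ?_ ?_
  · refine mul_ne_zero (mul_ne_zero (pow_ne_zero _ hf.h2) (mul_ne_zero hne (pow_ne_zero _ hf.h2)))
      (mul_ne_zero (pow_ne_zero _ hf.h2) ?_)
    intro h0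
    have hJe : eᵀ * J = J * e := by
      calc eᵀ * J = J * adj J e := by
            rw [adj, ← Matrix.mul_assoc, ← Matrix.mul_assoc, Matrix.mul_nonsing_inv _ hf.hJ, Matrix.one_mul]
        _ = J * e := by rw [hade]
    have hGGi : Rᵀ * J * R * (L * J⁻¹ * Lᵀ) = 1 := by
      calc Rᵀ * J * R * (L * J⁻¹ * Lᵀ) = Rᵀ * (J * e) * J⁻¹ * Lᵀ := by simp only [← hRL, Matrix.mul_assoc]
        _ = Rᵀ * eᵀ * (J * J⁻¹) * Lᵀ := by rw [← hJe]; simp only [Matrix.mul_assoc]
        _ = 1 := by
          rw [Matrix.mul_nonsing_inv _ hf.hJ, Matrix.mul_one, ← transpose_mul, ← transpose_mul, ← transpose_one]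
          congr 1
          rw [← hRL, Matrix.mul_assoc, hLR, Matrix.mul_one, hLR]
    exact Matrix.det_ne_zero_of_right_inverse hGGi h0
  · rw [hk]
    refine mul_ne_zero (mul_ne_zero (mul_ne_zero (pow_ne_zero _ hf.h2) (pow_ne_zero _ (neg_ne_zero.2 one_ne_zero)))
      (mul_ne_zero (pow_ne_zero _ (neg_ne_zero.2 one_ne_zero)) hne)) ?_
    intro h0
    have hJe : eᵀ * J = J * e := by
      calc eᵀ * J = J * adj J e := by
            rw [adj, ← Matrix.mul_assoc, ← Matrix.mul_assoc, Matrix.mul_nonsing_inv _ hf.hJ, Matrix.one_mul]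
        _ = J * e := by rw [hade]
    have hGGi : Rᵀ * J * R * (L * J⁻¹ * Lᵀ) = 1 := by
      calc Rᵀ * J * R * (L * J⁻¹ * Lᵀ) = Rᵀ * (J * e) * J⁻¹ * Lᵀ := by simp only [← hRL, Matrix.mul_assoc]
        _ = Rᵀ * eᵀ * (J * J⁻¹) * Lᵀ := by rw [← hJe]; simp only [Matrix.mul_assoc]
        _ = 1 := by
          rw [Matrix.mul_nonsing_inv _ hf.hJ, Matrix.mul_one, ← transpose_mul, ← transpose_mul, ← transpose_one]
          congr 1
          rw [← hRL, Matrix.mul_assoc, hLR, Matrix.mul_one, hLR]
    exact Matrix.det_ne_zero_of_right_inverse hGGi h0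
  · rw [hk]
    refine ⟨2 ^ N * 2 ^ r * ((1 + A) * (1 - e) + e).det * (Rᵀ * J * R).det, ?_⟩
    have h1 : ((-1 : F) ^ (N + r)) * (-1) ^ (N + r) = 1 := by rw [← mul_pow, neg_one_mul, neg_neg, one_pow]
    linear_combination ((2 : F) ^ N * 2 ^ r * ((1 + A) * (1 - e) + e).det * (Rᵀ * J * R).det) ^ 2 * h1

variable (d : Decomp A)

omit [Fintype F] in
theorem rho_aeval (c : F) (k : ℕ) (f : F[X]) : rho d c k (aeval A f) = f.eval c • 1 := by
  ext i j
  show cst d i.1 (d.φ (aeval A f *ᵥ gen d j.1.1) i.1.1) = _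
  rcases eq_or_ne i j with rfl | h
  · rw [φ_aeval_gen_self, cst_mk]; simp
  · rw [φ_aeval_gen_ne d f (fun e => h (Subtype.ext (Subtype.ext e))), map_zero]
    simp [Matrix.one_apply_ne h]

omit [Fintype F] in
theorem dvd_charpoly (j : Fin d.k) : d.P j ^ d.e j ∣ A.charpoly := by
  have h := φ_aeval_gen_self d A.charpoly j
  rw [Matrix.aeval_self_charpoly, zero_mulVec, map_zero, Pi.zero_apply] at h
  exact AdjoinRoot.mk_eq_zero.1 h.symm

omit [Fintype F] in
theorem idPoly_at (h2 : (2 : F) ≠ 0) (j : Fin d.k) :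
    (d.P j = X - C (-1) → d.P j ^ d.e j ∣ idPoly A.charpoly - 1) ∧
      (d.P j ≠ X - C (-1) → d.P j ^ d.e j ∣ idPoly A.charpoly) := by
  obtain ⟨h1, h0⟩ := idPoly_spec A.charpoly_monic.ne_zero
  obtain ⟨hP, hk⟩ := kap_spec A.charpoly_monic.ne_zero
  have hd := dvd_charpoly d j
  rw [← hP] at hd
  have hcop : IsCoprime (X - C (-1) : F[X]) (awayPoly A.charpoly) :=
    (irreducible_X_sub_C _).coprime_iff_not_dvd.2 fun hd => hk (dvd_iff_isRoot.1 hd)
  constructor
  · intro hj
    rw [hj] at hd ⊢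
    exact ((hcop.pow (m := d.e j) (n := 1)).dvd_of_dvd_mul_right (by rwa [pow_one])).trans h1
  · intro hj
    have hc' : IsCoprime (d.P j) (X - C (-1) : F[X]) := by
      refine (d.item j).irr.coprime_iff_not_dvd.2 fun hd' => hj ?_
      exact eq_of_monic_of_associated (d.item j).monic (monic_X_sub_C _)
        ((d.item j).irr.associated_of_dvd (irreducible_X_sub_C _) hd')
    exact ((hc'.pow).dvd_of_dvd_mul_left hd).trans h0

/-- Without odd blocks at `-1` the Gram matrix there is hyperbolic. -/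
theorem exists_hyperbolic (hc : Ctx J A) (hev : ∀ j : Rt d (-1 : F), Even (d.e j.1)) :
    ∃ (m : ℕ) (R : Matrix (Fin N) (Fin (2 * m)) F) (L : Matrix (Fin (2 * m)) (Fin N) F),
      L * R = 1 ∧ R * L = mIdem A ∧ IsSquare ((-1) ^ m * (Rᵀ * J * R).det) := by
  let H := (j : Rt d (-1 : F)) × Fin (d.e j.1 / 2)
  let ex : H ⊕ H → ℕ := Sum.elim (fun p => p.2.1) fun p => d.e p.1.1 / 2 + p.2.1
  let jj : H ⊕ H → Fin d.k := Sum.elim (fun p => p.1.1) fun p => p.1.1
  have hjj : ∀ p, d.P (jj p) = X - C (-1) := fun p => by rcases p with p | p <;> exact p.1.2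
  have hlt : ∀ p, ex p < d.e (jj p) := fun p => by
    rcases p with p | p
    · show p.2.1 < d.e p.1.1; have := p.2.2; omega
    · show d.e p.1.1 / 2 + p.2.1 < d.e p.1.1; have := p.2.2; omega
  let R0 : Matrix (Fin N) (H ⊕ H) F :=
    Matrix.of fun a p => (aeval A ((X - C (-1) : F[X]) ^ ex p) *ᵥ gen d (jj p)) a
  have hm : ∀ j, (d.P j ^ d.e j).Monic := fun j => (d.item j).monic.pow _
  let Ll : (Fin N → F) →ₗ[F] (H ⊕ H → F) :=
    { toFun := fun v p => (taylor (-1) (AdjoinRoot.modByMonicHom (hm (jj p)) (d.φ v (jj p)))).coeff (ex p)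
      map_add' := fun v w => by funext p; simp
      map_smul' := fun r v => by funext p; simp }
  let L0 := LinearMap.toMatrix' Ll
  have hdeg : ∀ p, (d.P (jj p) ^ d.e (jj p)).natDegree = d.e (jj p) := fun p => by
    rw [natDegree_pow, hjj, natDegree_X_sub_C, mul_one]
  have hLR : L0 * R0 = 1 := by
    ext p p'
    show (L0 *ᵥ (fun a => R0 a p')) p = _
    rw [LinearMap.toMatrix'_mulVec]
    show (taylor (-1) (AdjoinRoot.modByMonicHom (hm (jj p))
      (d.φ (aeval A ((X - C (-1) : F[X]) ^ ex p') *ᵥ gen d (jj p')) (jj p)))).coeff (ex p) = _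
    by_cases h : jj p = jj p'
    · rw [h, φ_aeval_gen_self, AdjoinRoot.modByMonicHom_mk, (modByMonic_eq_self_iff (hm _)).2 (by
        rw [degree_pow, degree_X_sub_C, nsmul_one, degree_eq_natDegree (hm _).ne_zero, hdeg]
        exact_mod_cast hlt p')]
      rw [taylor_pow, map_sub, taylor_X, taylor_C, add_sub_cancel_right, coeff_X_pow, Matrix.one_apply]
      congr 1
      refine propext ⟨fun he => ?_, fun he => by rw [he]⟩
      rcases p with ⟨j, t⟩ | ⟨j, t⟩ <;> rcases p' with ⟨j', t'⟩ | ⟨j', t'⟩ <;>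
        simp only [jj, ex, Sum.elim_inl, Sum.elim_inr] at h he <;>
        obtain rfl : j = j' := Subtype.ext h
      · simp [Fin.ext he]
      · exfalso; have := t.2; omega
      · exfalso; have := t'.2; omega
      · simp [Fin.ext (show t.1 = t'.1 by omega)]
    · rw [φ_aeval_gen_ne d _ h, map_zero, map_zero, coeff_zero,
        Matrix.one_apply_ne fun he => h (congrArg jj he)]
  have hRL : R0 * L0 = mIdem A := by
    refine Matrix.ext_iff_mulVec.2 fun v => d.φ.injective (funext fun i => ?_)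
    rw [mIdem, ClassCount.map_aeval, ← mulVec_mulVec, LinearMap.toMatrix'_mulVec]
    have hexp : R0 *ᵥ Ll v = ∑ p, Ll v p • (aeval A ((X - C (-1) : F[X]) ^ ex p) *ᵥ gen d (jj p)) := by
      funext a
      rw [Finset.sum_apply]
      exact Finset.sum_congr rfl fun p _ => mul_comm _ _
    rw [hexp, map_sum, Finset.sum_apply]
    obtain ⟨hid1, hid0⟩ := idPoly_at d hc.h2 i
    by_cases hi : d.P i = X - C (-1)
    · obtain ⟨s, hs⟩ := hev ⟨i, hi⟩
      simp only at hs
      set w := taylor (-1) (AdjoinRoot.modByMonicHom (hm i) (d.φ v i)) with hw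
      have hterm : ∀ (p : H ⊕ H), d.φ (Ll v p • (aeval A ((X - C (-1) : F[X]) ^ ex p) *ᵥ gen d (jj p))) i =
          if jj p = i then AdjoinRoot.mk (d.P i ^ d.e i) (C (w.coeff (ex p)) * (X - C (-1)) ^ ex p) else 0 := by
        intro p
        rw [map_smul, Pi.smul_apply]
        split_ifs with h
        · subst h
          rw [φ_aeval_gen_self, AdjoinRoot.smul_mk, smul_eq_C_mul]; rfl
        · rw [φ_aeval_gen_ne d _ (fun h' => h h'.symm), smul_zero]
      simp only [hterm]
      rw [← Finset.sum_filter]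
      refine Eq.trans (Finset.sum_nbij' (t := Finset.range (d.e i))
        (g := fun k => AdjoinRoot.mk (d.P i ^ d.e i) (C (w.coeff k) * (X - C (-1)) ^ k)) ex
        (fun k => if h : k < s then Sum.inl ⟨⟨i, hi⟩, ⟨k, by show k < d.e i / 2; omega⟩⟩
          else if h' : k < d.e i then Sum.inr ⟨⟨i, hi⟩, ⟨k - s, by show k - s < d.e i / 2; omega⟩⟩
          else if h'' : 0 < s then Sum.inl ⟨⟨i, hi⟩, ⟨0, by show 0 < d.e i / 2; omega⟩⟩
          else absurd (d.item i).pos (by show ¬ 1 ≤ d.e i; omega))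
        ?_ ?_ ?_ ?_ ?_) ?_
      · intro p hp
        simp only [Finset.mem_coe, Finset.mem_filter, Finset.mem_univ, true_and] at hp
        rw [Finset.mem_range, ← hp]
        exact hlt p
      · intro k hk
        simp only [Finset.mem_coe, Finset.mem_range] at hk
        simp only [Finset.mem_coe, Finset.mem_filter, Finset.mem_univ, true_and]
        by_cases h : k < s
        · rw [dif_pos h]; rfl
        · rw [dif_neg h, dif_pos hk]; rfl
      · intro p hp
        simp only [Finset.mem_coe, Finset.mem_filter, Finset.mem_univ, true_and] at hp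
        rcases p with ⟨⟨j, hj⟩, t⟩ | ⟨⟨j, hj⟩, t⟩
        · obtain rfl : j = i := hp
          have := t.2
          simp only at this
          simp only [ex, Sum.elim_inl]
          rw [dif_pos (by omega)]
        · obtain rfl : j = i := hp
          have := t.2
          simp only at this
          simp only [ex, Sum.elim_inr]
          rw [dif_neg (by omega), dif_pos (by omega)]
          congr 1
          refine Sigma.ext rfl (heq_of_eq (Fin.ext ?_))
          show d.e j / 2 + t.1 - s = t.1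
          omega
      · intro k hk
        simp only [Finset.mem_coe, Finset.mem_range] at hk
        by_cases h : k < s
        · rw [dif_pos h]; rfl
        · rw [dif_neg h, dif_pos hk]
          show d.e i / 2 + (k - s) = k
          omega
      · intro p _; rfl
      have hid : AdjoinRoot.mk (d.P i ^ d.e i) (idPoly A.charpoly) = 1 := by
        rw [← map_one (AdjoinRoot.mk _), AdjoinRoot.mk_eq_mk]; exact hid1 hi
      rw [hid, one_mul, ← map_sum]
      conv_rhs => rw [← AdjoinRoot.mk_leftInverse (hm i) (d.φ v i)]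
      congr 1
      have hlt' : w.natDegree < d.e i := by
        rw [hw, natDegree_taylor]
        obtain ⟨g, hg⟩ := AdjoinRoot.mk_surjective (d.φ v i)
        rw [← hg, AdjoinRoot.modByMonicHom_mk]
        have hd' : (d.P i ^ d.e i).natDegree = d.e i := by rw [natDegree_pow, hi, natDegree_X_sub_C, mul_one]
        refine lt_of_lt_of_eq (natDegree_modByMonic_lt g (hm i) fun h1 => ?_) hd'
        rw [h1, natDegree_one] at hd'
        have := (d.item i).pos
        simp only at this
        omega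
      have hback := sum_taylor_eq (AdjoinRoot.modByMonicHom (hm i) (d.φ v i)) (-1 : F)
      rw [← hw, Polynomial.sum_over_range' _ (fun k => by simp) _ hlt'] at hback
      exact hback
    · rw [Finset.sum_eq_zero fun p _ => by
        rw [map_smul, Pi.smul_apply, φ_aeval_gen_ne d _ (fun h => hi (by rw [h]; exact hjj p)), smul_zero],
        AdjoinRoot.mk_eq_zero.2 (hid0 hi), zero_mul]
  -- the second half is totally isotropic
  set G0 := R0ᵀ * J * R0
  have hiso : ∀ p p' : H, G0 (Sum.inr p) (Sum.inr p') = 0 := by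
    have key : ∀ p p' : H, d.e p'.1.1 ≤ d.e p.1.1 →
        bf J (aeval A ((X - C (-1) : F[X]) ^ ex (Sum.inr p)) *ᵥ gen d p.1.1)
          (aeval A ((X - C (-1) : F[X]) ^ ex (Sum.inr p')) *ᵥ gen d p'.1.1) = 0 := by
      intro p p' hle
      rw [bfPow hc, mulVec_mulVec _ (aeval A _), ← map_mul, ← pow_add]
      obtain ⟨s, hs⟩ := hev p.1
      obtain ⟨s', hs'⟩ := hev p'.1
      obtain ⟨t, ht⟩ : ∃ t, ex (Sum.inr p) + ex (Sum.inr p') = t + d.e p'.1.1 :=
        ⟨ex (Sum.inr p) + ex (Sum.inr p') - d.e p'.1.1, by simp only [ex, Sum.elim_inr]; omega⟩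
      have h0 := aeval_ann d p'.1.1
      rw [p'.1.2] at h0
      rw [ht, pow_add, map_mul, ← mulVec_mulVec, h0, mulVec_zero, mulVec_zero]
      simp [ClassCountSp.bf]
    intro p p'
    have he : G0 (Sum.inr p) (Sum.inr p') = bf J (aeval A ((X - C (-1) : F[X]) ^ ex (Sum.inr p)) *ᵥ gen d p.1.1)
        (aeval A ((X - C (-1) : F[X]) ^ ex (Sum.inr p')) *ᵥ gen d p'.1.1) := by
      show (R0ᵀ * J * R0) _ _ = _
      rw [Matrix.mul_assoc, Matrix.mul_apply, ClassCountSp.bf, dotProduct]
      rfl
    rcases le_total (d.e p'.1.1) (d.e p.1.1) with h | h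
    · rw [he, key p p' h]
    · rw [he, hc.bf_swap, key p' p h]
  obtain ⟨e⟩ : Nonempty (H ⊕ H ≃ Fin (2 * Fintype.card H)) :=
    ⟨Fintype.equivFinOfCardEq (by rw [Fintype.card_sum]; ring)⟩
  refine ⟨Fintype.card H, R0.submatrix id e.symm, L0.submatrix e.symm id, ?_, ?_, ?_⟩
  · rw [← Matrix.submatrix_mul _ _ _ _ _ Function.bijective_id, hLR, submatrix_one_equiv]
  · rw [Matrix.submatrix_mul_equiv, hRL, Matrix.submatrix_id_id]
  · have hd : ((R0.submatrix id e.symm)ᵀ * J * R0.submatrix id e.symm).det = G0.det := by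
      rw [transpose_submatrix, ← Matrix.submatrix_id_id J, ← Matrix.submatrix_mul _ _ _ _ _ Function.bijective_id,
        ← Matrix.submatrix_mul _ _ _ _ _ Function.bijective_id, det_submatrix_equiv_self]
    rw [hd]
    have hblk : G0 = fromBlocks G0.toBlocks₁₁ G0.toBlocks₁₂ G0.toBlocks₁₂ᵀ 0 := by
      have hs : G0ᵀ = G0 := by simp only [G0, transpose_mul, transpose_transpose, hc.hT, Matrix.mul_assoc]
      conv_lhs => rw [← fromBlocks_toBlocks G0]
      congr 1
      · ext i j; exact (congrFun (congrFun hs (Sum.inr i)) (Sum.inl j)).symm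
      · ext i j; exact hiso i j
    set sw : Matrix (H ⊕ H) (H ⊕ H) F := fromBlocks 0 1 1 0
    have hsw : sw.det = (-1) ^ Fintype.card H := by
      have : sw = fromBlocks 1 1 0 1 * fromBlocks 1 0 (-1) 1 * fromBlocks 1 1 0 1 * fromBlocks (-1) 0 0 1 := by
        simp [sw, fromBlocks_multiply]
      rw [this, det_mul, det_mul, det_mul, det_fromBlocks_zero₂₁, det_fromBlocks_zero₂₁, det_fromBlocks_zero₁₂,
        det_neg, det_one]
      simp
    have h1 : (G0 * sw).det = G0.toBlocks₁₂.det * G0.toBlocks₁₂.det := by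
      conv_lhs => rw [hblk]
      simp only [sw, fromBlocks_multiply, Matrix.mul_zero, Matrix.mul_one, add_zero, zero_add]
      rw [det_fromBlocks_zero₂₁, det_transpose]
    refine ⟨G0.toBlocks₁₂.det, ?_⟩
    rw [det_mul, hsw] at h1
    linear_combination h1
where
  /-- Powers of `A + 1` across the form. -/
  bfPow {J A : Matrix (Fin N) (Fin N) F} (hc : Ctx J A) {m : ℕ} {u v : Fin N → F} :
      bf J (aeval A ((X - C (-1) : F[X]) ^ m) *ᵥ u) v =
        bf J u (adj J A ^ m *ᵥ (aeval A ((X - C (-1) : F[X]) ^ m) *ᵥ v)) := by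
    rw [hc.bf_adj, hc.adj_aeval, map_pow, map_pow, map_neg, map_one, sub_neg_eq_add, map_add, map_add, aeval_X,
      aeval_X, map_one, map_one,
      show adj J A + 1 = adj J A * (A + 1) by rw [mul_add, hc.inv_mul, mul_one, add_comm],
      Commute.mul_pow (Commute.add_right (show Commute (adj J A) A from hc.inv_mul.trans hc.mul_inv.symm)
        (Commute.one_right _)), mulVec_mulVec]

end CfsgLib.ClassCountO
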