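import Cfsg.Agent.ClassCountO.Lower
import Cfsg.Agent.ClassCountO.Numeric
import Cfsg.Prelude.Def_Classical

set_option autoImplicit false
set_option linter.style.haveILetI false

/-!
The isometry group of a quadratic form `v ↦ vᵀ S v` in matrix terms; the two even-dimensional forms.
-/

namespace CfsgLib.ClassCountO

open Matrix
open scoped Classical

variable {F : Type*} [Field F]

theorem mem_iff_gram {ι : Type} [Fintype ι] [DecidableEq ι] (h2 : (2 : F) ≠ 0) (Q : (ι → F) → F)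
    (S : Matrix ι ι F) (hQ : ∀ v, Q v = v ⬝ᵥ S *ᵥ v) (g : GL ι F) :
    g ∈ Cfsg.isometryGroup F Q ↔
      (g : Matrix ι ι F)ᵀ * (S + Sᵀ) * (g : Matrix ι ι F) = S + Sᵀ := by
  set A := (g : Matrix ι ι F)
  have hsymm : ∀ (T : Matrix ι ι F) (v : ι → F), v ⬝ᵥ Tᵀ *ᵥ v = v ⬝ᵥ T *ᵥ v := fun T v => by
    rw [dotProduct_comm, Matrix.mulVec_transpose, ← Matrix.dotProduct_mulVec]
  have key : ∀ v : ι → F, 2 * Q v = v ⬝ᵥ (S + Sᵀ) *ᵥ v := fun v => by
    rw [Matrix.add_mulVec, dotProduct_add, hsymm, hQ, two_mul]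
  have hconj : ∀ (T : Matrix ι ι F) (v : ι → F), (A *ᵥ v) ⬝ᵥ T *ᵥ (A *ᵥ v) = v ⬝ᵥ (Aᵀ * T * A) *ᵥ v := fun T v => by
    rw [← mulVec_mulVec, ← mulVec_mulVec, dotProduct_mulVec v Aᵀ, Matrix.vecMul_transpose]
  constructor
  · intro h
    have h' : ∀ v, Q (A *ᵥ v) = Q v := fun v => h v v
    have hd : ∀ v : ι → F, v ⬝ᵥ (Aᵀ * (S + Sᵀ) * A - (S + Sᵀ)) *ᵥ v = 0 := fun v => by
      rw [Matrix.sub_mulVec, dotProduct_sub, ← hconj, ← key, ← key, h', sub_self]
    set D := Aᵀ * (S + Sᵀ) * A - (S + Sᵀ) with hD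
    have hDT : Dᵀ = D := by
      simp only [hD, transpose_sub, transpose_mul, transpose_add, transpose_transpose, mul_assoc]
      rw [add_comm Sᵀ S]
    refine sub_eq_zero.1 (Matrix.ext fun i j => ?_)
    have h1 := hd (Pi.single i 1 + Pi.single j 1)
    simp only [mulVec_add, dotProduct_add, add_dotProduct] at h1
    rw [hd, hd] at h1
    simp only [single_dotProduct, mulVec_single_one, one_mul, col_apply] at h1
    have h3 : D j i = D i j := congrFun (congrFun hDT i) j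
    have h4 : (2 : F) * D i j = 0 := by linear_combination h1 - h3
    exact (mul_eq_zero.1 h4).resolve_left h2
  · intro h
    intro v _
    show Q (A *ᵥ v) = Q v
    exact mul_left_cancel₀ h2 (by rw [key, key, hconj, h])

/-- The isometry group in matrix terms. -/
theorem card_classes_eq {ι : Type} [Fintype ι] [DecidableEq ι] (h2 : (2 : F) ≠ 0) (Q : (ι → F) → F)
    (S : Matrix ι ι F) (hQ : ∀ v, Q v = v ⬝ᵥ S *ᵥ v) {N : ℕ} (e : ι ≃ Fin N) :
    Nat.card (ConjClasses ↥(Cfsg.isometryGroup F Q)) =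
      Nat.card (ConjClasses ↥(orthGroup ((S + Sᵀ).submatrix e.symm e.symm))) := by
  let φ : GL ι F ≃* GL (Fin N) F := Units.mapEquiv (Matrix.reindexAlgEquiv F F e).toMulEquiv
  have hmap : (Cfsg.isometryGroup F Q).map φ.toMonoidHom = orthGroup ((S + Sᵀ).submatrix e.symm e.symm) := by
    ext g
    obtain ⟨g, rfl⟩ := φ.surjective g
    rw [Subgroup.mem_map_equiv, MulEquiv.symm_apply_apply, mem_iff_gram h2 Q S hQ]
    show _ ↔ ((g : Matrix ι ι F).submatrix e.symm e.symm)ᵀ * _ * (g : Matrix ι ι F).submatrix e.symm e.symm = _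
    rw [transpose_submatrix, submatrix_mul_equiv, submatrix_mul_equiv]
    exact (Equiv.injective (Matrix.reindex e e)).eq_iff.symm
  let ψ := ((Cfsg.isometryGroup F Q).equivMapOfInjective φ.toMonoidHom φ.injective).trans
    (MulEquiv.subgroupCongr hmap)
  refine Nat.card_congr (Equiv.ofBijective (ConjClasses.map ψ.toMonoidHom) ⟨?_, ?_⟩)
  · intro a b hab
    obtain ⟨a, rfl⟩ := ConjClasses.mk_surjective a
    obtain ⟨b, rfl⟩ := ConjClasses.mk_surjective b
    have h := isConj_iff.1 (ConjClasses.mk_eq_mk_iff_isConj.1 hab)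
    obtain ⟨c, hc⟩ := h
    refine ConjClasses.mk_eq_mk_iff_isConj.2 (isConj_iff.2 ⟨ψ.symm c, ψ.injective ?_⟩)
    simp only [map_mul, map_inv, MulEquiv.apply_symm_apply]
    exact hc
  · exact ConjClasses.map_surjective ψ.surjective

theorem form_of_det {ι : Type} [Fintype ι] [DecidableEq ι] (h2 : (2 : F) ≠ 0) (S : Matrix ι ι F) {N : ℕ}
    (e : ι ≃ Fin N) (hd : (S + Sᵀ).det ≠ 0) : Form ((S + Sᵀ).submatrix e.symm e.symm) :=
  ⟨by rw [det_submatrix_equiv_self]; exact isUnit_iff_ne_zero.2 hd,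
    by rw [transpose_submatrix, transpose_add, transpose_transpose, add_comm], h2⟩

/-- The matrix of `Σ xᵢ yᵢ`. -/
def sPlus (F : Type*) [Field F] (m : ℕ) : Matrix (Fin m ⊕ Fin m) (Fin m ⊕ Fin m) F := fromBlocks 0 1 0 0

/-- The matrix of `Σ xᵢ yᵢ + z₁² + a z₁ z₂ + b z₂²`. -/
def sMinus (F : Type*) [Field F] (m : ℕ) (a b : F) :
    Matrix ((Fin m ⊕ Fin m) ⊕ Fin 2) ((Fin m ⊕ Fin m) ⊕ Fin 2) F := fromBlocks (sPlus F m) 0 0 !![1, a; 0, b]

theorem quadFormPlus_eq (m : ℕ) (v : Fin m ⊕ Fin m → F) : Cfsg.quadFormPlus m F v = v ⬝ᵥ sPlus F m *ᵥ v := by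
  rw [sPlus, fromBlocks_mulVec, dotProduct, Fintype.sum_sum_type]
  simp [Cfsg.quadFormPlus]

theorem det_plus_ne (m : ℕ) : (sPlus F m + (sPlus F m)ᵀ).det ≠ 0 := by
  refine Matrix.det_ne_zero_of_right_inverse (B := sPlus F m + (sPlus F m)ᵀ) ?_
  simp [sPlus, fromBlocks_transpose, fromBlocks_add, fromBlocks_multiply, fromBlocks_one]

theorem quadFormMinus_eq (m : ℕ) (a b : F) (v : (Fin m ⊕ Fin m) ⊕ Fin 2 → F) :
    Cfsg.quadFormMinus m F a b v = v ⬝ᵥ sMinus F m a b *ᵥ v := by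
  have h := quadFormPlus_eq m (v ∘ Sum.inl)
  rw [sMinus, fromBlocks_mulVec, dotProduct, Fintype.sum_sum_type]
  simp only [zero_mulVec, add_zero, zero_add, Sum.elim_inl, Sum.elim_inr, Fin.sum_univ_two]
  rw [dotProduct] at h
  simp only [Cfsg.quadFormPlus, Function.comp_apply] at h
  rw [Cfsg.quadFormMinus, h]
  simp only [Matrix.mulVec, dotProduct, Fin.sum_univ_two, Function.comp_apply]
  simp [Matrix.cons_val_zero, Matrix.cons_val_one]
  ring

theorem det_minus_ne (h2 : (2 : F) ≠ 0) (m : ℕ) (a b : F)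
    (hab : ∀ z₁ z₂ : F, z₁ ^ 2 + a * z₁ * z₂ + b * z₂ ^ 2 = 0 → z₁ = 0 ∧ z₂ = 0) :
    (sMinus F m a b + (sMinus F m a b)ᵀ).det ≠ 0 := by
  rw [sMinus, fromBlocks_transpose, fromBlocks_add, transpose_zero, transpose_zero, add_zero, add_zero,
    det_fromBlocks_zero₂₁]
  refine mul_ne_zero (det_plus_ne m) ?_
  rw [det_fin_two]
  simp only [Matrix.add_apply, Matrix.transpose_apply, Matrix.of_apply, Matrix.cons_val_zero, Matrix.cons_val_one,
    Matrix.cons_val', Matrix.empty_val', Matrix.cons_val_fin_one, add_zero, zero_add]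
  intro h
  obtain ⟨-, h'⟩ := hab (-a / 2) 1 (by field_simp; linear_combination h)
  exact one_ne_zero h'

variable [Fintype F]

/-- The bounds for the classes of an orthogonal group in dimension `2 n`. -/
theorem bounds {ι : Type} [Fintype ι] [DecidableEq ι] (h2 : (2 : F) ≠ 0) (hq : 3 ≤ Fintype.card F)
    (Q : (ι → F) → F) (S : Matrix ι ι F) (hQ : ∀ v, Q v = v ⬝ᵥ S *ᵥ v) (hd : (S + Sᵀ).det ≠ 0) {n : ℕ}
    (hn : 2 ≤ n) (hι : Fintype.card ι = 2 * n) :
    Fintype.card F ^ n ≤ 2 * Nat.card (ConjClasses ↥(Cfsg.isometryGroup F Q)) ∧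
      2 * Nat.card (ConjClasses ↥(Cfsg.isometryGroup F Q)) ≤ 19 * Fintype.card F ^ n := by
  let e := Fintype.equivFinOfCardEq hι
  have hf := form_of_det h2 S e hd
  rw [card_classes_eq h2 Q S hQ e]
  refine ⟨card_lower hf rfl hn, (two_mul_card_classes_le hf).trans ?_⟩
  obtain ⟨r, hr⟩ : ∃ r, 2 * n = r + 1 := ⟨2 * n - 1, by omega⟩
  have h := W_add_le hq (r := r) n
  rwa [← hr] at h

end CfsgLib.ClassCountO
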